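import Groth.Agent.IntBC.Normal
import Mathlib

/-!
# Normality of the total space of a flat family with reduced fibres and normal generic fibre
-/

set_option autoImplicit false

universe u

namespace Groth.Agent.CStk17.Ascent

variable {B A C : Type u} [CommRing B] [IsDomain B] [CommRing A] [Algebra B A] [CommRing C] [Algebra A C]
  [IsLocalization (Algebra.algebraMapSubmonoid A (nonZeroDivisors B)) C]

theorem isRegular_algebraMap [Module.Flat B A] {g : B} (hg : g ≠ 0) : IsSMulRegular A (algebraMap B A g) :=
  fun x y h => (IsSMulRegular.of_flat (S := A) (IsSMulRegular.of_ne_zero hg : IsSMulRegular B g)) (by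
    simpa [Algebra.smul_def] using h)

variable (C) in
theorem injective [Module.Flat B A] : Function.Injective (algebraMap A C) :=
  IsLocalization.injective C (M := Algebra.algebraMapSubmonoid A (nonZeroDivisors B)) fun x hx => by
    obtain ⟨g, hg, rfl⟩ := hx
    exact mem_nonZeroDivisors_iff_right.2 fun y hy =>
      (isRegular_algebraMap (nonZeroDivisors.ne_zero hg)) (by simpa [mul_comm] using hy)

/-- Colon ideals commute with flat maps. -/
theorem mem_map_colon [Module.Flat B A] {n : ℕ} (x : Fin n → B) (g : B) (a : A)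
    (h : ∀ i, ∃ a' : A, algebraMap B A (x i) * a = algebraMap B A g * a') :
    a ∈ Ideal.span (algebraMap B A '' {c | ∀ i, g ∣ x i * c}) := by
  classical
  choose a' ha' using h
  let xv : (Fin (n + 1) → B) →ₗ[B] A := Fintype.linearCombination B (Fin.cons a a')
  let f : (Fin n → B) →ₗ[B] (Fin (n + 1) → B) :=
    Fintype.linearCombination B fun i => Pi.single 0 (x i) - Pi.single i.succ g
  have hxf : xv ∘ₗ f = 0 := by
    ext i
    simp [xv, f, Fintype.linearCombination_apply, Pi.single_apply, Fin.sum_univ_succ,
      Fintype.linearCombination_apply_single, (Fin.succ_ne_zero _).symm, sub_smul, ha', Algebra.smul_def, apply_ite (algebraMap B A), ite_mul]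
  obtain ⟨k, q, y, hxy, hqf⟩ := Module.Flat.exists_factorization_of_comp_eq_zero_of_free hxf
  have ha : a = y (q (Pi.single 0 1)) := by
    rw [← LinearMap.comp_apply, ← hxy]
    simp [xv, Fintype.linearCombination_apply_single]
  rw [ha, ← (q (Pi.single 0 1)).univ_sum_single, map_sum]
  refine Ideal.sum_mem _ fun l _ => ?_
  rw [← Finsupp.smul_single_one, map_smul, Algebra.smul_def]
  refine Ideal.mul_mem_right _ _ (Ideal.subset_span ⟨_, fun i => ⟨q (Pi.single i.succ 1) l, ?_⟩, rfl⟩)
  have h2 := DFunLike.congr_fun (LinearMap.congr_fun hqf (Pi.single i 1)) l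
  simp only [LinearMap.comp_apply, LinearMap.zero_apply, f, Fintype.linearCombination_apply_single, one_smul,
    map_sub, Finsupp.sub_apply, Finsupp.zero_apply, sub_eq_zero] at h2
  have e : ∀ (j : Fin (n + 1)) (b : B), Pi.single j b = b • (Pi.single j 1 : Fin (n + 1) → B) := fun j b => by
    rw [← Pi.single_smul', smul_eq_mul, mul_one]
  rw [e 0 (x i), e i.succ g, map_smul, map_smul, Finsupp.smul_apply, Finsupp.smul_apply, smul_eq_mul,
    smul_eq_mul] at h2
  exact h2

theorem mem_range_of_isIntegral [IsNoetherianRing B] [IsIntegrallyClosed B] [Module.Flat B A]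
    (hred : ∀ P : Ideal A, P.IsPrime → P.comap (algebraMap B A) ≠ ⊥ → ∀ a : A,
      a ∈ ((P.comap (algebraMap B A)).map (algebraMap B A)).radical →
        ∃ t ∉ P, t * a ∈ (P.comap (algebraMap B A)).map (algebraMap B A))
    (z : C) (hz : IsIntegral A z) : z ∈ (algebraMap A C).range := by
  by_contra hne
  let φ : B →+* C := (algebraMap A C).comp (algebraMap B A)
  let R : Subring C := (algebraMap A C).range
  let I : C → Ideal B := fun w =>
    { carrier := {d | φ d * w ∈ R}
      add_mem' := fun {a b} ha hb => by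
        show φ (a + b) * w ∈ R
        rw [map_add, add_mul]; exact R.add_mem ha hb
      zero_mem' := by
        show φ 0 * w ∈ R
        rw [map_zero, zero_mul]; exact R.zero_mem
      smul_mem' := fun c x hx => by
        show φ (c * x) * w ∈ R
        rw [map_mul, mul_assoc]; exact R.mul_mem ⟨_, rfl⟩ hx }
  obtain ⟨q, ⟨w, ⟨hwi, hwn⟩, rfl⟩, hmax⟩ :=
    set_has_maximal_iff_noetherian.2 (inferInstance : IsNoetherian B B) (I '' {w | IsIntegral A w ∧ w ∉ R})
      ⟨_, z, ⟨hz, hne⟩, rfl⟩
  let q := I w
  have hqp : q.IsPrime := by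
    refine ⟨fun h => hwn ?_, fun {x y} hxy => ?_⟩
    · have h1 : φ 1 * w ∈ R := (h ▸ Submodule.mem_top : (1 : B) ∈ q)
      rwa [map_one, one_mul] at h1
    · by_contra hh
      push Not at hh
      have hw' : φ x * w ∈ {w | IsIntegral A w ∧ w ∉ R} :=
        ⟨isIntegral_algebraMap.mul hwi, hh.1⟩
      have hle : q ≤ I (φ x * w) := fun d hd => by
        show φ d * (φ x * w) ∈ R
        rw [mul_left_comm]
        exact R.mul_mem ⟨_, rfl⟩ hd
      have hy : y ∈ I (φ x * w) := by
        show φ y * (φ x * w) ∈ R
        rw [← mul_assoc, ← map_mul, mul_comm y]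
        exact hxy
      exact hh.2 ((le_antisymm hle ((hle.lt_or_eq.resolve_left (hmax _ ⟨_, hw', rfl⟩)).ge)).ge hy)
  obtain ⟨⟨a, ⟨_, g, hg, rfl⟩⟩, hsurj⟩ := IsLocalization.surj (Algebra.algebraMapSubmonoid A (nonZeroDivisors B)) w
  have hg0 : g ≠ 0 := nonZeroDivisors.ne_zero hg
  have hga : φ g * w = algebraMap A C a := by rw [mul_comm]; exact hsurj
  have hgq : g ∈ q := ⟨a, hga.symm⟩
  have hcancel : ∀ (c : B), c ≠ 0 → IsUnit (φ c) := fun c hc =>
    IsLocalization.map_units C (⟨algebraMap B A c, c, mem_nonZeroDivisors_of_ne_zero hc, rfl⟩ :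
      Algebra.algebraMapSubmonoid A (nonZeroDivisors B))
  obtain ⟨n, x, hx⟩ := Submodule.fg_iff_exists_fin_generating_family.1 (IsNoetherian.noetherian q)
  have hxq : ∀ i, x i ∈ q := fun i => hx ▸ Submodule.subset_span ⟨i, rfl⟩
  by_cases hp : ∃ p ∈ q, ∃ s ∉ q, ∀ d ∈ q, p ∣ s * d
  · obtain ⟨p, hpq, s, hsq, hdiv⟩ := hp
    have hp0 : p ≠ 0 := by
      rintro rfl
      have := mul_eq_zero.1 (zero_dvd_iff.1 (hdiv g hgq))
      exact this.elim (fun h => hsq (h ▸ q.zero_mem)) hg0
    obtain ⟨a₁, ha₁⟩ := id hpq
    have hrad : a₁ ∈ (q.map (algebraMap B A)).radical := by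
      obtain ⟨P, hP, hPw⟩ := hwi
      refine ⟨P.natDegree, Ideal.span_singleton_le_iff_mem (I := _) |>.2 (Ideal.mem_map_of_mem _ hpq) ?_⟩
      have h0 : Polynomial.eval₂ (algebraMap A C) (algebraMap A C a₁) (P.scaleRoots (algebraMap B A p)) = 0 := by
        rw [ha₁]
        exact Polynomial.scaleRoots_eval₂_eq_zero _ hPw
      rw [Polynomial.eval₂_at_apply, map_eq_zero_iff _ (injective (B := B) C)] at h0
      rw [Polynomial.eval_eq_sum_range, Polynomial.natDegree_scaleRoots, Finset.sum_range_succ,
        Polynomial.coeff_scaleRoots_natDegree, hP.leadingCoeff, one_mul] at h0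
      rw [eq_neg_of_add_eq_zero_right h0]
      refine neg_mem (Ideal.sum_mem _ fun i hi => ?_)
      rw [Polynomial.coeff_scaleRoots, Ideal.mem_span_singleton]
      have : 1 ≤ P.natDegree - i := by have := Finset.mem_range.1 hi; omega
      exact (Dvd.dvd.mul_left (dvd_pow_self _ (by omega)) _).mul_right _
    let J : Ideal A :=
      { carrier := {t | t * a₁ ∈ q.map (algebraMap B A)}
        add_mem' := fun {u v} hu hv => by
          show (u + v) * a₁ ∈ q.map (algebraMap B A)
          rw [add_mul]; exact add_mem hu hv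
        zero_mem' := by
          show 0 * a₁ ∈ q.map (algebraMap B A)
          rw [zero_mul]; exact zero_mem _
        smul_mem' := fun c u hu => by
          show c * u * a₁ ∈ q.map (algebraMap B A)
          rw [mul_assoc]; exact Ideal.mul_mem_left _ c hu }
    obtain ⟨s', hs', hs'a⟩ : ∃ s' ∉ q, algebraMap B A s' * a₁ ∈ q.map (algebraMap B A) := by
      by_contra hh
      push Not at hh
      have hdis : Disjoint (J : Set A) (Algebra.algebraMapSubmonoid A q.primeCompl) :=
        Set.disjoint_right.2 fun _ ⟨s', hs', he⟩ hJ => hh s' hs' (he ▸ hJ)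
      obtain ⟨P, hP, hJP, hPd⟩ := Ideal.exists_le_prime_disjoint _ _ hdis
      have hc : P.comap (algebraMap B A) = q := le_antisymm
        (fun d hd => by by_contra hdq; exact Set.disjoint_left.1 hPd hd ⟨d, hdq, rfl⟩)
        (fun d hd => hJP (show _ * a₁ ∈ _ from Ideal.mul_mem_right _ _ (Ideal.mem_map_of_mem _ hd)))
      obtain ⟨t, htP, ht⟩ := hred P hP (by rw [hc]; exact fun h => hg0 ((Submodule.eq_bot_iff q).1 h g hgq))
        a₁ (by rw [hc]; exact hrad)
      rw [hc] at ht
      exact htP (hJP ht)
    have hspan : algebraMap B A (s * s') * a₁ ∈ Ideal.span {algebraMap B A p} := by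
      have hle : q.map (algebraMap B A) ≤
          (Ideal.span {algebraMap B A p}).colon {algebraMap B A s} := Ideal.map_le_iff_le_comap.2 fun d hd => by
        rw [Ideal.mem_comap, Submodule.mem_colon_singleton, smul_eq_mul, ← map_mul, Ideal.mem_span_singleton, mul_comm]
        exact map_dvd _ (hdiv d hd)
      have := Submodule.mem_colon_singleton.1 (hle hs'a)
      rwa [smul_eq_mul, mul_comm, ← mul_assoc, ← map_mul] at this
    obtain ⟨a₂, ha₂⟩ := Ideal.mem_span_singleton'.1 hspan
    have hss : s * s' ∈ q := by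
      refine ⟨a₂, (hcancel p hp0).mul_left_cancel ?_⟩
      calc φ p * algebraMap A C a₂ = algebraMap A C (a₂ * algebraMap B A p) := by
            rw [map_mul, mul_comm]; rfl
        _ = φ (s * s') * algebraMap A C a₁ := by rw [ha₂, map_mul]; rfl
        _ = φ p * (φ (s * s') * w) := by rw [ha₁]; ring
    exact (hqp.mem_or_mem hss).elim hsq hs'
  · push Not at hp
    have hmem : ∀ i, ∃ a' : A, algebraMap B A (x i) * a = algebraMap B A g * a' := fun i => by
      obtain ⟨a', ha'⟩ := hxq i
      refine ⟨a', injective (B := B) C ?_⟩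
      rw [map_mul, map_mul, ← hga, ha']
      show φ (x i) * (φ g * w) = φ g * (φ (x i) * w)
      ring
    have hsub : {c | ∀ i, g ∣ x i * c} ⊆ {c | g ∣ c} := by
      intro c hc
      have hc' : ∀ d ∈ q, g ∣ d * c := fun d hd => by
        rw [← hx] at hd
        induction hd using Submodule.span_induction with
        | mem d hd => obtain ⟨i, rfl⟩ := hd; exact hc i
        | zero => simp
        | add u v _ _ hu hv => rw [add_mul]; exact dvd_add hu hv
        | smul r u _ hu => rw [smul_eq_mul, mul_assoc]; exact hu.mul_left _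
      choose t ht using hc'
      have htq : ∀ d hd, t d hd ∈ q := by
        intro d hd
        by_contra hh
        obtain ⟨e, he, hnd⟩ := hp d hd _ hh
        apply hnd
        refine ⟨t e he, mul_left_cancel₀ hg0 ?_⟩
        calc g * (t d hd * e) = d * c * e := by rw [← mul_assoc, ht d hd]
          _ = d * (e * c) := by ring
          _ = g * (d * t e he) := by rw [ht e he]; ring
      let K := FractionRing B
      have hgK : algebraMap B K g ≠ 0 := IsFractionRing.to_map_ne_zero_of_mem_nonZeroDivisors hg
      let y : K := algebraMap B K c / algebraMap B K g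
      let N : Submodule B K := Submodule.map (Algebra.linearMap B K) q
      have hN : IsIntegral B y := by
        refine isIntegral_of_smul_mem_submodule N ?_ ((IsNoetherian.noetherian q).map _) y ?_
        · intro h
          exact hgK ((Submodule.eq_bot_iff N).1 h _ ⟨g, hgq, rfl⟩)
        · rintro _ ⟨d, hd, rfl⟩
          refine ⟨t d hd, htq d hd, ?_⟩
          show algebraMap B K (t d hd) = y * algebraMap B K d
          rw [div_mul_eq_mul_div, eq_div_iff hgK, ← map_mul, ← map_mul, mul_comm (t d hd), ← ht d hd, mul_comm]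
      obtain ⟨b, hb⟩ := IsIntegrallyClosed.isIntegral_iff.1 hN
      refine ⟨b, IsFractionRing.injective B K ?_⟩
      rw [map_mul, hb, mul_div_cancel₀ _ hgK]
    have ha := mem_map_colon x g a hmem
    have hle : Ideal.span (algebraMap B A '' {c | ∀ i, g ∣ x i * c}) ≤ Ideal.span {algebraMap B A g} :=
      Ideal.span_le.2 (by
        rintro _ ⟨c, hc, rfl⟩
        exact Ideal.mem_span_singleton.2 (map_dvd _ (hsub hc)))
    obtain ⟨a', ha'⟩ := Ideal.mem_span_singleton'.1 (hle ha)
    refine hwn ⟨a', (hcancel g hg0).mul_left_cancel ?_⟩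
    rw [hga, ← ha', map_mul, mul_comm]
    rfl

theorem isDomain [IsLocalRing A] [IsNoetherianRing A] [IsNoetherianRing B] [IsIntegrallyClosed B] [Module.Flat B A]
    (hred : ∀ P : Ideal A, P.IsPrime → P.comap (algebraMap B A) ≠ ⊥ → ∀ a : A,
      a ∈ ((P.comap (algebraMap B A)).map (algebraMap B A)).radical →
        ∃ t ∉ P, t * a ∈ (P.comap (algebraMap B A)).map (algebraMap B A))
    (hC : EGA4.IsNormalRing C) : IsDomain A := by
  haveI : IsNoetherianRing C :=
    IsLocalization.isNoetherianRing (Algebra.algebraMapSubmonoid A (nonZeroDivisors B)) C inferInstance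
  have hinj := injective (B := B) (A := A) C
  haveI : NoZeroDivisors A := ⟨fun {a b} hab => by
    obtain ⟨e, he, hea, heb⟩ :=
      IntBC.idemSep_of_noetherian hC (algebraMap A C a) (algebraMap A C b) (by rw [← map_mul, hab, map_zero])
    have hint : IsIntegral A e := ⟨Polynomial.X ^ 2 - Polynomial.X,
      Polynomial.monic_X_pow_sub (by simp), by simp [pow_two, he.eq]⟩
    obtain ⟨e', rfl⟩ := mem_range_of_isIntegral hred e hint
    have he' : IsIdempotentElem e' := hinj (by rw [map_mul]; exact he)
    rcases IsLocalRing.isUnit_or_isUnit_one_sub_self e' with hu | hu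
    · have : e' = 1 := hu.mul_left_cancel (by rw [he'.eq, mul_one])
      subst this
      exact Or.inl (hinj (by simpa using hea))
    · have : e' = 0 := hu.mul_left_cancel (by rw [sub_mul, one_mul, he'.eq, sub_self, mul_zero])
      subst this
      exact Or.inr (hinj (by simpa using heb.symm))⟩
  exact NoZeroDivisors.to_isDomain A

theorem isIntegrallyClosed [IsLocalRing A] [IsNoetherianRing A] [IsNoetherianRing B] [IsIntegrallyClosed B]
    [Module.Flat B A]
    (hred : ∀ P : Ideal A, P.IsPrime → P.comap (algebraMap B A) ≠ ⊥ → ∀ a : A,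
      a ∈ ((P.comap (algebraMap B A)).map (algebraMap B A)).radical →
        ∃ t ∉ P, t * a ∈ (P.comap (algebraMap B A)).map (algebraMap B A))
    (hC : EGA4.IsNormalRing C) : IsIntegrallyClosed A := by
  haveI := isDomain hred hC
  have hinj := injective (B := B) (A := A) C
  have hM : Algebra.algebraMapSubmonoid A (nonZeroDivisors B) ≤ nonZeroDivisors A := by
    rintro _ ⟨g, hg, rfl⟩
    exact mem_nonZeroDivisors_of_ne_zero fun h =>
      nonZeroDivisors.ne_zero hg (by
        by_contra hh
        exact zero_ne_one (α := A) ((isRegular_algebraMap hh) (by simp [h])))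
  haveI : IsDomain C := IsLocalization.isDomain_of_le_nonZeroDivisors C hM
  letI : Algebra C (FractionRing A) := IsLocalization.localizationAlgebraOfSubmonoidLe C (FractionRing A)
    (Algebra.algebraMapSubmonoid A (nonZeroDivisors B)) (nonZeroDivisors A) hM
  haveI : IsScalarTower A C (FractionRing A) :=
    IsLocalization.localization_isScalarTower_of_submonoid_le C (FractionRing A) _ (nonZeroDivisors A) hM
  haveI : IsFractionRing C (FractionRing A) :=
    IsFractionRing.isFractionRing_of_isDomain_of_isLocalization (Algebra.algebraMapSubmonoid A (nonZeroDivisors B)) C _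
  haveI : IsIntegrallyClosed C := IsIntegrallyClosed.of_localization_maximal fun p _ hp => (hC p).2
  refine (isIntegrallyClosed_iff (FractionRing A)).2 fun {y} hy => ?_
  obtain ⟨w, rfl⟩ := IsIntegrallyClosed.isIntegral_iff.1 (hy.tower_top (A := C))
  obtain ⟨a, rfl⟩ := mem_range_of_isIntegral hred w
    ((isIntegral_algebraMap_iff (IsFractionRing.injective C (FractionRing A))).1 hy)
  exact ⟨a, IsScalarTower.algebraMap_apply A C (FractionRing A) a⟩

end Groth.Agent.CStk17.Ascent
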