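import Groth.Agent.CStk17.Ascent
import Groth.Agent.H23.StalkPrimes
import Groth.Agent.FlatDvr.FibreStalk

/-!
# Normal ascent along flat morphisms with reduced fibres
-/

set_option autoImplicit false
set_option backward.isDefEq.respectTransparency false
set_option backward.isDefEq.respectTransparency.types false

universe u

open CategoryTheory AlgebraicGeometry IsLocalRing

namespace Groth.Agent.CStk17.AscentSch

open Groth.Agent.CDiv6

variable {X S : Scheme.{u}} (f : X ⟶ S)

theorem radical_le_fiber {t : S} [_root_.AlgebraicGeometry.IsReduced (f.fiber t)] (w : ↥(f.fiber t)) :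
    ((maximalIdeal (S.presheaf.stalk (f (f.fiberι t w)))).map (f.stalkMap (f.fiberι t w)).hom).radical ≤
      (maximalIdeal (S.presheaf.stalk (f (f.fiberι t w)))).map (f.stalkMap (f.fiberι t w)).hom := by
  rw [← FlatDvr.ker_stalkMap_fiberι f w]
  rintro a ⟨n, hn⟩
  rw [RingHom.mem_ker, map_pow] at hn
  exact RingHom.mem_ker.2 (IsNilpotent.eq_zero ⟨n, hn⟩)

theorem radical_le (y : X) [_root_.AlgebraicGeometry.IsReduced (f.fiber (f y))] :
    ((maximalIdeal (S.presheaf.stalk (f y))).map (f.stalkMap y).hom).radical ≤
      (maximalIdeal (S.presheaf.stalk (f y))).map (f.stalkMap y).hom := by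
  have := radical_le_fiber f (f.asFiber y)
  rwa [f.fiberι_asFiber y] at this

/-- Normality of a local ring of the total space. -/
theorem isNormal_stalk [IsLocallyNoetherian X] [IsLocallyNoetherian S] [Flat f] (x : X)
    [IsDomain (S.presheaf.stalk (f x))] [IsIntegrallyClosed (S.presheaf.stalk (f x))]
    (hgen : ∀ (y : X) (h : y ⤳ x), (primeOf (h.map f.continuous)).asIdeal = ⊥ →
      IsDomain (X.presheaf.stalk y) ∧ IsIntegrallyClosed (X.presheaf.stalk y))
    (hred : ∀ (y : X) (h : y ⤳ x), (primeOf (h.map f.continuous)).asIdeal ≠ ⊥ →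
      _root_.AlgebraicGeometry.IsReduced (f.fiber (f y))) :
    IsDomain (X.presheaf.stalk x) ∧ IsIntegrallyClosed (X.presheaf.stalk x) := by
  let B := S.presheaf.stalk (f x)
  let A := X.presheaf.stalk x
  letI : Algebra B A := (f.stalkMap x).hom.toAlgebra
  haveI : Module.Flat B A := Flat.stalkMap f x
  have key : ∀ P : Ideal A, P.IsPrime → P.comap (algebraMap B A) ≠ ⊥ → ∀ a : A,
      a ∈ ((P.comap (algebraMap B A)).map (algebraMap B A)).radical →
        ∃ t ∉ P, t * a ∈ (P.comap (algebraMap B A)).map (algebraMap B A) := by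
    intro P hP hne a ha
    obtain ⟨y, h, rfl⟩ := H23.StalkPrimes.exists_point P
    have hc : (primeOf h).asIdeal.comap (algebraMap B A) = (primeOf (h.map f.continuous)).asIdeal :=
      H23.StalkPrimes.comap_primeOf f h
    rw [hc] at hne ha ⊢
    haveI := hred y h hne
    letI := (X.presheaf.stalkSpecializes h).hom.toAlgebra
    haveI := H23.StalkPrimes.isLocalization_primeOf h
    letI := (S.presheaf.stalkSpecializes (h.map f.continuous)).hom.toAlgebra
    haveI := H23.StalkPrimes.isLocalization_primeOf (h.map f.continuous)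
    have hsq : (algebraMap A (X.presheaf.stalk y)).comp (algebraMap B A) =
        (f.stalkMap y).hom.comp (algebraMap B (S.presheaf.stalk (f y))) :=
      (congrArg CommRingCat.Hom.hom (Scheme.Hom.stalkSpecializes_stalkMap f _ _ h)).symm
    have hm : ((primeOf (h.map f.continuous)).asIdeal.map (algebraMap B A)).map
        (algebraMap A (X.presheaf.stalk y)) =
          (maximalIdeal (S.presheaf.stalk (f y))).map (f.stalkMap y).hom := by
      rw [Ideal.map_map, hsq, ← Ideal.map_map]
      congr 1
      exact IsLocalization.AtPrime.map_eq_maximalIdeal (primeOf (h.map f.continuous)).asIdeal _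
    have h1 : algebraMap A (X.presheaf.stalk y) a ∈
        ((primeOf (h.map f.continuous)).asIdeal.map (algebraMap B A)).map (algebraMap A (X.presheaf.stalk y)) := by
      obtain ⟨n, hn⟩ := ha
      rw [hm]
      refine radical_le f y ⟨n, ?_⟩
      rw [← hm, ← map_pow]
      exact Ideal.mem_map_of_mem _ hn
    obtain ⟨t, ht, ht2⟩ :=
      (IsLocalization.algebraMap_mem_map_algebraMap_iff (primeOf h).asIdeal.primeCompl _ _ _).1 h1
    exact ⟨t, ht, ht2⟩
  let C := Localization (Algebra.algebraMapSubmonoid A (nonZeroDivisors B))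
  have hC : EGA4.IsNormalRing C := by
    intro Q hQ
    obtain ⟨y, h, hy⟩ := H23.StalkPrimes.exists_point (Q.comap (algebraMap A C))
    letI := (X.presheaf.stalkSpecializes h).hom.toAlgebra
    haveI := H23.StalkPrimes.isLocalization_primeOf h
    have hbot : (primeOf (h.map f.continuous)).asIdeal = ⊥ := by
      rw [← H23.StalkPrimes.comap_primeOf f h, hy]
      refine (Submodule.eq_bot_iff _).2 fun b hb => ?_
      by_contra hb0
      exact hQ.ne_top (Ideal.eq_top_of_isUnit_mem _ hb
        (IsLocalization.map_units C (⟨_, b, mem_nonZeroDivisors_of_ne_zero hb0, rfl⟩ :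
          Algebra.algebraMapSubmonoid A (nonZeroDivisors B))))
    haveI : IsLocalization.AtPrime (Localization.AtPrime Q) (primeOf h).asIdeal := by
      have h2 := IsLocalization.localization_localization_isLocalization_of_has_all_units
        (Algebra.algebraMapSubmonoid A (nonZeroDivisors B)) Q.primeCompl (Localization.AtPrime Q)
        (S := C) (fun z hz hmem => hQ.ne_top (Ideal.eq_top_of_isUnit_mem _ hmem hz))
      convert! h2 using 2
      ext z
      simp [Ideal.primeCompl, hy]
    let e := (IsLocalization.algEquiv (primeOf h).asIdeal.primeCompl (X.presheaf.stalk y)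
      (Localization.AtPrime Q)).toRingEquiv
    obtain ⟨hd, hn⟩ := hgen y h hbot
    haveI := hd
    haveI := hn
    exact ⟨e.symm.toMulEquiv.isDomain, IsIntegrallyClosed.of_equiv e⟩
  exact ⟨Ascent.isDomain key hC, Ascent.isIntegrallyClosed key hC⟩

end Groth.Agent.CStk17.AscentSch
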