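import Groth.Agent.CStk17.IntegralVC

/-!
# Equal invariants over a complete local domain
-/

set_option autoImplicit false

universe u v

namespace Groth.Agent.CStk17.IntegralVC

open WeierstrassCurve IsLocalRing

theorem smul_eq_self_of_sq_zero {k : Type u} [Field k] {Q : Type v} [CommRing Q] [Algebra k Q]
    (E : WeierstrassCurve k) (hΔ : E.Δ ≠ 0) (N : Ideal Q) (hN : N ^ 2 = ⊥) (D : VariableChange Q)
    (hD : D • E.map (algebraMap k Q) = E.map (algebraMap k Q))
    (hu : (D.u : Q) - 1 ∈ N) (hr : D.r ∈ N) (hs : D.s ∈ N) (ht : D.t ∈ N) : D = 1 := by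
  have mz : ∀ x ∈ N, ∀ y ∈ N, x * y = 0 := fun x hx y hy => by
    rw [← Ideal.mem_bot, ← hN, sq]; exact Ideal.mul_mem_mul hx hy
  obtain ⟨du, hdu⟩ : ∃ du, du = (D.u : Q) - 1 := ⟨_, rfl⟩
  rw [← hdu] at hu
  have hU : (D.u : Q) = 1 + du := by rw [hdu]; ring
  have hi : ((D.u⁻¹ : Qˣ) : Q) = 1 - du := by
    apply D.u.isUnit.mul_left_cancel
    rw [Units.mul_inv, hU]
    linear_combination mz _ hu _ hu
  have p1 := congrArg WeierstrassCurve.a₁ hD
  have p2 := congrArg WeierstrassCurve.a₂ hD
  have p3 := congrArg WeierstrassCurve.a₃ hD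
  have p4 := congrArg WeierstrassCurve.a₄ hD
  have p6 := congrArg WeierstrassCurve.a₆ hD
  simp only [variableChange_a₁, variableChange_a₂, variableChange_a₃, variableChange_a₄, variableChange_a₆,
    WeierstrassCurve.map_a₁, WeierstrassCurve.map_a₂, WeierstrassCurve.map_a₃, WeierstrassCurve.map_a₄,
    WeierstrassCurve.map_a₆, hi] at p1 p2 p3 p4 p6
  have uu := mz _ hu _ hu
  have ur := mz _ hu _ hr
  have us := mz _ hu _ hs
  have ut := mz _ hu _ ht
  have rr := mz _ hr _ hr
  have rs := mz _ hr _ hs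
  have rt := mz _ hr _ ht
  have ss := mz _ hs _ hs
  have st := mz _ hs _ ht
  have tt := mz _ ht _ ht
  obtain ⟨eu, er, es, et⟩ := tangent_eq_zero E hΔ du D.r D.s D.t
    (by linear_combination p1 + 2 * us)
    (by
      linear_combination p2 - (algebraMap k Q E.a₂) * uu + (-2 * algebraMap k Q E.a₁ + du * algebraMap k Q E.a₁) * us +
        (6 - 3 * du) * ur + (1 - du) ^ 2 * ss)
    (by
      linear_combination p3 + (-3 * algebraMap k Q E.a₃ + du * algebraMap k Q E.a₃) * uu +
        (3 * algebraMap k Q E.a₁ - 3 * du * algebraMap k Q E.a₁ + du ^ 2 * algebraMap k Q E.a₁) * ur +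
        (6 - 6 * du + 2 * du ^ 2) * ut)
    (by
      linear_combination p4 + (-6 * algebraMap k Q E.a₄ + 4 * du * algebraMap k Q E.a₄ - du ^ 2 * algebraMap k Q E.a₄) * uu +
        (4 - 6 * du + 4 * du ^ 2 - du ^ 3) *
          (-(algebraMap k Q E.a₃) * us + 2 * algebraMap k Q E.a₂ * ur - algebraMap k Q E.a₁ * ut) +
        (1 - du) ^ 4 * (algebraMap k Q E.a₁ * rs - 3 * rr + 2 * st))
    (by
      linear_combination p6 + (-15 * algebraMap k Q E.a₆ + 20 * du * algebraMap k Q E.a₆ - 15 * du ^ 2 * algebraMap k Q E.a₆ +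
          6 * du ^ 3 * algebraMap k Q E.a₆ - du ^ 4 * algebraMap k Q E.a₆) * uu +
        (6 - 15 * du + 20 * du ^ 2 - 15 * du ^ 3 + 6 * du ^ 4 - du ^ 5) *
          (algebraMap k Q E.a₄ * ur - algebraMap k Q E.a₃ * ut) +
        (1 - du) ^ 6 * (-(algebraMap k Q E.a₂ + D.r) * rr + tt + algebraMap k Q E.a₁ * rt))
  refine VariableChange.ext (Units.ext ?_) er es et
  rw [hU, eu, add_zero]
  rfl

theorem VariableChange.map_ext {A B : Type*} [CommRing A] [CommRing B] (C D : VariableChange A) (f : A →+* B)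
    (h : C.map f = D.map f) : f (C.u : A) = f D.u ∧ f C.r = f D.r ∧ f C.s = f D.s ∧ f C.t = f D.t :=
  ⟨congrArg (fun x : Bˣ => (x : B)) (congrArg VariableChange.u h), congrArg VariableChange.r h,
    congrArg VariableChange.s h, congrArg VariableChange.t h⟩

theorem bijective_algebraMap_of_rigid {k : Type u} [Field k] [IsAlgClosed k] {Q : Type v} [CommRing Q]
    [Nontrivial Q] [Algebra k Q] [Module.Finite k Q] (idem : ∀ e : Q, IsIdempotentElem e → e = 0 ∨ e = 1)
    (E₁ E₂ : WeierstrassCurve k) (hΔ : E₂.Δ ≠ 0) (C : VariableChange Q)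
    (hC : C • E₁.map (algebraMap k Q) = E₂.map (algebraMap k Q))
    (hgen : Algebra.adjoin k ({(C.u : Q), ((C.u⁻¹ : Qˣ) : Q), C.r, C.s, C.t} : Set Q) = ⊤) :
    Function.Bijective (algebraMap k Q) := by
  haveI : IsArtinianRing Q := IsArtinianRing.of_finite k Q
  haveI : IsNoetherianRing Q := inferInstance
  obtain ⟨M, hM⟩ := Ideal.exists_maximal Q
  letI : Field (Q ⧸ M) := Ideal.Quotient.field M
  have hres : Function.Bijective (algebraMap k (Q ⧸ M)) := IsAlgClosed.algebraMap_bijective_of_isIntegral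
  let eκ : k ≃+* (Q ⧸ M) := RingEquiv.ofBijective _ hres
  let ρ : Q →ₐ[k] k :=
    { toRingHom := eκ.symm.toRingHom.comp (Ideal.Quotient.mk M)
      commutes' := fun c => eκ.symm_apply_eq.2 rfl }
  have hρ : ∀ x, ρ x = 0 ↔ x ∈ M := fun x => by
    rw [← Ideal.Quotient.eq_zero_iff_mem]
    exact map_eq_zero_iff eκ.symm eκ.symm.injective
  let π : Q →ₐ[k] Q ⧸ M ^ 2 := Ideal.Quotient.mkₐ k (M ^ 2)
  let σ : Q →ₐ[k] Q ⧸ M ^ 2 := (Algebra.ofId k _).comp ρ
  let N : Ideal (Q ⧸ M ^ 2) := M.map (π : Q →+* Q ⧸ M ^ 2)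
  have hN : N ^ 2 = ⊥ := by rw [← Ideal.map_pow]; exact Ideal.map_quotient_self _
  have hσπ : ∀ x : Q, π x - σ x ∈ N := by
    intro x
    have h : x - algebraMap k Q (ρ x) ∈ M := by rw [← hρ, map_sub, AlgHom.commutes]; exact sub_self _
    have h2 := Ideal.mem_map_of_mem (π : Q →+* Q ⧸ M ^ 2) h
    rw [map_sub] at h2
    simpa [σ] using h2
  let C₁ : VariableChange (Q ⧸ M ^ 2) := C.map (π : Q →+* Q ⧸ M ^ 2)
  let C₀ : VariableChange (Q ⧸ M ^ 2) := C.map (σ : Q →+* Q ⧸ M ^ 2)
  have e : ∀ f : Q →ₐ[k] Q ⧸ M ^ 2,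
      C.map (f : Q →+* Q ⧸ M ^ 2) • E₁.map (algebraMap k (Q ⧸ M ^ 2)) = E₂.map (algebraMap k (Q ⧸ M ^ 2)) := by
    intro f
    rw [← f.comp_algebraMap, ← WeierstrassCurve.map_map E₁, ← WeierstrassCurve.map_map E₂,
      WeierstrassCurve.map_variableChange, hC]
  let D := C₁ * C₀⁻¹
  have eD : D • E₂.map (algebraMap k (Q ⧸ M ^ 2)) = E₂.map (algebraMap k (Q ⧸ M ^ 2)) := by
    rw [mul_smul]
    nth_rw 1 [← e σ]
    rw [inv_smul_smul, e π]
  let g := Ideal.Quotient.mk N
  have hDN : D.map g = 1 := by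
    have hmul : D.map g = C₁.map g * (C₀.map g)⁻¹ := by
      exact ((VariableChange.mapHom g).map_mul C₁ C₀⁻¹).trans
        (congrArg (C₁.map g * ·) ((VariableChange.mapHom g).map_inv C₀))
    rw [hmul, mul_inv_eq_one]
    exact VariableChange.ext (Units.ext (Ideal.Quotient.eq.2 (hσπ _))) (Ideal.Quotient.eq.2 (hσπ _))
      (Ideal.Quotient.eq.2 (hσπ _)) (Ideal.Quotient.eq.2 (hσπ _))
  obtain ⟨gu, gr, gs, gt⟩ := VariableChange.map_ext D 1 g (hDN.trans (VariableChange.mapHom g).map_one.symm)
  have hD1 : D = 1 := smul_eq_self_of_sq_zero E₂ hΔ N hN D eD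
    (by simpa [VariableChange.one_def] using Ideal.Quotient.eq.1 gu)
    (by simpa [VariableChange.one_def] using Ideal.Quotient.eq.1 gr)
    (by simpa [VariableChange.one_def] using Ideal.Quotient.eq.1 gs)
    (by simpa [VariableChange.one_def] using Ideal.Quotient.eq.1 gt)
  have hCC : C₁ = C₀ := mul_inv_eq_one.1 hD1
  have hP : π = σ := by
    refine AlgHom.ext_of_adjoin_eq_top hgen ?_
    rintro y (rfl | rfl | rfl | rfl | rfl)
    · exact congrArg (fun D : VariableChange (Q ⧸ M ^ 2) => (D.u : Q ⧸ M ^ 2)) hCC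
    · exact congrArg (fun D : VariableChange (Q ⧸ M ^ 2) => ((D.u⁻¹ : (Q ⧸ M ^ 2)ˣ) : Q ⧸ M ^ 2)) hCC
    · exact congrArg VariableChange.r hCC
    · exact congrArg VariableChange.s hCC
    · exact congrArg VariableChange.t hCC
  have hMM : M * M = M := by
    refine le_antisymm Ideal.mul_le_left fun x hx => ?_
    rw [← sq, ← Ideal.Quotient.eq_zero_iff_mem]
    show π x = 0
    rw [hP]
    show algebraMap k _ (ρ x) = 0
    rw [(hρ x).2 hx, map_zero]
  obtain ⟨e, he, heM⟩ := (Ideal.isIdempotentElem_iff_of_fg M (IsNoetherian.noetherian M)).1 hMM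
  have hbot : M = ⊥ := by
    rcases idem e he with h | h
    · rw [heM, h]; exact Ideal.span_singleton_eq_bot.2 rfl
    · exact absurd (by rw [heM, h]; exact Ideal.span_singleton_one) hM.ne_top
  refine ⟨(algebraMap k Q).injective, fun x => ⟨ρ x, ?_⟩⟩
  have h : ρ (algebraMap k Q (ρ x) - x) = 0 := by rw [map_sub, AlgHom.commutes]; exact sub_self _
  rw [hρ, hbot, Ideal.mem_bot, sub_eq_zero] at h
  exact h

theorem adjoin_image_eq_top {R k A B : Type*} [CommRing R] [CommRing k] [CommRing A] [CommRing B] [Algebra R k]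
    [Algebra R A] [Algebra R B] [Algebra k B] [IsScalarTower R k B] {q : A →ₐ[R] B} (hq : Function.Surjective q)
    {s : Set A} (hs : Algebra.adjoin R s = ⊤) {t : Set B} (hst : q '' s ⊆ t) : Algebra.adjoin k t = ⊤ := by
  refine top_le_iff.1 fun x _ => ?_
  obtain ⟨x, rfl⟩ := hq x
  have h2 : q x ∈ (Algebra.adjoin R s).map q := ⟨x, hs.symm ▸ Algebra.mem_top, rfl⟩
  rw [AlgHom.map_adjoin] at h2
  exact Algebra.adjoin_le (S := (Algebra.adjoin k t).restrictScalars R)
    (hst.trans Algebra.subset_adjoin) h2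

variable {R : Type u} [CommRing R] [IsDomain R]

/-- Idempotents of the closed fibre of a finite domain over a complete local ring are trivial. -/
theorem idem_trivial [IsNoetherianRing R] [IsLocalRing R] [IsAdicComplete (maximalIdeal R) R]
    {R' : Type v} [CommRing R'] [IsDomain R'] [Algebra R R'] [Module.Finite R R']
    (e : R' ⧸ (maximalIdeal R).map (algebraMap R R')) (he : IsIdempotentElem e) : e = 0 ∨ e = 1 := by
  haveI hcR : IsAdicComplete (maximalIdeal R) R' := Adic7.isAdicComplete_of_finite _ R'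
  let J := (maximalIdeal R).map (algebraMap R R')
  haveI : IsAdicComplete J R' := (IsAdicComplete.map_algebraMap_iff _ _).mpr hcR
  obtain ⟨x, rfl⟩ := Ideal.Quotient.mk_surjective e
  have h1 : x * x - x ∈ J := by rw [← Ideal.Quotient.eq, map_mul]; exact he
  have h2 : IsUnit (Ideal.Quotient.mk J (2 * x - 1)) := by
    refine IsUnit.of_mul_eq_one (Ideal.Quotient.mk J (2 * x - 1)) ?_
    rw [← map_mul, ← map_one (Ideal.Quotient.mk J), Ideal.Quotient.eq]
    convert J.mul_mem_left 4 h1 using 1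
    ring
  obtain ⟨z, hz, hzx⟩ := HenselianRing.is_henselian (R := R') (I := J) (Polynomial.X ^ 2 - Polynomial.X)
    (Polynomial.monic_X_pow_sub (by rw [Polynomial.degree_X]; norm_num)) x
    (by simpa [sq] using h1)
    (by simpa [Polynomial.derivative_pow, one_add_one_eq_two] using h2)
  have : z * (z - 1) = 0 := by simpa [Polynomial.IsRoot.def, mul_sub, sq] using hz
  rw [← Ideal.Quotient.eq.2 hzx]
  rcases mul_eq_zero.1 this with h | h
  · left; rw [h, map_zero]
  · right; rw [sub_eq_zero.1 h, map_one]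

set_option maxHeartbeats 1000000 in
theorem exists_variableChange [IsNoetherianRing R] [IsLocalRing R] [IsAdicComplete (maximalIdeal R) R]
    [IsAlgClosed (ResidueField R)] (W₁ W₂ : WeierstrassCurve R) [W₁.IsElliptic] [W₂.IsElliptic]
    (hj : W₁.j = W₂.j) : ∃ C : VariableChange R, C • W₁ = W₂ := by
  classical
  let L := AlgebraicClosure (FractionRing R)
  let a := algebraMap R L
  have ha : Function.Injective a := by
    rw [show a = (algebraMap (FractionRing R) L).comp (algebraMap R (FractionRing R)) from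
      IsScalarTower.algebraMap_eq R (FractionRing R) L]
    exact (algebraMap (FractionRing R) L).injective.comp (IsFractionRing.injective R (FractionRing R))
  have hjL : (W₁.map a).j = (W₂.map a).j := by
    rw [WeierstrassCurve.map_j, WeierstrassCurve.map_j, hj]
  obtain ⟨C, hC⟩ := WeierstrassCurve.exists_variableChange_of_j_eq (W₁.map a) (W₂.map a) hjL
  obtain ⟨iu, iv, ir, is, it⟩ := integral_of_smul_eq W₁ W₂ C hC
  let S : Set L := {(C.u : L), ((C.u⁻¹ : Lˣ) : L), C.r, C.s, C.t}
  let R' : Subalgebra R L := Algebra.adjoin R S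
  haveI : Module.Finite R R' := (Module.Finite.iff_fg (N := Subalgebra.toSubmodule R')).2
    (fg_adjoin_of_finite (Set.toFinite S) fun x hx => by
      rcases hx with rfl | rfl | rfl | rfl | rfl <;> assumption)
  let u' : R'ˣ := ⟨⟨(C.u : L), Algebra.subset_adjoin (by simp [S])⟩,
    ⟨((C.u⁻¹ : Lˣ) : L), Algebra.subset_adjoin (by simp [S])⟩, Subtype.ext (Units.mul_inv _),
    Subtype.ext (Units.inv_mul _)⟩
  let C' : VariableChange R' := ⟨u', ⟨C.r, Algebra.subset_adjoin (by simp [S])⟩,
    ⟨C.s, Algebra.subset_adjoin (by simp [S])⟩, ⟨C.t, Algebra.subset_adjoin (by simp [S])⟩⟩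
  have hC'map : C'.map (R'.val : R' →+* L) = C := VariableChange.ext (Units.ext rfl) rfl rfl rfl
  have hC' : C' • W₁.map (algebraMap R R') = W₂.map (algebraMap R R') := by
    apply WeierstrassCurve.map_injective (f := (R'.val : R' →+* L)) Subtype.val_injective
    show (C' • W₁.map (algebraMap R R')).map (R'.val : R' →+* L) = (W₂.map (algebraMap R R')).map _
    rw [← WeierstrassCurve.map_variableChange, hC'map, WeierstrassCurve.map_map, WeierstrassCurve.map_map,
      show (R'.val : R' →+* L).comp (algebraMap R R') = a from R'.val.comp_algebraMap]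
    exact hC
  have hgen' : Algebra.adjoin R
      ({(u' : R'), ((u'⁻¹ : R'ˣ) : R'), C'.r, C'.s, C'.t} : Set R') = ⊤ := by
    have h := Algebra.adjoin_adjoin_coe_preimage (R := R) (s := S)
    rw [← h]
    congr 1
    ext ⟨x, hx⟩
    simp [S, C', u', Subtype.ext_iff]
  have key : ∀ (J : Ideal R') (hJ : J = (maximalIdeal R).map (algebraMap R R')) [Nontrivial (R' ⧸ J)]
      [Algebra (ResidueField R) (R' ⧸ J)] [IsScalarTower R (ResidueField R) (R' ⧸ J)],
      Function.Surjective (algebraMap R (R' ⧸ J)) := by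
    intro J hJ _ _ _
    haveI : Module.Finite (ResidueField R) (R' ⧸ J) := Module.Finite.of_restrictScalars_finite R _ _
    let q : R' →ₐ[R] R' ⧸ J := Ideal.Quotient.mkₐ R J
    have hb : Function.Bijective (algebraMap (ResidueField R) (R' ⧸ J)) := by
      refine bijective_algebraMap_of_rigid (by subst hJ; exact fun e he => idem_trivial e he)
        (W₁.map (residue R)) (W₂.map (residue R))
        (by rw [WeierstrassCurve.map_Δ]; exact (W₂.isUnit_Δ.map (residue R)).ne_zero)
        (C'.map (q : R' →+* R' ⧸ J)) ?_ ?_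
      · rw [WeierstrassCurve.map_map, WeierstrassCurve.map_map,
          show (algebraMap (ResidueField R) (R' ⧸ J)).comp (residue R) = (q : R' →+* R' ⧸ J).comp (algebraMap R R') from
            (IsScalarTower.algebraMap_eq R (ResidueField R) _).symm.trans q.comp_algebraMap.symm,
          ← WeierstrassCurve.map_map W₁, ← WeierstrassCurve.map_map W₂,
          WeierstrassCurve.map_variableChange, hC']
      · refine adjoin_image_eq_top (q := q) Ideal.Quotient.mk_surjective hgen' ?_
        rintro _ ⟨y, hy, rfl⟩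
        rcases hy with rfl | rfl | rfl | rfl | rfl <;> simp [C', q, VariableChange.map]
    rw [IsScalarTower.algebraMap_eq R (ResidueField R) (R' ⧸ J)]
    exact hb.2.comp residue_surjective
  have hsurj : Function.Surjective (algebraMap R R') := by
    let J := (maximalIdeal R).map (algebraMap R R')
    have hsurjJ : Function.Surjective (algebraMap R (R' ⧸ J)) := by
      rcases subsingleton_or_nontrivial (R' ⧸ J) with hQ | hQ
      · exact fun x => ⟨0, Subsingleton.elim _ _⟩
      · letI : Algebra (ResidueField R) (R' ⧸ J) :=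
          (Ideal.Quotient.lift (maximalIdeal R) (algebraMap R (R' ⧸ J)) fun x hx =>
            Ideal.Quotient.eq_zero_iff_mem.2 (Ideal.mem_map_of_mem _ hx)).toAlgebra
        haveI : IsScalarTower R (ResidueField R) (R' ⧸ J) := IsScalarTower.of_algebraMap_eq fun x => rfl
        exact key J rfl
    have hle : (⊤ : Submodule R R') ≤
        LinearMap.range (Algebra.linearMap R R') ⊔ maximalIdeal R • (⊤ : Submodule R R') := by
      intro x _
      obtain ⟨y, hy⟩ := hsurjJ (Ideal.Quotient.mk J x)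
      rw [Submodule.mem_sup]
      refine ⟨algebraMap R R' y, ⟨y, rfl⟩, x - algebraMap R R' y, ?_, by ring⟩
      rw [Ideal.smul_top_eq_map]
      show x - algebraMap R R' y ∈ J
      rw [← Ideal.Quotient.eq]
      exact hy.symm
    have := Submodule.le_of_le_smul_of_le_jacobson_bot (Module.Finite.fg_top)
      (maximalIdeal_le_jacobson _) hle
    exact fun x => this (Submodule.mem_top (x := x))
  have hinj : Function.Injective (algebraMap R R') := fun x y h => ha (congrArg Subtype.val h)
  let ε : R ≃+* R' := RingEquiv.ofBijective _ ⟨hinj, hsurj⟩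
  refine ⟨C'.map ε.symm.toRingHom, ?_⟩
  apply WeierstrassCurve.map_injective (f := algebraMap R R') hinj
  show (C'.map ε.symm.toRingHom • W₁).map (algebraMap R R') = W₂.map (algebraMap R R')
  rw [← WeierstrassCurve.map_variableChange, VariableChange.map_map,
    show (algebraMap R R').comp ε.symm.toRingHom = RingHom.id R' from RingHom.ext ε.apply_symm_apply,
    VariableChange.map_id]
  exact hC'

end Groth.Agent.CStk17.IntegralVC
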