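import Groth.Agent.PSLib.Regular
import Groth.Agent.ConormalAlgz.Equiv
import Groth.Agent.LC.CanonComplete
import Groth.Agent.NodeLib.Completion
import Groth.Agent.Adic7.Basic
import Mathlib

/-!
# Completions along étale maps and of polynomial hypersurfaces at the origin
-/

set_option autoImplicit false

universe u

namespace Groth.Agent.CStk17.Cpl

open IsLocalRing MvPolynomial

/-- A flat unramified local homomorphism with trivial residue extension gives the same completion. -/
theorem exists_cpl_equiv_of_etaleLike (A B : Type u) [CommRing A] [IsLocalRing A] [IsNoetherianRing A]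
    [CommRing B] [IsLocalRing B] [IsNoetherianRing B] [Algebra A B] [IsLocalHom (algebraMap A B)]
    [Module.Flat A B] (hm : (maximalIdeal A).map (algebraMap A B) = maximalIdeal B)
    (hres : ∀ b : B, ∃ a : A, b - algebraMap A B a ∈ maximalIdeal B) :
    ∃ e : AdicCompletion (maximalIdeal B) B ≃+* AdicCompletion (maximalIdeal A) A,
      ∀ a, e (algebraMap B _ (algebraMap A B a)) = algebraMap A _ a := by
  let C := AdicCompletion (maximalIdeal B) B
  haveI := NodeLib.isAdicComplete_maximalIdeal B
  haveI := LC.Canon.faithfullyFlat_completion (R := B)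
  haveI : Module.FaithfullyFlat A B := Module.FaithfullyFlat.of_flat_of_isLocalHom
  let f : A →+* C := (algebraMap B C).comp (algebraMap A B)
  have hmC : maximalIdeal C = (maximalIdeal B).map (algebraMap B C) := AdicCompletion.maximalIdeal_eq_map
  have hmap : (maximalIdeal A).map f = maximalIdeal C := by rw [← Ideal.map_map, hm, hmC]
  have hpow : ∀ m, (maximalIdeal C) ^ m = ((maximalIdeal B) ^ m).map (algebraMap B C) := fun m => by
    rw [hmC, Ideal.map_pow]
  haveI : IsAdicComplete ((maximalIdeal A).map f) C := by rw [hmap]; infer_instance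
  have hB : ∀ (m : ℕ) (b : B), ∃ a : A, b - algebraMap A B a ∈ maximalIdeal B ^ m := by
    intro m
    induction m with
    | zero => exact fun b => ⟨0, by simp⟩
    | succ m ih =>
      intro b
      obtain ⟨a, ha⟩ := ih b
      have key : ∀ y ∈ maximalIdeal B ^ m, ∃ a' : A, y - algebraMap A B a' ∈ maximalIdeal B ^ (m + 1) := by
        intro y hy
        rw [← hm, ← Ideal.map_pow] at hy
        induction hy using Submodule.span_induction with
        | mem y hy =>
          obtain ⟨x, -, rfl⟩ := hy
          exact ⟨x, by simp⟩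
        | zero => exact ⟨0, by simp⟩
        | add y z hy hz ihy ihz =>
          obtain ⟨p, hp⟩ := ihy
          obtain ⟨q, hq⟩ := ihz
          refine ⟨p + q, ?_⟩
          convert add_mem hp hq using 1
          rw [map_add]; ring
        | smul c y hy ihy =>
          obtain ⟨p, hp⟩ := ihy
          obtain ⟨c', hc'⟩ := hres c
          refine ⟨c' * p, ?_⟩
          have hy' : y ∈ maximalIdeal B ^ m := by rw [← hm, ← Ideal.map_pow]; exact hy
          convert add_mem (Ideal.mul_mem_left _ (algebraMap A B c') hp)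
            (show (c - algebraMap A B c') * y ∈ maximalIdeal B ^ (m + 1) by
              rw [pow_succ']; exact Ideal.mul_mem_mul hc' hy') using 1
          rw [map_mul, smul_eq_mul]; ring
      obtain ⟨a', ha'⟩ := key _ ha
      refine ⟨a + a', ?_⟩
      convert ha' using 1
      rw [map_add]; ring
  obtain ⟨e, he⟩ := ConormalAlgz.exists_equiv (maximalIdeal A) f
    (fun m c => by
      obtain ⟨y, hy⟩ := Ideal.Quotient.mk_surjective (AdicCompletion.evalₐ (maximalIdeal B) m c)
      obtain ⟨a, ha⟩ := hB m y
      refine ⟨a, ?_⟩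
      rw [hmap, hpow, ← FComplLib.evalₐ_eq_zero_iff _ (IsNoetherian.noetherian _), map_sub]
      show _ - AdicCompletion.evalₐ (maximalIdeal B) m (algebraMap B C (algebraMap A B a)) = 0
      rw [FComplLib.evalₐ_algebraMap, ← hy, ← map_sub, Ideal.Quotient.eq_zero_iff_mem]
      exact ha)
    (fun m d hd => by
      have hB' : (maximalIdeal A ^ m).map (algebraMap A B) = maximalIdeal B ^ m := by rw [Ideal.map_pow, hm]
      rw [hmap, hpow, ← hB'] at hd
      rw [← Ideal.comap_map_eq_self_of_faithfullyFlat (B := B) (maximalIdeal A ^ m),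
        ← Ideal.comap_map_eq_self_of_faithfullyFlat (B := C) ((maximalIdeal A ^ m).map (algebraMap A B))]
      exact hd)
  exact ⟨e, he⟩

variable {K : Type u} [Field K] {n : ℕ}

/-- The power series ring modulo a polynomial. -/
noncomputable abbrev psEq (p : MvPolynomial (Fin n) K) : Ideal (MvPowerSeries (Fin n) K) :=
  Ideal.span {(p : MvPowerSeries (Fin n) K)}

/-- The completion of a polynomial hypersurface at the origin. -/
theorem exists_cpl_equiv_origin (p : MvPolynomial (Fin n) K) (hp : constantCoeff p = 0)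
    (m₀ : Ideal (MvPolynomial (Fin n) K ⧸ Ideal.span {p})) [m₀.IsPrime]
    (hm₀ : m₀ = (idealOfVars (Fin n) K).map (Ideal.Quotient.mk _))
    (A : Type u) [CommRing A] [IsLocalRing A] [IsNoetherianRing A]
    [Algebra (MvPolynomial (Fin n) K ⧸ Ideal.span {p}) A] [IsLocalization.AtPrime A m₀] :
    ∃ e : AdicCompletion (maximalIdeal A) A ≃+* (MvPowerSeries (Fin n) K ⧸ psEq p),
      ∀ q : MvPolynomial (Fin n) K,
        e (algebraMap A _ (algebraMap _ A (Ideal.Quotient.mk (Ideal.span {p}) q))) =
          Ideal.Quotient.mk _ (q : MvPowerSeries (Fin n) K) := by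
  let P := MvPolynomial (Fin n) K
  let S := MvPowerSeries (Fin n) K
  let C := S ⧸ psEq p
  let R := P ⧸ Ideal.span {p}
  let ι : P →+* S := MvPolynomial.coeToMvPowerSeries.ringHom
  have hJ : ∀ m, ((idealOfVars (Fin n) K) ^ m).map ι = PSLib.vars n K ^ m := by
    intro m
    rw [Ideal.map_pow, idealOfVars, Ideal.map_span, PSLib.vars]
    congr 2
    rw [← Set.range_comp]
    congr 1
    funext i
    exact MvPolynomial.coe_X i
  have hmS : maximalIdeal S = PSLib.vars n K := PSLib.maximalIdeal_eq_vars K n
  have hpS : (p : S) ∈ maximalIdeal S := by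
    rw [hmS, PSLib.mem_vars_iff]
    show MvPowerSeries.coeff 0 (p : S) = 0
    rw [MvPolynomial.coeff_coe, ← MvPolynomial.constantCoeff_eq]
    exact hp
  haveI : Nontrivial C := Ideal.Quotient.nontrivial_iff.2 fun h => by
    rw [psEq, Ideal.span_singleton_eq_top] at h
    exact hpS h
  haveI : IsLocalRing C := IsLocalRing.of_surjective' (Ideal.Quotient.mk _) Ideal.Quotient.mk_surjective
  let g : R →+* C := Ideal.Quotient.lift _ ((Ideal.Quotient.mk (psEq p)).comp ι) fun x hx => by
    obtain ⟨y, rfl⟩ := Ideal.mem_span_singleton.1 hx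
    show Ideal.Quotient.mk (psEq p) (ι (p * y)) = 0
    rw [map_mul, Ideal.Quotient.eq_zero_iff_mem]
    exact Ideal.mul_mem_right _ _ (Ideal.mem_span_singleton_self _)
  have hmC : maximalIdeal C = (maximalIdeal S).map (Ideal.Quotient.mk (psEq p)) :=
    (IsLocalRing.map_maximalIdeal_of_surjective _ Ideal.Quotient.mk_surjective).symm
  have hgm : ∀ m, (m₀ ^ m).map g = maximalIdeal C ^ m := by
    intro m
    rw [hm₀, ← Ideal.map_pow, Ideal.map_map]
    show ((idealOfVars (Fin n) K) ^ m).map ((Ideal.Quotient.mk (psEq p)).comp ι) = _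
    rw [← Ideal.map_map, hJ, hmC, hmS, Ideal.map_pow]
  have hinj : ∀ (m : ℕ) (r : R), g r ∈ maximalIdeal C ^ m → r ∈ m₀ ^ m := by
    intro m r hr
    obtain ⟨q, rfl⟩ := Ideal.Quotient.mk_surjective r
    change Ideal.Quotient.mk (psEq p) (ι q) ∈ _ at hr
    rw [hmC, hmS, ← Ideal.map_pow, Ideal.mem_map_iff_of_surjective _ Ideal.Quotient.mk_surjective] at hr
    obtain ⟨w, hw, hwq⟩ := hr
    rw [Ideal.Quotient.eq, psEq, Ideal.mem_span_singleton] at hwq
    obtain ⟨h, hh⟩ := hwq
    let T := MvPowerSeries.truncTotalAlgHom (Fin n) K m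
    have hTw : T w = 0 := by
      rw [MvPowerSeries.truncTotalAlgHom_apply, Ideal.Quotient.eq_zero_iff_mem, mem_pow_idealOfVars_iff']
      intro x hx
      rw [MvPowerSeries.coeff_truncTotal _ hx]
      exact PSLib.coeff_eq_zero_of_mem_pow m w hw x hx
    have hTι : ∀ y : P, T (ι y) = Ideal.Quotient.mk _ y := fun y => T.commutes y
    have e := congrArg T hh
    rw [map_sub, hTw, map_mul, hTι, show T (p : S) = Ideal.Quotient.mk _ p from hTι p, zero_sub] at e
    obtain ⟨h', hh'⟩ := Ideal.Quotient.mk_surjective (T h)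
    rw [← hh', ← map_mul, ← map_neg, Ideal.Quotient.eq] at e
    rw [hm₀, ← Ideal.map_pow]
    have : Ideal.Quotient.mk (Ideal.span {p}) q = Ideal.Quotient.mk (Ideal.span {p}) (-(-q - p * h')) := by
      rw [Ideal.Quotient.eq, Ideal.mem_span_singleton]
      exact ⟨-h', by ring⟩
    rw [this]
    exact Ideal.mem_map_of_mem _ (neg_mem e)
  have hunit : ∀ s : m₀.primeCompl, IsUnit (g s) := by
    rintro ⟨s, hs⟩
    by_contra h
    refine hs ?_
    have := hinj 1 s (by rw [Submodule.pow_one]; exact h)
    rwa [Submodule.pow_one] at this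
  let f : A →+* C := IsLocalization.lift hunit
  have hf : ∀ r, f (algebraMap R A r) = g r := fun r => IsLocalization.lift_eq hunit r
  have hmA : maximalIdeal A = m₀.map (algebraMap R A) := (IsLocalization.AtPrime.map_eq_maximalIdeal m₀ A).symm
  have hmap : ∀ m, (maximalIdeal A ^ m).map f = maximalIdeal C ^ m := by
    intro m
    rw [hmA, ← Ideal.map_pow, Ideal.map_map, show f.comp (algebraMap R A) = g from RingHom.ext hf, hgm]
  have hmap1 : (maximalIdeal A).map f = maximalIdeal C := by simpa using hmap 1
  haveI : IsAdicComplete (maximalIdeal S) S := by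
    rw [hmS]; exact inferInstance
  haveI : IsAdicComplete ((maximalIdeal A).map f) C := by
    rw [hmap1, hmC]
    haveI := Adic7.isAdicComplete_of_finite (maximalIdeal S) C
    exact (IsAdicComplete.map_algebraMap_iff _ _).mpr inferInstance
  obtain ⟨e, he⟩ := ConormalAlgz.exists_equiv (maximalIdeal A) f
    (fun m c => by
      obtain ⟨x, rfl⟩ := Ideal.Quotient.mk_surjective c
      refine ⟨algebraMap R A (Ideal.Quotient.mk _ (MvPowerSeries.truncTotal m x)), ?_⟩
      rw [hmap1, hf, hmC, hmS, ← Ideal.map_pow]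
      show Ideal.Quotient.mk (psEq p) x - Ideal.Quotient.mk (psEq p) (ι _) ∈ _
      rw [← map_sub]
      refine Ideal.mem_map_of_mem _ (PSLib.mem_pow_iff.2 fun d hd => ?_)
      rw [map_sub, sub_eq_zero]
      exact ((MvPolynomial.coeff_coe _ _).trans (MvPowerSeries.coeff_truncTotal _ hd)).symm)
    (fun m d hd => by
      rw [hmap1] at hd
      obtain ⟨⟨r, s⟩, hrs⟩ := IsLocalization.surj m₀.primeCompl d
      have h1 : g r ∈ maximalIdeal C ^ m := by
        rw [← hf, ← hrs, map_mul]
        exact Ideal.mul_mem_right _ _ hd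
      have h2 := Ideal.mem_map_of_mem (algebraMap R A) (hinj m r h1)
      rw [Ideal.map_pow, ← hmA, ← hrs] at h2
      exact (Ideal.mul_unit_mem_iff_mem _ (IsLocalization.map_units A s)).1 h2)
  refine ⟨e.symm, fun q => ?_⟩
  rw [← he, hf, RingEquiv.symm_apply_apply]
  rfl

end Groth.Agent.CStk17.Cpl
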