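import Groth.Agent.AlgSpLib.EtLocalInst
import Groth.Agent.AlgSpC7.FibreDimSp

/-!
# Open loci in the base of a flat, locally finitely presented, universally closed family of algebraic spaces

For a pointwise condition `At` of flat, locally finitely presented morphisms of schemes which is open, invariant under
base change and etale local on the source, the points of the base over which the family has it everywhere form an open
set, and the family has it after a base change exactly when the base change lands in that open.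
-/

set_option autoImplicit false
set_option backward.isDefEq.respectTransparency false
set_option backward.isDefEq.respectTransparency.types false

universe u

open CategoryTheory CategoryTheory.Limits AlgebraicGeometry AlgSp Groth.Agent.AlgSpLib

namespace Groth.Agent.CStk17.FamLocus

/-- A pointwise condition on flat lfp morphisms: open, stable under base change, etale local on the source. -/
structure IsPtCond (At : ∀ {X Y : Scheme.{u}}, (X ⟶ Y) → X → Prop) : Prop where
  isOpen : ∀ {X Y : Scheme.{u}} (g : X ⟶ Y) [Flat g] [LocallyOfFinitePresentation g], IsOpen {x | At g x}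
  baseChange : ∀ {X Y X' Y' : Scheme.{u}} (g : X ⟶ Y) [Flat g] [LocallyOfFinitePresentation g] (φ : Y' ⟶ Y)
    (g' : X' ⟶ Y') (fst : X' ⟶ X), IsPullback fst g' g φ → ∀ x', (At g' x' ↔ At g (fst x'))
  precomp : ∀ {X Y Z : Scheme.{u}} (e : X ⟶ Y) [Etale e] (g : Y ⟶ Z) [Flat g] [LocallyOfFinitePresentation g] (x : X),
    At (e ≫ g) x ↔ At g (e x)

variable {At : ∀ {X Y : Scheme.{u}}, (X ⟶ Y) → X → Prop}

theorem IsPtCond.postcomp (hAt : IsPtCond At) {X Y Z : Scheme.{u}} (h : X ⟶ Y) [Flat h]
    [LocallyOfFinitePresentation h] (b : Y ⟶ Z) [Etale b] (x : X) : At (h ≫ b) x ↔ At h x := by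
  let Γ : X ⟶ pullback (h ≫ b) b := pullback.lift (𝟙 X) h (by simp)
  have hΓ : Etale Γ := MorphismProperty.of_isPullback (pullback_lift_diagonal_isPullback h b)
    (inferInstanceAs (Etale (pullback.diagonal b)))
  have h1 := hAt.precomp Γ (pullback.snd (h ≫ b) b) x
  rw [pullback.lift_snd, hAt.baseChange (h ≫ b) b _ _ (IsPullback.of_hasPullback _ _) (Γ x)] at h1
  rw [h1, ← Scheme.Hom.comp_apply, pullback.lift_fst]
  rfl

variable {S : Scheme.{u}}

/-- A family over a scheme. -/
structure Fam (T : Over S) where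
  /-- the total space -/
  X : Sp S
  /-- the structure map -/
  f : X ⟶ (yon S).obj T
  isAlgSpace : IsAlgSpace X
  flat : LocP @Flat f
  lfp : LocP @LocallyOfFinitePresentation f

variable {T : Over S} (A : Fam T)

/-- An etale chart of the total space. -/
structure Chart where
  /-- the chart -/
  U : Over S
  /-- the chart map -/
  a : (yon S).obj U ⟶ A.X
  etale : RepWith @Etale a
  surj : RepWith @Surjective a
  /-- the composite to the base -/
  g : U ⟶ T
  fac : a ≫ A.f = (yon S).map g

theorem nonempty_chart : Nonempty (Chart A) := by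
  obtain ⟨U, a, h1, h2⟩ := A.isAlgSpace.atlas
  exact ⟨⟨U, a, h1, h2, (yon S).preimage (a ≫ A.f), ((yon S).map_preimage _).symm⟩⟩

variable {A} (c : Chart A)

theorem Chart.flat : Flat c.g.left :=
  A.flat c.a (𝟙 _) c.g c.etale (repWith_id _ T) (by rw [Category.comp_id]; exact c.fac)

theorem Chart.lfp : LocallyOfFinitePresentation c.g.left :=
  A.lfp c.a (𝟙 _) c.g c.etale (repWith_id _ T) (by rw [Category.comp_id]; exact c.fac)

theorem Chart.fac_comp {U' : Over S} (p : U' ⟶ c.U) :
    ((yon S).map p ≫ c.a) ≫ A.f = (yon S).map (p ≫ c.g) := by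
  rw [Category.assoc, c.fac, Functor.map_comp]

/-- The condition does not depend on the chart point above a point of the space. -/
theorem Chart.at_congr (hAt : IsPtCond At) {u₁ u₂ : c.U.left} (h : Points.ofPt c.a u₁ = Points.ofPt c.a u₂) :
    At c.g.left u₁ ↔ At c.g.left u₂ := by
  haveI := c.flat
  haveI := c.lfp
  have sq := c.etale.rep.isPullback' c.a
  obtain ⟨w, hw₁, hw₂⟩ := exists_ofPt_of_eq sq h
  let p : c.etale.rep.pullback c.a ⟶ c.U := c.etale.rep.fst' c.a
  let q : c.etale.rep.pullback c.a ⟶ c.U := c.etale.rep.snd c.a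
  have hpq : p ≫ c.g = q ≫ c.g := by
    apply (yon S).map_injective
    rw [← c.fac_comp, ← c.fac_comp, sq.w]
  haveI : Etale q.left := c.etale.property_snd c.a
  haveI : Etale p.left := c.etale.property c.a _ _ sq.flip
  have e1 := hAt.precomp p.left c.g.left w
  have e2 := hAt.precomp q.left c.g.left w
  rw [← Over.comp_left, hpq, Over.comp_left, hw₁] at e1
  rw [hw₂] at e2
  exact e1.symm.trans e2

/-- The locus in the base of points all of whose chart points satisfy the condition. -/
def Chart.locus (At : ∀ {X Y : Scheme.{u}}, (X ⟶ Y) → X → Prop) : Set T.left :=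
  {t | ∀ u, c.g.left u = t → At c.g.left u}

theorem map_schemeHomeo_image (Z : Set c.U.left) :
    Points.map A.f '' (Points.ofPt c.a '' Z) = Points.schemeHomeo T '' (c.g.left '' Z) := by
  have key : ∀ u, Points.map A.f (Points.ofPt c.a u) = Points.schemeHomeo T (c.g.left u) := fun u => by
    rw [Points.ofPt_eq_map_ofScheme, ← Points.map_comp, c.fac]
    exact Points.map_yon_map_apply c.g u
  ext y
  simp only [Set.mem_image]
  constructor
  · rintro ⟨_, ⟨u, hu, rfl⟩, rfl⟩
    exact ⟨_, ⟨u, hu, rfl⟩, (key u).symm⟩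
  · rintro ⟨_, ⟨u, hu, rfl⟩, rfl⟩
    exact ⟨_, ⟨u, hu, rfl⟩, key u⟩

theorem Chart.isOpen_locus (hAt : IsPtCond At) (huc : IsUnivClosedMor A.f) : IsOpen (c.locus @At) := by
  haveI := c.flat
  haveI := c.lfp
  let Z : Set c.U.left := {u | ¬ At c.g.left u}
  have hsat : Points.ofPt c.a ⁻¹' (Points.ofPt c.a '' Z) = Z := by
    refine Set.Subset.antisymm ?_ (Set.subset_preimage_image _ _)
    rintro u ⟨u', hu', he⟩
    exact fun h => hu' ((c.at_congr hAt he).2 h)
  have hcl : IsClosed (Points.ofPt c.a '' Z) := by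
    refine isOpen_compl_iff.1 ((isOpen_iff_chart c.etale c.surj).2 ?_)
    rw [Set.preimage_compl, hsat]
    simpa [Z, Set.compl_def] using hAt.isOpen c.g.left
  have h2 := AlgSpC7.FibreDimSp.isClosedMap_map_of_univClosed (IsAlgSpace.yon_obj T) huc _ hcl
  rw [map_schemeHomeo_image c Z, (Points.schemeHomeo T).isClosed_image] at h2
  have he : c.locus @At = (c.g.left '' Z)ᶜ := by
    ext t
    simp only [Chart.locus, Set.mem_compl_iff, Set.mem_image, Z, Set.mem_ofPred_eq]
    exact ⟨fun h ⟨u, hu, hut⟩ => hu (h u hut), fun h u hut => by_contra fun hu => h ⟨u, hu, hut⟩⟩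
  rw [he]
  exact h2.isOpen_compl

/-- A property of morphisms which is the condition at every point holds etale locally iff it holds on one chart. -/
theorem Chart.locP_iff (hAt : IsPtCond At) (P : MorphismProperty Scheme.{u})
    (hP : ∀ {X Y : Scheme.{u}} (g : X ⟶ Y) [Flat g] [LocallyOfFinitePresentation g], P g ↔ ∀ x, At g x) :
    LocP P A.f ↔ ∀ u, At c.g.left u := by
  haveI := c.flat
  haveI := c.lfp
  constructor
  · intro h
    exact (hP c.g.left).1 (h c.a (𝟙 _) c.g c.etale (repWith_id _ T) (by rw [Category.comp_id]; exact c.fac))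
  · intro h U' V' a' b' h' ha' hb' w'
    haveI := A.flat a' b' h' ha' hb' w'
    haveI := A.lfp a' b' h' ha' hb' w'
    obtain ⟨β, rfl⟩ := (yon S).map_surjective b'
    haveI : Etale β.left := (repWith_yon_map_iff _ _).1 hb'
    refine (hP h'.left).2 fun u' => ?_
    have sq := c.etale.rep.isPullback' a'
    let p : c.etale.rep.pullback a' ⟶ c.U := c.etale.rep.fst' a'
    let q : c.etale.rep.pullback a' ⟶ U' := c.etale.rep.snd a'
    haveI : Etale q.left := c.etale.property_snd a'
    haveI : Etale p.left := ha'.property c.a _ _ sq.flip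
    haveI : Surjective q.left := c.surj.property a' _ _ (c.etale.rep.isPullback a')
    obtain ⟨r, rfl⟩ := q.left.surjective u'
    have hpq : p ≫ c.g = q ≫ h' ≫ β := by
      apply (yon S).map_injective
      rw [← c.fac_comp, sq.w, Category.assoc, w', Functor.map_comp, Functor.map_comp]
    rw [← hAt.postcomp h'.left β.left, ← hAt.precomp q.left (h'.left ≫ β.left), ← Over.comp_left,
      ← Over.comp_left, ← hpq, Over.comp_left, hAt.precomp p.left c.g.left]
    exact h _

/-- The chart of a base change. -/
theorem Chart.exists_baseChange {T' : Over S} {B : Fam T'} {top : B.X ⟶ A.X} {φ : T' ⟶ T}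
    (sq : IsPullback top B.f A.f ((yon S).map φ)) :
    ∃ (c' : Chart B) (fst : c'.U ⟶ c.U), IsPullback fst.left c'.g.left c.g.left φ.left := by
  let U' : Over S := Over.mk (pullback.snd c.g.left φ.left ≫ T'.hom)
  let q : U' ⟶ T' := Over.homMk (pullback.snd c.g.left φ.left) rfl
  let p : U' ⟶ c.U := Over.homMk (pullback.fst c.g.left φ.left) (by
    show pullback.fst c.g.left φ.left ≫ c.U.hom = pullback.snd c.g.left φ.left ≫ T'.hom
    rw [← Over.w c.g, ← Over.w φ, pullback.condition_assoc])
  have hsq : IsPullback p q c.g φ := IsPullback.of_map (Over.forget S)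
    (Over.OverMorphism.ext pullback.condition) (IsPullback.of_hasPullback c.g.left φ.left)
  have houter : IsPullback ((yon S).map p) ((yon S).map q) (c.a ≫ A.f) ((yon S).map φ) := by
    rw [c.fac]
    exact hsq.map (yon S)
  have w : ((yon S).map p ≫ c.a) ≫ A.f = (yon S).map q ≫ (yon S).map φ :=
    (Category.assoc _ _ _).trans houter.w
  let a' : (yon S).obj U' ⟶ B.X := sq.lift ((yon S).map p ≫ c.a) ((yon S).map q) w
  have hsq' : IsPullback ((yon S).map p) a' c.a top := by
    refine IsPullback.of_bot (v₂₁ := B.f) (v₂₂ := A.f) ?_ (sq.lift_fst _ _ w).symm sq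
    rw [sq.lift_snd]
    exact houter
  exact ⟨⟨U', a', repWith_of_isPullback hsq' c.etale, repWith_of_isPullback hsq' c.surj, q,
    sq.lift_snd _ _ w⟩, p, IsPullback.of_hasPullback _ _⟩

/-- The main statement: a base change has the condition everywhere iff it lands in the locus. -/
theorem exists_open_locus (hAt : IsPtCond At) (P : MorphismProperty Scheme.{u})
    (hP : ∀ {X Y : Scheme.{u}} (g : X ⟶ Y) [Flat g] [LocallyOfFinitePresentation g], P g ↔ ∀ x, At g x)
    (A : Fam T) (huc : IsUnivClosedMor A.f) :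
    ∃ W : T.left.Opens, ∀ {T' : Over S} (B : Fam T') (top : B.X ⟶ A.X) (φ : T' ⟶ T),
      IsPullback top B.f A.f ((yon S).map φ) → (LocP P B.f ↔ Set.range φ.left ⊆ (W : Set _)) := by
  obtain ⟨c⟩ := nonempty_chart A
  refine ⟨⟨_, c.isOpen_locus hAt huc⟩, fun {T'} B top φ sq => ?_⟩
  obtain ⟨c', fst, hpb⟩ := c.exists_baseChange sq
  haveI := c.flat
  haveI := c.lfp
  rw [c'.locP_iff hAt P hP]
  constructor
  · rintro h _ ⟨t, rfl⟩ u hu
    obtain ⟨z, hz₁, -⟩ := Scheme.Pullback.exists_preimage_pullback (f := c.g.left) (g := φ.left) u t hu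
    let x := hpb.isoPullback.inv z
    have hx₁ : fst.left x = u := by
      rw [← hz₁, ← Scheme.Hom.comp_apply, hpb.isoPullback_inv_fst]
    have := (hAt.baseChange _ _ _ _ hpb x).1 (h x)
    rwa [hx₁] at this
  · intro h x
    rw [hAt.baseChange _ _ _ _ hpb x]
    refine h ⟨c'.g.left x, rfl⟩ _ ?_
    rw [← Scheme.Hom.comp_apply, hpb.w, Scheme.Hom.comp_apply]

end Groth.Agent.CStk17.FamLocus
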