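import Groth.Agent.AlgStLib.Stack
import Groth.Agent.AlgStLib.LocQ
import Groth.Agent.AlgStLib.FppfSite
import Groth.Agent.StkLib.Basic
import Groth.Prelude.Def_AlgSt3

/-!
# Open substacks cut out by open loci in the bases, for categories over `(Sch/S)` in any universes
-/

set_option autoImplicit false
set_option backward.isDefEq.respectTransparency false
set_option backward.isDefEq.respectTransparency.types false

universe v w u

open CategoryTheory CategoryTheory.Functor CategoryTheory.Limits AlgebraicGeometry Opposite AlgSp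

namespace Groth.Agent.FibBase

section SubMap

universe v₄ u₄ v₃ u₃ v₂ u₂ v' u'

variable {C : Type u'} [Category.{v'} C] {𝒳 𝒳' : BasedCategory.{v₂, u₂} C} {𝒴 𝒴' : BasedCategory.{v₃, u₃} C}
  {𝒮 𝒮' : BasedCategory.{v₄, u₄} C}
  {F : 𝒳 ⥤ᵇ 𝒮} {G : 𝒴 ⥤ᵇ 𝒮}
  {F' : 𝒳' ⥤ᵇ 𝒮'} {G' : 𝒴' ⥤ᵇ 𝒮'} {a : 𝒳' ⥤ᵇ 𝒳} {b : 𝒴' ⥤ᵇ 𝒴} {c : 𝒮' ⥤ᵇ 𝒮}
  (α : BasedFunctor.comp a F ≅ BasedFunctor.comp F' c) (β : BasedFunctor.comp G' c ≅ BasedFunctor.comp b G)

/-- Comparison of fibre products along fully faithful maps hitting all relevant objects. -/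
theorem fpMap_isEquivOver_sub (ha : FibCat.IsEquivOver a) [b.toFunctor.Full] [b.toFunctor.Faithful]
    [c.toFunctor.Full] [c.toFunctor.Faithful]
    (hb : ∀ η : (FibCat.fp F G).obj, ∃ (y' : 𝒴'.obj) (e' : b.obj y' ≅ η.obj.snd),
      𝒴.p.IsHomLift (𝟙 (𝒳.p.obj η.obj.fst)) e'.hom) :
    FibCat.IsEquivOver (fpMap α β) := by
  have := full_of_isEquivOver ha
  have := faithful_of_isEquivOver ha
  refine isEquivOver_of_exists_iso _ ⟨fun {x y} t => ?_⟩ ⟨fun {x y} t t' h => ?_⟩ fun η => ?_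
  · obtain ⟨p, hp⟩ := a.toFunctor.map_surjective (X := x.obj.fst) (Y := y.obj.fst) t.hom.fst
    obtain ⟨q, hq⟩ := b.toFunctor.map_surjective (X := x.obj.snd) (Y := y.obj.snd) t.hom.snd
    refine ⟨ObjectProperty.homMk ⟨p, q, ?_⟩, ObjectProperty.hom_ext _ (CategoricalPullback.hom_ext hp hq)⟩
    have w := t.hom.w
    rw [fpMap_iso, fpMap_iso, ← hp, ← hq] at w
    refine c.toFunctor.map_injective ?_
    rw [← cancel_epi (isoApp α x.obj.fst).hom, ← cancel_mono (isoApp β y.obj.snd).hom]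
    simp only [Functor.map_comp, Category.assoc] at w ⊢
    have nα : F.map (a.map p) ≫ (isoApp α y.obj.fst).hom =
        (isoApp α x.obj.fst).hom ≫ c.map (F'.map p) := natural α p
    have nβ : c.map (G'.map q) ≫ (isoApp β y.obj.snd).hom =
        (isoApp β x.obj.snd).hom ≫ G.map (b.map q) := natural β q
    rw [← reassoc_of% nα, nβ]
    exact w
  · exact ObjectProperty.hom_ext _ (CategoricalPullback.hom_ext
      (a.toFunctor.map_injective (congrArg (fun s => s.hom.fst) h))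
      (b.toFunctor.map_injective (congrArg (fun s => s.hom.snd) h)))
  · obtain ⟨x', e, he⟩ := exists_iso_over_of_isEquivOver ha (S := 𝒳.p.obj η.obj.fst) η.obj.fst rfl
    obtain ⟨y', e', he'⟩ := hb η
    have hx : 𝒳'.p.obj x' = 𝒳.p.obj η.obj.fst :=
      (a.w_obj x').symm.trans (IsHomLift.domain_eq 𝒳.p (𝟙 (𝒳.p.obj η.obj.fst)) e.hom)
    have hy : 𝒴'.p.obj y' = 𝒳.p.obj η.obj.fst :=
      (b.w_obj y').symm.trans (IsHomLift.domain_eq 𝒴.p (𝟙 (𝒳.p.obj η.obj.fst)) e'.hom)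
    let i : c.obj (F'.obj x') ≅ c.obj (G'.obj y') :=
      (isoApp α x').symm ≪≫ F.toFunctor.mapIso e ≪≫ η.obj.iso ≪≫ (G.toFunctor.mapIso e').symm ≪≫ (isoApp β y').symm
    have hi : 𝒮.p.IsHomLift (𝟙 (𝒳.p.obj η.obj.fst)) i.hom := by
      have := isoApp_inv_lift α hx
      have := isoApp_inv_lift β hy
      have := fp_iso_lift η
      have : 𝒮.p.IsHomLift (𝟙 (𝒳.p.obj η.obj.fst)) (G.toFunctor.mapIso e').hom :=
        G.preserves_isHomLift _ e'.hom
      have := IsHomLift.lift_id_inv 𝒮.p (𝒳.p.obj η.obj.fst) (G.toFunctor.mapIso e')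
      show 𝒮.p.IsHomLift (𝟙 (𝒳.p.obj η.obj.fst)) ((isoApp α x').inv ≫ F.map e.hom ≫ η.obj.iso.hom ≫
        (G.toFunctor.mapIso e').inv ≫ (isoApp β y').inv)
      infer_instance
    refine ⟨⟨⟨x', y', c.toFunctor.preimageIso i⟩, ?_⟩, fpIsoMk e e' ?_, ?_⟩
    · show 𝒮'.p.IsHomLift (𝟙 (𝒳'.p.obj x')) (c.toFunctor.preimageIso i).hom
      rw [hx, ← c.isHomLift_iff, Functor.preimageIso_hom, Functor.map_preimage]
      exact hi
    · show F.map e.hom ≫ η.obj.iso.hom =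
        ((isoApp α x').hom ≫ c.map (c.toFunctor.preimageIso i).hom ≫ (isoApp β y').hom) ≫ G.map e'.hom
      rw [Functor.preimageIso_hom, Functor.map_preimage]
      simp only [i, Iso.trans_hom, Iso.symm_hom, Functor.mapIso_hom, Functor.mapIso_inv, Category.assoc,
        Iso.hom_inv_id_assoc, Iso.inv_hom_id_assoc]
      rw [← G.toFunctor.map_comp, Iso.inv_hom_id, G.toFunctor.map_id, Category.comp_id]
    · exact fp_isHomLift (𝟙 _) _ (h := he)


end SubMap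

end Groth.Agent.FibBase

namespace Groth.Agent.CStk17.OpenCrit

open Groth.Agent.FibBase

variable {S : Scheme.{u}}

/-- Membership in `Q` is governed by open loci in the bases. -/
def HasLocus (𝒳 : BasedCategory.{v, w} (Over S)) (Q : 𝒳.obj → Prop) : Prop :=
  ∀ x : 𝒳.obj, ∃ W : (𝒳.p.obj x).left.Opens,
    ∀ ⦃y : 𝒳.obj⦄ (φ : y ⟶ x), Q y ↔ Set.range (𝒳.p.map φ).left ⊆ (W : Set _)

variable {𝒳 : BasedCategory.{v, w} (Over S)} {Q : 𝒳.obj → Prop}

local notation "𝒬" => AlgSt.fullSub 𝒳 Q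

theorem of_hom (H : HasLocus 𝒳 Q) ⦃y x : 𝒳.obj⦄ (φ : y ⟶ x) (hx : Q x) : Q y := by
  obtain ⟨W, hW⟩ := H x
  refine (hW φ).2 fun t _ => ?_
  have h := (hW (𝟙 x)).1 hx
  rw [CategoryTheory.Functor.map_id] at h
  exact h ⟨t, rfl⟩

theorem closedUnderIso (H : HasLocus 𝒳 Q) : ObjectProperty.IsClosedUnderIsomorphisms Q :=
  ⟨fun e h => of_hom H e.inv h⟩

theorem isHomLift_iff_fullSub {x y : (𝒬).obj} {a b : Over S} (f : a ⟶ b) (φ : x ⟶ y) :
    (𝒬).p.IsHomLift f φ ↔ 𝒳.p.IsHomLift f φ.hom :=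
  ⟨fun _ => IsHomLift.of_fac 𝒳.p f φ.hom (IsHomLift.domain_eq (𝒬).p f φ)
      (IsHomLift.codomain_eq (𝒬).p f φ) (IsHomLift.fac (𝒬).p f φ),
    fun _ => IsHomLift.of_fac (𝒬).p f φ (IsHomLift.domain_eq 𝒳.p f φ.hom)
      (IsHomLift.codomain_eq 𝒳.p f φ.hom) (IsHomLift.fac 𝒳.p f φ.hom)⟩

theorem isFibGrpd_sub (h𝒳 : FibCat.IsFibGrpd 𝒳.p) (H : HasLocus 𝒳 Q) : FibCat.IsFibGrpd (𝒬).p := by
  refine ⟨fun {x V} f => ?_, fun {y x} φ => ?_⟩
  · obtain ⟨y, φ, hφ⟩ := h𝒳.exists_lift (x := x.obj) f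
    exact ⟨⟨y, of_hom H φ x.property⟩, ObjectProperty.homMk φ, (isHomLift_iff_fullSub _ _).2 hφ⟩
  · have := h𝒳.isStronglyCartesian φ.hom
    have : (𝒬).p.IsHomLift ((𝒬).p.map φ) φ :=
      (isHomLift_iff_fullSub _ _).2 (show 𝒳.p.IsHomLift (𝒳.p.map φ.hom) φ.hom from inferInstance)
    refine { universal_property' := fun {a'} g φ' hφ' => ?_ }
    have hφ2 : 𝒳.p.IsHomLift (g ≫ 𝒳.p.map φ.hom) φ'.hom :=
      (isHomLift_iff_fullSub (g ≫ 𝒳.p.map φ.hom) φ').1 hφ'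
    obtain ⟨χ, ⟨hχ, e⟩, huniq⟩ := Functor.IsStronglyCartesian.universal_property 𝒳.p (𝒳.p.map φ.hom) φ.hom g
      (g ≫ 𝒳.p.map φ.hom) rfl φ'.hom
    exact ⟨ObjectProperty.homMk χ, ⟨(isHomLift_iff_fullSub _ _).2 hχ, ObjectProperty.hom_ext _ e⟩,
      fun χ' ⟨h₁, h₂⟩ => ObjectProperty.hom_ext _ (huniq χ'.hom
        ⟨(isHomLift_iff_fullSub _ _).1 h₁, congrArg (fun k => k.hom) h₂⟩)⟩

theorem exists_opens_obj (H : HasLocus 𝒳 Q) {U : Over S} (x : 𝒳.obj) (hx : 𝒳.p.obj x = U) :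
    ∃ W : U.left.Opens, ∀ ⦃y : 𝒳.obj⦄ (φ : y ⟶ x) {V : Over S} (f : V ⟶ U) [𝒳.p.IsHomLift f φ],
      Q y ↔ Set.range f.left ⊆ (W : Set _) := by
  subst hx
  obtain ⟨W, hW⟩ := H x
  refine ⟨W, fun y φ V f _ => ?_⟩
  have e := IsHomLift.fac 𝒳.p f φ
  have hd : 𝒳.p.obj y = V := IsHomLift.domain_eq 𝒳.p f φ
  subst hd
  simp only [eqToHom_refl, Category.id_comp, Category.comp_id] at e
  rw [e]
  exact hW φ

/-- The open locus of a functor from a slice. -/
theorem exists_opens_chart (H : HasLocus 𝒳 Q) {U : Over S} (y : FibCat.overCat U ⥤ᵇ 𝒳) :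
    ∃ W : U.left.Opens, ∀ a : Over U, Q (y.obj a) ↔ Set.range a.hom.left ⊆ (W : Set _) := by
  obtain ⟨W, hW⟩ := exists_opens_obj H (y.obj (Over.mk (𝟙 U))) (y.w_obj _)
  refine ⟨W, fun a => ?_⟩
  have : 𝒳.p.IsHomLift a.hom (y.map (toId a)) := overMap_isHomLift y (toId a)
  exact hW (y.map (toId a)) a.hom

/-! ### Transfer of representability along a comparison equivalence -/

theorem transfer {P : MorphismProperty (Sp S)} {U : Over S} {𝒜 : BasedCategory.{v, w} (Over S)}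
    {ℬ : BasedCategory.{v, w} (Over S)} {m : 𝒜 ⥤ᵇ ℬ} (hm : FibCat.IsEquivOver m)
    (p : 𝒜 ⥤ᵇ FibCat.overCat U) (q : ℬ ⥤ᵇ FibCat.overCat U) (i : BasedFunctor.comp m q ≅ p)
    (h : ∃ (F : AlgSp.Space S) (e : AlgSt.ofSp F.obj ⥤ᵇ ℬ),
      FibCat.IsEquivOver e ∧ P (AlgSt.spMapOfOver (BasedFunctor.comp e q))) :
    ∃ (F : AlgSp.Space S) (e : AlgSt.ofSp F.obj ⥤ᵇ 𝒜),
      FibCat.IsEquivOver e ∧ P (AlgSt.spMapOfOver (BasedFunctor.comp e p)) := by
  obtain ⟨F, e, he, hP⟩ := h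
  obtain ⟨g, ⟨c⟩, ⟨d⟩⟩ := hm
  refine ⟨F, BasedFunctor.comp e g, isEquivOver_comp he ⟨m, ⟨d⟩, ⟨c⟩⟩, ?_⟩
  let j : BasedFunctor.comp (BasedFunctor.comp e g) p ≅ BasedFunctor.comp e q :=
    whiskerLeftIso (BasedFunctor.comp e g) i.symm ≪≫
      whiskerLeftIso e (whiskerRightIso d q)
  rw [Groth.Agent.AlgStLib.spMapOfOver_congr j]
  exact hP

/-! ### The inclusion is an open immersion -/

theorem isOpenImm_sub (H : HasLocus 𝒳 Q) : AlgSt.IsOpenImm (AlgSt.subIncl 𝒳 Q) := fun U y => by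
  obtain ⟨V, hV⟩ := exists_opens_chart H y
  let Vs : Over S := Over.mk (V.ι ≫ U.hom)
  let j : Vs ⟶ U := Over.homMk V.ι rfl
  have hmem : ∀ c : Over Vs, Q (y.obj ((AlgSt.overMap j).obj c)) := fun c =>
    (hV _).2 (by
      rintro _ ⟨t, rfl⟩
      exact (c.hom.left t).2)
  let y' : FibCat.overCat Vs ⥤ᵇ 𝒬 :=
    { toFunctor := ObjectProperty.lift _ (BasedFunctor.comp (AlgSt.overMap j) y).toFunctor hmem
      w := (BasedFunctor.comp (AlgSt.overMap j) y).w }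
  let e : FibCat.overCat Vs ⥤ᵇ FibCat.fp y (AlgSt.subIncl 𝒳 Q) :=
    FibCat.fpLift (AlgSt.overMap j) y' (Iso.refl (BasedFunctor.comp (AlgSt.overMap j) y))
  have he : FibCat.IsEquivOver e := by
    refine isEquivOver_of_exists_iso _ ⟨fun {a b} t => ?_⟩ ⟨fun {a b} t t' h => ?_⟩ fun η => ?_
    · have hw : t.hom.fst.left ≫ b.hom ≫ j = a.hom ≫ j := Over.w t.hom.fst
      have hm : t.hom.fst.left ≫ b.hom = a.hom := by
        refine Over.OverMorphism.ext ((cancel_mono V.ι).1 ?_)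
        have := congrArg CommaMorphism.left hw
        simp only [Over.comp_left] at this ⊢
        exact (Category.assoc _ _ _).trans this
      let φ : a ⟶ b := Over.homMk t.hom.fst.left hm
      have hfst : (AlgSt.overMap j).map φ = t.hom.fst := Over.OverMorphism.ext rfl
      refine ⟨φ, ?_⟩
      refine ObjectProperty.hom_ext _ (CategoricalPullback.hom_ext hfst (ObjectProperty.hom_ext _ ?_))
      have h := t.hom.w
      have h' : y.map t.hom.fst ≫ 𝟙 _ = 𝟙 _ ≫ t.hom.snd.hom := h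
      show y.map ((AlgSt.overMap j).map φ) = t.hom.snd.hom
      rw [hfst]
      exact ((Category.comp_id _).symm.trans h').trans (Category.id_comp _)
    · have := congrArg (fun k => k.hom.fst.left) h
      exact Over.OverMorphism.ext this
    · let a := η.obj.fst
      have ha : Q (y.obj a) := of_hom H η.obj.iso.hom η.obj.snd.property
      have hr : Set.range a.hom.left ⊆ Set.range V.ι := by
        rw [Scheme.Opens.range_ι]
        exact (hV a).1 ha
      let l : a.left ⟶ Vs := Over.homMk (IsOpenImmersion.lift V.ι a.hom.left hr) (by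
        show _ ≫ V.ι ≫ U.hom = _
        rw [← Category.assoc, IsOpenImmersion.lift_fac]
        exact Over.w a.hom)
      have hl : l ≫ j = a.hom := Over.OverMorphism.ext (IsOpenImmersion.lift_fac _ _ _)
      let i₁ : (AlgSt.overMap j).obj (Over.mk l) ≅ a := Over.isoMk (Iso.refl a.left)
        ((Category.id_comp _).trans hl.symm)
      let i₂ : y'.obj (Over.mk l) ≅ η.obj.snd := ObjectProperty.isoMk _ (y.toFunctor.mapIso i₁ ≪≫ η.obj.iso)
      refine ⟨Over.mk l, fpIsoMk (x := e.obj (Over.mk l)) (y := η) i₁ i₂ ?_, ?_⟩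
      · show y.map i₁.hom ≫ η.obj.iso.hom = 𝟙 _ ≫ (y.map i₁.hom ≫ η.obj.iso.hom)
        simp
      · exact fp_isHomLift (𝟙 _) _ (h := IsHomLift.of_fac _ _ _ rfl rfl (by
          show 𝟙 a.left = 𝟙 _ ≫ 𝟙 a.left ≫ 𝟙 _
          simp))
  refine ⟨⟨(yon S).obj Vs, IsAlgSpace.yon_obj Vs⟩, BasedFunctor.comp (AlgSt.toOverCat Vs) e,
    isEquivOver_comp (Groth.Agent.AlgStLib.isEquivOver_toOverCat Vs) he, ?_⟩
  rw [Groth.Agent.AlgStLib.spMapOfOver_congr
      (show BasedFunctor.comp (BasedFunctor.comp (AlgSt.toOverCat Vs) e) (FibCat.fpFst y _) ≅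
        BasedFunctor.comp (AlgSt.ofSpMap ((yon S).map j)) (AlgSt.toOverCat U) from
        Groth.Agent.AlgStLib.toOverCatMapIso j),
    Groth.Agent.AlgStLib.spMapOfOver_ofSpMap_toOverCat]
  exact (repWith_yon_map_iff _ j).2 (inferInstanceAs (IsOpenImmersion V.ι))

/-! ### The full subcategory is a stack -/

theorem isStack_sub (h𝒳 : Stk.IsStack (QuotSh.J Scheme.fppfPrecoverage S) 𝒳) (H : HasLocus 𝒳 Q) :
    Stk.IsStack (QuotSh.J Scheme.fppfPrecoverage S) (𝒬) := by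
  refine ⟨isFibGrpd_sub h𝒳.1 H, fun U R hR => ?_⟩
  have hX : (Stk.resSieve R 𝒳).IsEquivalence := h𝒳.2 R hR
  let F := AlgSt.subIncl 𝒳 Q
  have : F.toFunctor.Full := ObjectProperty.full_ι Q
  have : F.toFunctor.Faithful := ObjectProperty.faithful_ι Q
  obtain ⟨hfull, hfaith⟩ := Groth.Agent.StkLib.isPrestackFor_of_fullyFaithful F (R := R)
    ⟨hX.full, hX.faithful⟩
  have hess : (Stk.resSieve R (𝒬)).EssSurj := ⟨fun G => by
    obtain ⟨G', ⟨i⟩⟩ := hX.essSurj.mem_essImage (BasedFunctor.comp G F)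
    obtain ⟨W, hW⟩ := exists_opens_chart H G'
    have htop : ∀ t : U.left, t ∈ W := fun t => by
      obtain ⟨ι, V, v, -, -, hs, hv⟩ := Groth.Agent.AlgStLib.exists_fppf_of_mem_J (show R ∈ J S U from hR)
      obtain ⟨k, hk⟩ := hs t
      let a : (Stk.sieveCat R).obj := ⟨Over.mk (v k), hv k⟩
      have hQ : Q (G'.obj (Over.mk (v k))) := (closedUnderIso H).of_iso (isoApp i a).symm (G.obj a).property
      exact (hW _).1 hQ hk
    have hall : ∀ a, Q (G'.obj a) := fun a => (hW a).2 fun t _ => htop t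
    let G'' : FibCat.overCat U ⥤ᵇ 𝒬 :=
      { toFunctor := ObjectProperty.lift _ G'.toFunctor hall
        w := G'.w }
    have := Groth.Agent.StkLib.post_full (𝒜 := Stk.sieveCat R) F
    have := Groth.Agent.StkLib.post_faithful (𝒜 := Stk.sieveCat R) F
    exact ⟨G'', ⟨(Groth.Agent.StkLib.post (𝒜 := Stk.sieveCat R) F).preimageIso i⟩⟩⟩
  exact { faithful := hfaith, full := hfull, essSurj := hess }

/-! ### Diagonal and atlas -/

/-- The map of self-products induced by the inclusion. -/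
def inclSq : FibCat.fp (FibCat.toSelf (𝒬)) (FibCat.toSelf (𝒬)) ⥤ᵇ
    FibCat.fp (FibCat.toSelf 𝒳) (FibCat.toSelf 𝒳) where
  toFunctor :=
    { obj := fun x => ⟨⟨x.obj.fst.obj, x.obj.snd.obj, x.obj.iso⟩, x.property⟩
      map := fun {x y} f => ObjectProperty.homMk ⟨f.hom.fst.hom, f.hom.snd.hom, f.hom.w⟩
      map_id := fun _ => rfl
      map_comp := fun _ _ => rfl }
  w := rfl

instance faithful_inclSq : (inclSq (𝒳 := 𝒳) (Q := Q)).toFunctor.Faithful :=
  ⟨fun {x y} f g h => ObjectProperty.hom_ext _ (CategoricalPullback.hom_ext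
    (ObjectProperty.hom_ext _ (congrArg (fun k => k.hom.fst) h))
    (ObjectProperty.hom_ext _ (congrArg (fun k => k.hom.snd) h)))⟩

instance full_inclSq : (inclSq (𝒳 := 𝒳) (Q := Q)).toFunctor.Full :=
  ⟨fun {x y} f => ⟨ObjectProperty.homMk ⟨ObjectProperty.homMk f.hom.fst, ObjectProperty.homMk f.hom.snd, f.hom.w⟩,
    rfl⟩⟩

instance full_subIncl : (AlgSt.subIncl 𝒳 Q).toFunctor.Full := ObjectProperty.full_ι Q

instance faithful_subIncl : (AlgSt.subIncl 𝒳 Q).toFunctor.Faithful := ObjectProperty.faithful_ι Q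

theorem diag_sub (h𝒳 : AlgSt.RepByAlgSp1 (FibCat.diag (FibCat.toSelf 𝒳))) (H : HasLocus 𝒳 Q) :
    AlgSt.RepByAlgSp1 (FibCat.diag (FibCat.toSelf (𝒬))) := fun U y => by
  let Y := BasedFunctor.comp y inclSq
  let F := AlgSt.subIncl 𝒳 Q
  let hiso : BasedFunctor.comp (FibCat.diag (FibCat.toSelf (𝒬))) inclSq ≅
      BasedFunctor.comp F (FibCat.diag (FibCat.toSelf 𝒳)) := Iso.refl _
  let m : FibCat.fp y (FibCat.diag (FibCat.toSelf (𝒬))) ⥤ᵇ FibCat.fp Y (FibCat.diag (FibCat.toSelf 𝒳)) :=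
    fpMap (a := BasedFunctor.id _) (b := F) (c := inclSq) (Iso.refl _) hiso
  have hm : FibCat.IsEquivOver m := by
    refine fpMap_isEquivOver_sub _ _ isEquivOver_id fun η => ?_
    let p₁ := (FibCat.fpFst (FibCat.toSelf 𝒳) (FibCat.toSelf 𝒳)).toFunctor
    let i : (Y.obj η.obj.fst).obj.fst ≅ η.obj.snd := p₁.mapIso η.obj.iso
    have hQ : Q η.obj.snd := (closedUnderIso H).of_iso i (y.obj η.obj.fst).obj.fst.property
    exact ⟨⟨η.obj.snd, hQ⟩, Iso.refl _, IsHomLift.id (FibBase.snd_proj η)⟩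
  obtain ⟨G, e, he⟩ := h𝒳 U Y
  obtain ⟨g, hg⟩ := hm
  exact ⟨G, BasedFunctor.comp e g, isEquivOver_comp he ⟨m, hg.2, hg.1⟩⟩

theorem atlas_sub {P : MorphismProperty (Sp S)} (hat : AlgSt.HasAtlas P 𝒳) (H : HasLocus 𝒳 Q) :
    AlgSt.HasAtlas P (𝒬) := by
  obtain ⟨V₀, y₀, hy₀, hy₀'⟩ := hat
  obtain ⟨W, hW⟩ := exists_opens_chart H y₀
  let Vs : Over S := Over.mk (W.ι ≫ V₀.hom)
  let j : Vs ⟶ V₀ := Over.homMk W.ι rfl
  have hmem : ∀ c : Over Vs, Q (y₀.obj ((AlgSt.overMap j).obj c)) := fun c =>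
    (hW _).2 (by
      rintro _ ⟨t, rfl⟩
      exact (c.hom.left t).2)
  let y' : FibCat.overCat Vs ⥤ᵇ 𝒬 :=
    { toFunctor := ObjectProperty.lift _ (BasedFunctor.comp (AlgSt.overMap j) y₀).toFunctor hmem
      w := (BasedFunctor.comp (AlgSt.overMap j) y₀).w }
  let F := AlgSt.subIncl 𝒳 Q
  let hiso : BasedFunctor.comp y' F ≅ BasedFunctor.comp (AlgSt.overMap j) y₀ := Iso.refl _
  have key : ∀ {P' : MorphismProperty (Sp S)}, AlgSt.RepByAlgSpWith P' y₀ → AlgSt.RepByAlgSpWith P' y' := by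
    intro P' hP' T z
    let Z := BasedFunctor.comp z F
    have : (AlgSt.overMap j).toFunctor.Faithful := ⟨fun {a b} f g h => Over.OverMorphism.ext (show f.left = g.left from congrArg (fun k => k.left) h)⟩
    have : (AlgSt.overMap j).toFunctor.Full := ⟨fun {a b} f => by
      have hw : f.left ≫ b.hom ≫ j = a.hom ≫ j := Over.w f
      have hs : f.left ≫ b.hom = a.hom := by
        refine Over.OverMorphism.ext ((cancel_mono W.ι).1 ?_)
        have := congrArg CommaMorphism.left hw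
        simp only [Over.comp_left] at this ⊢
        exact (Category.assoc _ _ _).trans this
      exact ⟨Over.homMk f.left hs, Over.OverMorphism.ext rfl⟩⟩
    let m : FibCat.fp z y' ⥤ᵇ FibCat.fp Z y₀ :=
      fpMap (a := BasedFunctor.id _) (b := AlgSt.overMap j) (c := F) (Iso.refl _) hiso
    have hm : FibCat.IsEquivOver m := by
      refine fpMap_isEquivOver_sub _ _ isEquivOver_id fun η => ?_
      let a := η.obj.snd
      have ha : Q (y₀.obj a) := (closedUnderIso H).of_iso η.obj.iso (z.obj η.obj.fst).property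
      have hr : Set.range a.hom.left ⊆ Set.range W.ι := by
        rw [Scheme.Opens.range_ι]
        exact (hW a).1 ha
      let l : a.left ⟶ Vs := Over.homMk (IsOpenImmersion.lift W.ι a.hom.left hr) (by
        show _ ≫ W.ι ≫ V₀.hom = _
        rw [← Category.assoc, IsOpenImmersion.lift_fac]
        exact Over.w a.hom)
      have hl : l ≫ j = a.hom := Over.OverMorphism.ext (IsOpenImmersion.lift_fac _ _ _)
      let i₁ : (AlgSt.overMap j).obj (Over.mk l) ≅ a := Over.isoMk (Iso.refl a.left)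
        ((Category.id_comp _).trans hl.symm)
      refine ⟨Over.mk l, i₁, ?_⟩
      rw [← show (FibCat.overCat V₀).p.obj a = (FibCat.overCat T).p.obj η.obj.fst from FibBase.snd_proj η]
      exact IsHomLift.of_fac _ _ _ rfl rfl (by
        show 𝟙 a.left = 𝟙 _ ≫ 𝟙 a.left ≫ 𝟙 _
        simp)
    exact transfer hm (FibCat.fpFst z y') (FibCat.fpFst Z y₀) (Iso.refl _) (hP' T Z)
  exact ⟨Vs, y', key hy₀, key hy₀'⟩

/-- The criterion: open loci in all bases cut out an open substack. -/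
theorem isOpenSubstack_of_hasLocus (h𝒳 : AlgSt.IsAlgStack Scheme.fppfPrecoverage 𝒳) (H : HasLocus 𝒳 Q) :
    AlgSt.IsOpenSubstack 𝒳 Q Scheme.fppfPrecoverage :=
  ⟨closedUnderIso H,
    { isStack := isStack_sub h𝒳.isStack H
      diag := diag_sub h𝒳.diag H
      atlas := atlas_sub h𝒳.atlas H },
    isOpenImm_sub H⟩

end Groth.Agent.CStk17.OpenCrit
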