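import Groth.Prelude.Def_StCurv2
import Groth.Agent.CStk17.OpenCrit
import Groth.Agent.CStk17.FamLocus
import Groth.Agent.AlgSpPts.Sep
import Groth.Agent.AlgSpDec.AffineProps
import Groth.Agent.AlgSpC7.FibreDimSp
import Groth.Agent.CurveEmbed.Conic
import Groth.Agent.PnCoh.Chow.Proper
import Groth.Agent.H23.PnChart
import Groth.Agent.S10829
import Groth.Agent.S2768
import Groth.Agent.Synt29.SmoothDim

/-!
# Open substacks of the stack of curves from pointwise conditions, and the projective line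
-/

set_option autoImplicit false
set_option linter.style.haveILetI false
set_option backward.isDefEq.respectTransparency false
set_option backward.isDefEq.respectTransparency.types false

universe u

open CategoryTheory CategoryTheory.Limits AlgebraicGeometry AlgSp Groth.Agent.AlgSpLib

namespace Groth.Agent.CStk17.CurvesBridge

variable {S : Scheme.{u}}

/-- The family underlying an object of the stack of curves. -/
def famOf (A : (CurvSt.Curves S 0).obj) : FamLocus.Fam A.obj.base where
  X := A.obj.X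
  f := A.obj.f
  isAlgSpace := A.property.1
  flat := A.property.2.1
  lfp := A.property.2.2.2.1.1

theorem univClosed_famOf (A : (CurvSt.Curves S 0).obj) : IsUnivClosedMor (famOf A).f := A.property.2.2.1.2.2

variable {At : ∀ {X Y : Scheme.{u}}, (X ⟶ Y) → X → Prop}

theorem isPullback_of_hom {B A : (CurvSt.Curves S 0).obj} (φ : B ⟶ A) :
    IsPullback φ.hom.top (famOf B).f (famOf A).f ((yon S).map φ.hom.base) := φ.hom.cart

/-- A condition cut out by a pointwise condition of charts has open loci. -/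
theorem hasLocus_locP (hAt : FamLocus.IsPtCond At) (P : MorphismProperty Scheme.{u})
    (hP : ∀ {X Y : Scheme.{u}} (g : X ⟶ Y) [Flat g] [LocallyOfFinitePresentation g], P g ↔ ∀ x, At g x)
    (Q : (CurvSt.Curves S 0).obj → Prop) (hQ : ∀ A, Q A ↔ LocP P A.obj.f) :
    OpenCrit.HasLocus (CurvSt.Curves S 0) Q := fun A => by
  obtain ⟨W, hW⟩ := FamLocus.exists_open_locus hAt P hP (famOf A) (univClosed_famOf A)
  exact ⟨W, fun B φ => (hQ B).trans (hW (famOf B) φ.hom.top φ.hom.base (isPullback_of_hom φ))⟩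

theorem isOpenSubstack_locP (hC : AlgSt.IsAlgStack Scheme.fppfPrecoverage (CurvSt.Curves S 0))
    (hAt : FamLocus.IsPtCond At) (P : MorphismProperty Scheme.{u})
    (hP : ∀ {X Y : Scheme.{u}} (g : X ⟶ Y) [Flat g] [LocallyOfFinitePresentation g], P g ↔ ∀ x, At g x)
    (Q : (CurvSt.Curves S 0).obj → Prop) (hQ : ∀ A, Q A ↔ LocP P A.obj.f) :
    AlgSt.IsOpenSubstack (CurvSt.Curves S 0) Q Scheme.fppfPrecoverage :=
  OpenCrit.isOpenSubstack_of_hasLocus hC (hasLocus_locP hAt P hP Q hQ)

/-- A condition on the relative dimension at all points is the condition at all chart points. -/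
theorem forall_hasAtMor_dim_iff {T : Over S} {A : FamLocus.Fam T} (c : FamLocus.Chart A) (d : WithBot ℕ∞) :
    (∀ x, HasAtMor (fun _ _ h u => FlatMor.fibreDimAt h u = d) A.f x) ↔
      ∀ u, FlatMor.fibreDimAt c.g.left u = d := by
  have hlft : LocP @LocallyOfFiniteType A.f := fun U V a b h ha hb w => by
    haveI := A.lfp a b h ha hb w
    infer_instance
  have key : ∀ u, AlgSpC7.FibreDimSp.rdim A.f (Points.ofPt c.a u) = FlatMor.fibreDimAt c.g.left u := fun u =>
    AlgSpC7.FibreDimSp.rdim_ofPt hlft c.etale (repWith_id _ T) (by rw [Category.comp_id]; exact c.fac) u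
  simp only [AlgSpC7.FibreDimSp.hasAtMor_iff_rdim A.isAlgSpace (IsAlgSpace.yon_obj T) hlft (fun e => e = d)]
  constructor
  · intro h u
    rw [← key u]
    exact h _
  · intro h x
    obtain ⟨u, rfl⟩ := surjective_ofPt c.surj x
    rw [key u]
    exact h u

/-- A pointwise property together with relative dimension one at every point. -/
theorem locP_and_dim_iff (A : (CurvSt.Curves S 0).obj) (hAt : FamLocus.IsPtCond At)
    (hAt1 : FamLocus.IsPtCond
      (fun g x => At g x ∧ FlatMor.fibreDimAt g x = ((1 : ℕ) : WithBot ℕ∞))) :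
    (LocP (fun _ _ g => ∀ x, At g x) A.obj.f ∧
        ∀ x : AlgSp.Points A.obj.X,
          AlgSp.HasAtMor (fun _ _ h u => FlatMor.fibreDimAt h u = ((1 : ℕ) : WithBot ℕ∞)) A.obj.f x) ↔
      LocP (fun _ _ g => ∀ x, At g x ∧ FlatMor.fibreDimAt g x = ((1 : ℕ) : WithBot ℕ∞)) A.obj.f := by
  obtain ⟨c⟩ := FamLocus.nonempty_chart (famOf A)
  refine Iff.trans (and_congr (c.locP_iff hAt _ (fun g _ _ => Iff.rfl)) (forall_hasAtMor_dim_iff c _)) ?_
  exact (forall_and.symm).trans (c.locP_iff hAt1 _ (fun g _ _ => Iff.rfl)).symm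

/-! ### Scheme families -/

theorem isCurveFam_yon {T : Over S} {X : Scheme.{u}} (p : X ⟶ T.left) [Flat p] [IsProper p]
    [LocallyOfFinitePresentation p] (hdim : ∀ x, FlatMor.fibreDimAt p x ≤ ((1 : ℕ) : WithBot ℕ∞)) :
    CurvSt.IsCurveFam ((CurvSt.toSpFam S 0).obj ⟨T, X, p, Fin.elim0, fun i => i.elim0⟩) := by
  let f : Over.mk (p ≫ T.hom) ⟶ T := Over.homMk p rfl
  have hqc : IsQuasiCompactMor ((yon S).map f) :=
    AlgSpPts.isQuasiCompactMor_of_repWith ((repWith_yon_map_iff _ f).2 (inferInstanceAs (QuasiCompact p)))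
  have hlfp : LocP @LocallyOfFinitePresentation ((yon S).map f) :=
    locP_of_repWith ((repWith_yon_map_iff _ f).2 (inferInstanceAs (LocallyOfFinitePresentation p)))
  refine ⟨IsAlgSpace.yon_obj _, locP_of_repWith ((repWith_yon_map_iff _ f).2 (inferInstanceAs (Flat p))),
    ⟨?_, ⟨locP_of_repWith ((repWith_yon_map_iff _ f).2 (inferInstanceAs (LocallyOfFiniteType p))), hqc⟩,
      AlgSpDec.isUnivClosedMor_of_repWith_universallyClosed
        ((repWith_yon_map_iff _ f).2 (inferInstanceAs (UniversallyClosed p)))⟩,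
    ⟨hlfp, hqc, ?_⟩, fun x => ?_⟩
  · exact (repWith_diagonal_yon_map_iff _ f).2 (inferInstanceAs (IsClosedImmersion (pullback.diagonal p)))
  · exact (repWith_diagonal_yon_map_iff _ f).2 (inferInstanceAs (QuasiCompact (pullback.diagonal p)))
  · obtain ⟨u, rfl⟩ := (Points.schemeHomeo _).surjective x
    exact ⟨_, T, 𝟙 _, 𝟙 _, f, u, repWith_id _ _, repWith_id _ _, (Category.id_comp _).trans (Category.comp_id _).symm,
      rfl, hdim u⟩

/-- The object of the stack given by a scheme family. -/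
noncomputable def schObj {T : Over S} {X : Scheme.{u}} (p : X ⟶ T.left) [Flat p] [IsProper p]
    [LocallyOfFinitePresentation p] (hdim : ∀ x, FlatMor.fibreDimAt p x ≤ ((1 : ℕ) : WithBot ℕ∞)) :
    (CurvSt.Curves S 0).obj :=
  ⟨_, isCurveFam_yon p hdim⟩

/-- A pointwise condition on the structure morphism of a scheme family. -/
theorem locP_schObj {T : Over S} {X : Scheme.{u}} (p : X ⟶ T.left) [Flat p] [IsProper p]
    [LocallyOfFinitePresentation p] (hdim : ∀ x, FlatMor.fibreDimAt p x ≤ ((1 : ℕ) : WithBot ℕ∞))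
    (hAt : FamLocus.IsPtCond At) (P : MorphismProperty Scheme.{u})
    (hP : ∀ {X Y : Scheme.{u}} (g : X ⟶ Y) [Flat g] [LocallyOfFinitePresentation g], P g ↔ ∀ x, At g x)
    (h : ∀ x, At p x) : LocP P (schObj p hdim).obj.f := by
  let c : FamLocus.Chart (famOf (schObj p hdim)) :=
    ⟨Over.mk (p ≫ T.hom), 𝟙 _, repWith_id _ _, repWith_id _ _, Over.homMk p rfl, Category.id_comp _⟩
  exact (c.locP_iff hAt P hP).2 h

/-! ### The projective line over a field -/

variable (Ω : Type u) [Field Ω]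

instance : Smooth (CohB1.ProjSpace.toSpec 1 Ω) := CurveEmbed.smooth_toSpec 1 Ω

instance : IsProper (CohB1.ProjSpace.toSpec 1 Ω) := PnCoh.Chow.isProper_toSpec 1 Ω

theorem p1_smooth_one : ∀ x, FlatMor.fibreDimAt (CohB1.ProjSpace.toSpec 1 Ω) x = ((1 : ℕ) : WithBot ℕ∞) := by
  let f := CohB1.ProjSpace.toSpec 1 Ω
  haveI : IsIntegral (CohB1.ProjSpace 1 Ω) := H23.PnChart.isIntegral_projSpace 1 Ω
  have hconst : ∀ x y, FlatMor.fibreDimAt f x = FlatMor.fibreDimAt f y := by
    have hz : ∀ x, FlatMor.fibreDimAt f x = FlatMor.fibreDimAt f (genericPoint ↥(CohB1.ProjSpace 1 Ω)) := fun x => by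
      obtain ⟨-, -, V, -, -, n, hxV, -, hV, -⟩ := Synt29.SmoothDim.exists_chart f x
      have hg : genericPoint ↥(CohB1.ProjSpace 1 Ω) ∈ V :=
        (genericPoint_specializes x).mem_open V.isOpen hxV
      rw [Synt29.SmoothDim.fibreDimAt_eq_of_nhd f V n hxV, Synt29.SmoothDim.fibreDimAt_eq_of_nhd f V n hg]
    exact fun x y => (hz x).trans (hz y).symm
  intro x
  haveI : Subsingleton ↥(Spec (CommRingCat.of Ω)) := inferInstanceAs (Subsingleton (PrimeSpectrum Ω))
  have h := AlgSpC7.FibreDimSp.topologicalKrullDim_eq_iSup_fibreDimAt f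
  rw [S10829.result Ω 1] at h
  refine (le_antisymm (le_iSup (FlatMor.fibreDimAt f) x) (iSup_le fun y => (hconst y x).le)).trans h.symm

/-- The projective line as a curve over a field point of the base. -/
noncomputable def p1Obj (t : Spec (CommRingCat.of Ω) ⟶ S) : (CurvSt.Curves S 0).obj :=
  schObj (T := Over.mk t) (CohB1.ProjSpace.toSpec 1 Ω) fun x => (p1_smooth_one Ω x).le

theorem p1Obj_base (t : Spec (CommRingCat.of Ω) ⟶ S) : (p1Obj Ω t).obj.base = Over.mk t := rfl

/-- An object of a full substack over a field point, from the projective line. -/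
theorem nonempty_fiber (Q : (CurvSt.Curves S 0).obj → Prop) (t : Spec (CommRingCat.of Ω) ⟶ S)
    (h : Q (p1Obj Ω t)) : Nonempty ((AlgSt.fullSub (CurvSt.Curves S 0) Q).p.Fiber (Over.mk t)) :=
  ⟨⟨⟨p1Obj Ω t, h⟩, rfl⟩⟩

end Groth.Agent.CStk17.CurvesBridge
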