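import Mathlib

/-!
# Isomorphisms of elliptic curves with the same invariant, étale locally
-/

set_option autoImplicit false

universe u

namespace Groth.Agent.CStk17.EtaleVC

open MvPolynomial

variable {A : Type u} [CommRing A] (W₁ W₂ : WeierstrassCurve A)

/-- The four equations in `w = u⁻¹, r, s, t`. -/
noncomputable def eqn : Fin 4 → MvPolynomial (Fin 4) A :=
  ![C W₂.a₁ - X 0 * (C W₁.a₁ + 2 * X 2),
    C W₂.a₂ - X 0 ^ 2 * (C W₁.a₂ - X 2 * C W₁.a₁ + 3 * X 1 - X 2 ^ 2),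
    C W₂.a₃ - X 0 ^ 3 * (C W₁.a₃ + X 1 * C W₁.a₁ + 2 * X 3),
    C W₂.a₄ - X 0 ^ 4 * (C W₁.a₄ - X 2 * C W₁.a₃ + 2 * X 1 * C W₁.a₂ -
      (X 3 + X 1 * X 2) * C W₁.a₁ + 3 * X 1 ^ 2 - 2 * X 2 * X 3)]

theorem det_pderiv :
    Matrix.det (Matrix.of fun i j => pderiv i (eqn W₁ W₂ j)) = -(X 0 ^ 9 * C W₁.c₄) := by
  have h : (Matrix.of fun i j => pderiv i (eqn W₁ W₂ j)) = (!![
      -(C W₁.a₁ + 2 * X 2),
        -(2 * X 0) * (C W₁.a₂ - X 2 * C W₁.a₁ + 3 * X 1 - X 2 ^ 2),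
        -(3 * X 0 ^ 2) * (C W₁.a₃ + X 1 * C W₁.a₁ + 2 * X 3),
        -(4 * X 0 ^ 3) * (C W₁.a₄ - X 2 * C W₁.a₃ + 2 * X 1 * C W₁.a₂ -
          (X 3 + X 1 * X 2) * C W₁.a₁ + 3 * X 1 ^ 2 - 2 * X 2 * X 3);
      0, -(3 * X 0 ^ 2), -(X 0 ^ 3 * C W₁.a₁),
        -(X 0 ^ 4 * (2 * C W₁.a₂ - X 2 * C W₁.a₁ + 6 * X 1));
      -(2 * X 0), X 0 ^ 2 * (C W₁.a₁ + 2 * X 2), 0,
        X 0 ^ 4 * (C W₁.a₃ + X 1 * C W₁.a₁ + 2 * X 3);
      0, 0, -(2 * X 0 ^ 3), X 0 ^ 4 * (C W₁.a₁ + 2 * X 2)] :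
        Matrix (Fin 4) (Fin 4) (MvPolynomial (Fin 4) A)) := by
    ext1 i j
    have h2 : ∀ i : Fin 4, pderiv i (2 : MvPolynomial (Fin 4) A) = 0 := fun i => (pderiv i).map_natCast 2
    have h3 : ∀ i : Fin 4, pderiv i (3 : MvPolynomial (Fin 4) A) = 0 := fun i => (pderiv i).map_natCast 3
    fin_cases i <;> fin_cases j <;>
      simp [eqn, pderiv_X, Pi.single_apply, h2, h3] <;> ring
  rw [h, Matrix.det_succ_row_zero]
  simp [Fin.sum_univ_succ, Matrix.det_fin_three, Fin.succAbove,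
    WeierstrassCurve.c₄, WeierstrassCurve.b₂, WeierstrassCurve.b₄, map_ofNat]
  ring

theorem Δ_sub (a₁ a₂ a₃ a₄ x y : A) :
    (⟨a₁, a₂, a₃, a₄, x⟩ : WeierstrassCurve A).Δ - (⟨a₁, a₂, a₃, a₄, y⟩ : WeierstrassCurve A).Δ =
      (x - y) * ((⟨a₁, a₂, a₃, a₄, x⟩ : WeierstrassCurve A).c₆ + 432 * (x - y)) := by
  simp only [WeierstrassCurve.Δ, WeierstrassCurve.c₆, WeierstrassCurve.b₂, WeierstrassCurve.b₄,
    WeierstrassCurve.b₆, WeierstrassCurve.b₈]
  ring

/-- The value of the difference quotient of the discriminant. -/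
noncomputable def slope : MvPolynomial (Fin 4) A :=
  X 0 ^ 6 * C W₁.c₆ + 432 * (X 0 ^ 6 * (C W₁.a₆ + X 1 * C W₁.a₄ + X 1 ^ 2 * C W₁.a₂ + X 1 ^ 3 -
    X 3 * C W₁.a₃ - X 3 ^ 2 - X 1 * X 3 * C W₁.a₁) - C W₂.a₆)

abbrev Quot4 : Type u := MvPolynomial (Fin 4) A ⧸ Ideal.span (Set.range (eqn W₁ W₂))

noncomputable def elt : Quot4 W₁ W₂ :=
  Ideal.Quotient.mk _ (X 0 * C W₁.c₄ * slope W₁ W₂)

abbrev Iso4 : Type u := Localization.Away (elt W₁ W₂)

noncomputable def pres : Algebra.PreSubmersivePresentation A (Quot4 W₁ W₂) (Fin 4) (Fin 4) :=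
  .naive (v := eqn W₁ W₂) id Function.injective_id

theorem jacobian_pres : (pres W₁ W₂).jacobian = Ideal.Quotient.mk _ (-(X 0 ^ 9 * C W₁.c₄)) := by
  have e : (pres W₁ W₂).jacobiMatrix = Matrix.of fun i j => pderiv i (eqn W₁ W₂ j) := by
    refine Matrix.ext fun i j => ?_
    exact Algebra.PreSubmersivePresentation.jacobiMatrix_naive (v := eqn W₁ W₂) id Function.injective_id _ _ i j
  have hal : ∀ q, aeval (pres W₁ W₂).val q = Ideal.Quotient.mk (Ideal.span (Set.range (eqn W₁ W₂))) q :=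
    fun q => DFunLike.congr_fun (aeval_unique (Ideal.Quotient.mkₐ A (Ideal.span (Set.range (eqn W₁ W₂))))).symm q
  rw [Algebra.PreSubmersivePresentation.jacobian_eq_jacobiMatrix_det, Algebra.Generators.algebraMap_apply, e,
    det_pderiv, hal]

theorem isUnit_jacobian_pres :
    IsUnit (algebraMap (Quot4 W₁ W₂) (Iso4 W₁ W₂) (pres W₁ W₂).jacobian) := by
  have hu : IsUnit (algebraMap (Quot4 W₁ W₂) (Iso4 W₁ W₂)
      (Ideal.Quotient.mk (Ideal.span (Set.range (eqn W₁ W₂))) (X 0 * C W₁.c₄ * slope W₁ W₂))) :=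
    IsLocalization.Away.algebraMap_isUnit (elt W₁ W₂)
  rw [map_mul, map_mul, map_mul, map_mul, IsUnit.mul_iff, IsUnit.mul_iff] at hu
  rw [jacobian_pres, map_neg, map_neg, map_mul, map_mul, map_pow, map_pow]
  exact ((hu.1.1.pow 9).mul hu.1.2).neg

/-- The combined presentation. -/
noncomputable def presIso : Algebra.PreSubmersivePresentation A (Iso4 W₁ W₂) (Unit ⊕ Fin 4) (Unit ⊕ Fin 4) :=
  (Algebra.PreSubmersivePresentation.localizationAway (Iso4 W₁ W₂) (elt W₁ W₂)).comp (pres W₁ W₂)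

theorem isUnit_jacobian_presIso : IsUnit (presIso W₁ W₂).jacobian := by
  rw [presIso, Algebra.PreSubmersivePresentation.comp_jacobian_eq_jacobian_smul_jacobian, Algebra.smul_def,
    Algebra.PreSubmersivePresentation.localizationAway_jacobian]
  exact (isUnit_jacobian_pres W₁ W₂).mul (IsLocalization.Away.algebraMap_isUnit _)

theorem etale_iso4 : Algebra.Etale A (Iso4 W₁ W₂) :=
  Algebra.Etale.iff_isStandardSmoothOfRelativeDimension_zero.2
    (Algebra.SubmersivePresentation.isStandardSmoothOfRelativeDimension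
      ⟨presIso W₁ W₂, isUnit_jacobian_presIso W₁ W₂⟩ (by simp [Algebra.Presentation.dimension]))

/-- Evaluation of the variable change variables in a ring. -/
theorem exists_variableChange [W₁.IsElliptic] [W₂.IsElliptic] (hj : W₁.j = W₂.j) (h0 : IsUnit W₁.j) :
    ∃ C' : WeierstrassCurve.VariableChange (Iso4 W₁ W₂),
      C' • (W₁.map (algebraMap A (Iso4 W₁ W₂))) = W₂.map (algebraMap A (Iso4 W₁ W₂)) := by
  let φ : MvPolynomial (Fin 4) A →ₐ[A] Iso4 W₁ W₂ :=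
    (IsScalarTower.toAlgHom A (Quot4 W₁ W₂) (Iso4 W₁ W₂)).comp (Ideal.Quotient.mkₐ A _)
  let a := algebraMap A (Iso4 W₁ W₂)
  have hC : ∀ c, φ (C c) = a c := fun c => φ.commutes c
  have hG : ∀ i, φ (eqn W₁ W₂ i) = 0 := fun i => by
    show algebraMap (Quot4 W₁ W₂) _ (Ideal.Quotient.mk _ _) = 0
    rw [Ideal.Quotient.eq_zero_iff_mem.2 (Ideal.subset_span (Set.mem_range_self i)), map_zero]
  have hu : IsUnit (φ (X 0 * C W₁.c₄ * slope W₁ W₂)) :=
    IsLocalization.Away.algebraMap_isUnit (elt W₁ W₂)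
  rw [map_mul, map_mul, IsUnit.mul_iff, IsUnit.mul_iff] at hu
  obtain ⟨⟨hw, hc4⟩, hH⟩ := hu
  let C' : WeierstrassCurve.VariableChange (Iso4 W₁ W₂) :=
    ⟨hw.unit⁻¹, φ (X 1), φ (X 2), φ (X 3)⟩
  have hwu : ((C'.u⁻¹ : (Iso4 W₁ W₂)ˣ) : Iso4 W₁ W₂) = φ (X 0) := by simp [C']
  have e1 := hG 0
  have e2 := hG 1
  have e3 := hG 2
  have e4 := hG 3
  simp only [eqn, Matrix.cons_val_zero, Matrix.cons_val_one, Matrix.cons_val, map_sub, map_mul,
    map_add, map_pow, map_ofNat, hC, sub_eq_zero] at e1 e2 e3 e4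
  refine ⟨C', ?_⟩
  let W' := C' • W₁.map a
  let V := W₂.map a
  have a1 : W'.a₁ = V.a₁ := by
    rw [WeierstrassCurve.variableChange_a₁, hwu]
    simpa [C', V] using e1.symm
  have a2 : W'.a₂ = V.a₂ := by
    rw [WeierstrassCurve.variableChange_a₂, hwu]
    simpa [C', V] using e2.symm
  have a3 : W'.a₃ = V.a₃ := by
    rw [WeierstrassCurve.variableChange_a₃, hwu]
    simpa [C', V] using e3.symm
  have a4 : W'.a₄ = V.a₄ := by
    rw [WeierstrassCurve.variableChange_a₄, hwu]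
    simpa [C', V] using e4.symm
  have hH' : IsUnit (W'.c₆ + 432 * (W'.a₆ - V.a₆)) := by
    rw [WeierstrassCurve.variableChange_c₆, WeierstrassCurve.variableChange_a₆, hwu]
    simpa [slope, C', V, hC, a, map_ofNat] using hH
  have hc4' : W'.c₄ = V.c₄ := by
    simp only [WeierstrassCurve.c₄, WeierstrassCurve.b₂, WeierstrassCurve.b₄, a1, a2, a3, a4]
  have hΔ : W'.Δ = V.Δ := by
    have hjW : W'.j = V.j := by
      rw [WeierstrassCurve.variableChange_j]
      show (W₁.map a).j = (W₂.map a).j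
      rw [WeierstrassCurve.map_j, WeierstrassCurve.map_j, hj]
    have hju : IsUnit V.j := by
      show IsUnit (W₂.map a).j
      rw [WeierstrassCurve.map_j, ← hj]
      exact h0.map a
    have eW : W'.j * W'.Δ = W'.c₄ ^ 3 := by
      rw [WeierstrassCurve.j, ← W'.coe_Δ', mul_comm, ← mul_assoc, Units.mul_inv, one_mul]
    have eV : V.j * V.Δ = V.c₄ ^ 3 := by
      rw [WeierstrassCurve.j, ← V.coe_Δ', mul_comm, ← mul_assoc, Units.mul_inv, one_mul]
    rw [hjW, hc4', ← eV] at eW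
    exact hju.mul_left_cancel eW
  have a6 : W'.a₆ = V.a₆ := by
    have h := Δ_sub W'.a₁ W'.a₂ W'.a₃ W'.a₄ W'.a₆ V.a₆
    have h2 : (⟨W'.a₁, W'.a₂, W'.a₃, W'.a₄, V.a₆⟩ : WeierstrassCurve (Iso4 W₁ W₂)) = V := by
      ext <;> first | exact a1 | exact a2 | exact a3 | exact a4 | rfl
    rw [h2] at h
    change W'.Δ - V.Δ = (W'.a₆ - V.a₆) * (W'.c₆ + 432 * (W'.a₆ - V.a₆)) at h
    rw [hΔ, sub_self] at h
    exact sub_eq_zero.1 ((hH'.mul_left_eq_zero).1 h.symm)
  exact WeierstrassCurve.ext a1 a2 a3 a4 a6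

/-- Some prime over `p`. -/
theorem mem_range [W₁.IsElliptic] [W₂.IsElliptic] (hj : W₁.j = W₂.j) (h0 : IsUnit W₁.j)
    (h1728 : IsUnit (W₁.j - 1728)) (p : PrimeSpectrum A) :
    p ∈ Set.range (PrimeSpectrum.comap (algebraMap A (Iso4 W₁ W₂))) := by
  let K := AlgebraicClosure p.asIdeal.ResidueField
  let a := algebraMap A K
  have hjK : (W₁.map a).j = (W₂.map a).j := by
    rw [WeierstrassCurve.map_j, WeierstrassCurve.map_j, hj]
  obtain ⟨D, hD⟩ := WeierstrassCurve.exists_variableChange_of_j_eq (W₁.map a) (W₂.map a) hjK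
  let w : K := ((D.u⁻¹ : Kˣ) : K)
  let v : Fin 4 → K := ![w, D.r, D.s, D.t]
  have hv : ∀ f ∈ Ideal.span (Set.range (eqn W₁ W₂)), aeval v f = 0 := by
    intro f hf
    refine (Ideal.span_le (I := RingHom.ker (aeval v : MvPolynomial (Fin 4) A →ₐ[A] K).toRingHom)).2 ?_ hf
    rintro _ ⟨i, rfl⟩
    have e1 := congrArg WeierstrassCurve.a₁ hD
    have e2 := congrArg WeierstrassCurve.a₂ hD
    have e3 := congrArg WeierstrassCurve.a₃ hD
    have e4 := congrArg WeierstrassCurve.a₄ hD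
    simp only [WeierstrassCurve.variableChange_a₁, WeierstrassCurve.variableChange_a₂,
      WeierstrassCurve.variableChange_a₃, WeierstrassCurve.variableChange_a₄, WeierstrassCurve.map_a₁,
      WeierstrassCurve.map_a₂, WeierstrassCurve.map_a₃, WeierstrassCurve.map_a₄] at e1 e2 e3 e4
    show aeval v (eqn W₁ W₂ i) = 0
    simp only [Units.val_inv_eq_inv_val, inv_pow, Units.val_pow_eq_pow_val, a] at e1 e2 e3 e4
    fin_cases i <;> simp [eqn, v, w, sub_eq_zero] <;>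
      first | exact e1.symm | exact e2.symm | exact e3.symm | exact e4.symm
  let ψ : Quot4 W₁ W₂ →ₐ[A] K := Ideal.Quotient.liftₐ _ (aeval v) hv
  have hne : IsUnit (ψ (elt W₁ W₂)) := by
    rw [isUnit_iff_ne_zero]
    show aeval v (X 0 * C W₁.c₄ * slope W₁ W₂) ≠ 0
    have hw : w ≠ 0 := Units.ne_zero _
    have hj3 : (W₁.map a).c₄ ≠ 0 := by
      intro h
      have : IsUnit (W₁.map a).j := by rw [WeierstrassCurve.map_j]; exact h0.map a
      apply this.ne_zero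
      rw [WeierstrassCurve.j, h]
      ring
    have hc6 : (W₁.map a).c₆ ≠ 0 := by
      intro h
      have hu : IsUnit ((W₁.map a).j - 1728) := by
        rw [WeierstrassCurve.map_j]; simpa [map_ofNat] using h1728.map a
      apply hu.ne_zero
      have e := (W₁.map a).c_relation
      rw [h, ← WeierstrassCurve.coe_Δ'] at e
      have e' : (W₁.map a).c₄ ^ 3 = 1728 * ((W₁.map a).Δ' : K) := by linear_combination -e
      rw [WeierstrassCurve.j, e', mul_comm, mul_assoc, Units.mul_inv, mul_one, sub_self]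
    have e6 := congrArg WeierstrassCurve.a₆ hD
    simp only [WeierstrassCurve.variableChange_a₆, WeierstrassCurve.map_a₁, WeierstrassCurve.map_a₂,
      WeierstrassCurve.map_a₃, WeierstrassCurve.map_a₄, WeierstrassCurve.map_a₆] at e6
    simp only [WeierstrassCurve.map_c₄] at hj3
    simp only [WeierstrassCurve.map_c₆] at hc6
    simp [slope, v, a] at *
    simp [w, hj3, hc6, sub_eq_zero.2 e6]
  let χ : Iso4 W₁ W₂ →+* K := IsLocalization.Away.lift (elt W₁ W₂) (g := ψ.toRingHom) hne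
  refine ⟨⟨RingHom.ker χ, RingHom.ker_isPrime χ⟩, PrimeSpectrum.ext ?_⟩
  show (RingHom.ker χ).comap (algebraMap A (Iso4 W₁ W₂)) = p.asIdeal
  rw [RingHom.comap_ker, show χ.comp (algebraMap A (Iso4 W₁ W₂)) =
    (algebraMap p.asIdeal.ResidueField K).comp (algebraMap A p.asIdeal.ResidueField) from ?_]
  · rw [RingHom.ker_comp_of_injective _ (algebraMap p.asIdeal.ResidueField K).injective]
    exact p.asIdeal.ker_algebraMap_residueField
  · rw [IsScalarTower.algebraMap_eq A (Quot4 W₁ W₂), ← RingHom.comp_assoc, IsLocalization.Away.lift_comp,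
      ← IsScalarTower.algebraMap_eq]
    exact ψ.comp_algebraMap

end Groth.Agent.CStk17.EtaleVC
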