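import Groth.Agent.CStk17.CurvesBridge
import Groth.Agent.CStk17.CurveScheme.Main
import Mathlib.FieldTheory.IsAlgClosed.AlgebraicClosure

/-!
# Geometric fibres of families of curves are schemes, and conditions on them are conditions on charts
-/

set_option autoImplicit false
set_option linter.style.haveILetI false
set_option backward.isDefEq.respectTransparency false
set_option backward.isDefEq.respectTransparency.types false

universe u

open CategoryTheory CategoryTheory.Limits AlgebraicGeometry AlgSp Groth.Agent.AlgSpLib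

namespace Groth.Agent.CStk17.FibBridge

variable {S : Scheme.{u}}

open FamLocus CurvesBridge

theorem Chart.fibreDim_le (A : (CurvSt.Curves S 0).obj) (c : Chart (famOf A)) (u : c.U.left) :
    FlatMor.fibreDimAt c.g.left u ≤ ((1 : ℕ) : WithBot ℕ∞) := by
  have hlft : LocP @LocallyOfFiniteType A.obj.f := fun U V a b h ha hb w => by
    haveI := (famOf A).lfp a b h ha hb w
    infer_instance
  have h := A.property.2.2.2.2 (Points.ofPt c.a u)
  rw [AlgSpC7.FibreDimSp.hasAtMor_iff_rdim A.property.1 (IsAlgSpace.yon_obj _) hlft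
    (fun e => e ≤ ((1 : ℕ) : WithBot ℕ∞))] at h
  exact (AlgSpC7.FibreDimSp.rdim_ofPt hlft c.etale (repWith_id _ A.obj.base)
    (by rw [Category.comp_id]; exact c.fac) u).ge.trans h

variable (A : (CurvSt.Curves S 0).obj) {Ω : Type u} [Field Ω] (t : Spec (CommRingCat.of Ω) ⟶ A.obj.base.left)

/-- The fibre over a field point, as a family. -/
noncomputable def fibreFam : Fam (A.obj.ptOver t) where
  X := pullback A.obj.f ((yon S).map (A.obj.ptHom t))
  f := pullback.snd _ _
  isAlgSpace := isAlgSpace_pullback A.property.1 (IsAlgSpace.yon_obj _) (IsAlgSpace.yon_obj _) _ _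
  flat := locP_of_isPullback (IsPullback.of_hasPullback _ _) A.property.1 (IsAlgSpace.yon_obj _)
    (IsAlgSpace.yon_obj _) (famOf A).flat
  lfp := locP_of_isPullback (IsPullback.of_hasPullback _ _) A.property.1 (IsAlgSpace.yon_obj _)
    (IsAlgSpace.yon_obj _) (famOf A).lfp

/-- The fibre over a field point is a separated curve of finite type over the field. -/
noncomputable def fibreCtx : CurveScheme.Ctx (t ≫ A.obj.base.hom) where
  X := (fibreFam A t).X
  f := (fibreFam A t).f
  isAlgSpace := (fibreFam A t).isAlgSpace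
  sep := AlgSpPts.isSeparatedMor_of_isPullback (IsPullback.of_hasPullback _ _) A.property.2.2.1.1
  lft := fun U V a b h ha hb w => by
    haveI := (fibreFam A t).lfp a b h ha hb w
    infer_instance
  qc := AlgSpPts.isQuasiCompactMor_of_isPullback (IsPullback.of_hasPullback _ _) A.property.2.2.1.2.1.2
  dimLE := fun U a g ha hg u => by
    obtain ⟨c⟩ := nonempty_chart (famOf A)
    obtain ⟨c', fst, hsq⟩ := c.exists_baseChange (B := fibreFam A t)
      (top := pullback.fst A.obj.f ((yon S).map (A.obj.ptHom t))) (φ := A.obj.ptHom t) (IsPullback.of_hasPullback _ _)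
    have hlft : LocP @LocallyOfFiniteType (fibreFam A t).f := fun U V a b h ha hb w => by
      haveI := (fibreFam A t).lfp a b h ha hb w
      infer_instance
    haveI := c.lfp
    haveI := c'.lfp
    obtain ⟨v, hv⟩ := surjective_ofPt c'.surj (Points.ofPt a u)
    have e1 := AlgSpC7.FibreDimSp.rdim_ofPt hlft ha (repWith_id _ (A.obj.ptOver t))
      (by rw [Category.comp_id]; exact hg) u
    have e2 := AlgSpC7.FibreDimSp.rdim_ofPt hlft c'.etale (repWith_id _ (A.obj.ptOver t))
      (by rw [Category.comp_id]; exact c'.fac) v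
    rw [← e1, ← hv, e2, FibDim.fibreDimAt_baseChange hsq v]
    exact Chart.fibreDim_le A c _

/-- Every geometric fibre of a family of curves is a scheme. -/
theorem exists_vertex : ∃ (X' : Scheme.{u}) (q : X' ⟶ Spec (CommRingCat.of Ω))
    (i : (yon S).obj (A.obj.ptOver (q ≫ t)) ⟶ A.obj.X),
    IsPullback i ((yon S).map (A.obj.fibHom t q)) A.obj.f ((yon S).map (A.obj.ptHom t)) := by
  obtain ⟨Q, ⟨e⟩⟩ := (fibreCtx A t).exists_iso
  obtain ⟨r, hr⟩ := (yon S).map_surjective (e.hom ≫ pullback.snd A.obj.f ((yon S).map (A.obj.ptHom t)))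
  let eQ : A.obj.ptOver (r.left ≫ t) ≅ Q := Over.isoMk (Iso.refl Q.left) (by
    show 𝟙 _ ≫ Q.hom = (r.left ≫ t) ≫ A.obj.base.hom
    rw [Category.id_comp, ← Over.w r, Category.assoc]
    rfl)
  refine ⟨Q.left, r.left, ((yon S).mapIso eQ).hom ≫ e.hom ≫ pullback.fst _ _, ?_⟩
  refine (IsPullback.of_hasPullback A.obj.f ((yon S).map (A.obj.ptHom t))).of_iso
    ((e.symm ≪≫ ((yon S).mapIso eQ).symm)) (Iso.refl _) (Iso.refl _) (Iso.refl _) ?_ ?_ ?_ ?_
  · simp [← Functor.map_comp_assoc]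
  · have h2 : eQ.inv ≫ A.obj.fibHom t r.left = r := Over.OverMorphism.ext (Category.id_comp _)
    simp only [Iso.trans_hom, Iso.symm_hom, Functor.mapIso_inv, Category.assoc, Iso.refl_hom, Category.comp_id]
    rw [← Functor.map_comp, h2, hr, Iso.inv_hom_id_assoc]
  · simp
  · simp

/-- The structure map of a geometric fibre. -/
theorem isProper_vertex {X' : Scheme.{u}} {q : X' ⟶ Spec (CommRingCat.of Ω)}
    {i : (yon S).obj (A.obj.ptOver (q ≫ t)) ⟶ A.obj.X}
    (hP : IsPullback i ((yon S).map (A.obj.fibHom t q)) A.obj.f ((yon S).map (A.obj.ptHom t))) :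
    IsSeparated q ∧ LocallyOfFinitePresentation q ∧ QuasiCompact q ∧ Flat q := by
  have hsep : IsSeparatedMor ((yon S).map (A.obj.fibHom t q)) :=
    AlgSpPts.isSeparatedMor_of_isPullback hP A.property.2.2.1.1
  have hl : LocP @LocallyOfFinitePresentation ((yon S).map (A.obj.fibHom t q)) :=
    locP_of_isPullback hP A.property.1 (IsAlgSpace.yon_obj _) (IsAlgSpace.yon_obj _) (famOf A).lfp
  have hf : LocP @Flat ((yon S).map (A.obj.fibHom t q)) :=
    locP_of_isPullback hP A.property.1 (IsAlgSpace.yon_obj _) (IsAlgSpace.yon_obj _) (famOf A).flat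
  have hqc : IsQuasiCompactMor ((yon S).map (A.obj.fibHom t q)) :=
    AlgSpPts.isQuasiCompactMor_of_isPullback hP A.property.2.2.1.2.1.2
  refine ⟨⟨(repWith_diagonal_yon_map_iff _ _).1 hsep⟩,
    hl (𝟙 _) (𝟙 _) (A.obj.fibHom t q) (repWith_id _ _) (repWith_id _ _) (by simp),
    ?_,
    hf (𝟙 _) (𝟙 _) (A.obj.fibHom t q) (repWith_id _ _) (repWith_id _ _) (by simp)⟩
  have hT : IsQuasiCompactSp ((yon S).obj (A.obj.ptOver t)) :=
    ⟨A.obj.ptOver t, 𝟙 _, repWith_id _ _, repWith_id _ _, inferInstanceAs (CompactSpace ↥(Spec (CommRingCat.of Ω)))⟩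
  have hX' : CompactSpace ↥X' :=
    (AlgSpPts.isQuasiCompactSp_yon_iff _).1 (AlgSpDec.isQuasiCompactSp_of_mor (IsAlgSpace.yon_obj _) hqc hT)
  exact HasAffineProperty.iff_of_isAffine.mpr hX'

variable {At : ∀ {X Y : Scheme.{u}}, (X ⟶ Y) → X → Prop}

/-- A chart gives an etale cover of every geometric fibre. -/
theorem exists_fibre_chart (c : Chart (famOf A)) {X' : Scheme.{u}} {q : X' ⟶ Spec (CommRingCat.of Ω)}
    {i : (yon S).obj (A.obj.ptOver (q ≫ t)) ⟶ A.obj.X}
    (hP : IsPullback i ((yon S).map (A.obj.fibHom t q)) A.obj.f ((yon S).map (A.obj.ptHom t))) :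
    ∃ (U' : Scheme.{u}) (e : U' ⟶ X') (fst : U' ⟶ c.U.left), Etale e ∧ Surjective e ∧
      IsPullback fst (e ≫ q) c.g.left t := by
  let W := c.etale.rep.pullback i
  let e : W ⟶ A.obj.ptOver (q ≫ t) := c.etale.rep.snd i
  let fst : W ⟶ c.U := c.etale.rep.fst' i
  have sq : IsPullback ((yon S).map fst) ((yon S).map e) c.a i := c.etale.rep.isPullback' i
  have h := sq.flip.paste_horiz hP.flip
  rw [show c.a ≫ A.obj.f = (yon S).map c.g from c.fac, ← Functor.map_comp] at h
  exact ⟨W.left, e.left, fst.left, c.etale.property_snd i, c.surj.property i _ _ (c.etale.rep.isPullback i),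
    ((IsPullback.of_map (yon S) ((yon S).map_injective (by rw [Functor.map_comp, Functor.map_comp]; exact h.w.trans (by
      rw [Functor.map_comp]))) h).map (Over.forget S)).flip⟩

/-- A condition on geometric fibres which is pointwise is the condition on a chart. -/
theorem geomFib_iff (c : Chart (famOf A)) (hAt : IsPtCond At)
    (P : ∀ (Ω : Type u) [Field Ω] [IsAlgClosed Ω] (X' : Scheme.{u}),
      (X' ⟶ Spec (CommRingCat.of Ω)) → (Fin 0 → ↥X') → Prop)
    (hPiff : ∀ (Ω : Type u) [Field Ω] [IsAlgClosed Ω] (X' : Scheme.{u}) (q : X' ⟶ Spec (CommRingCat.of Ω))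
      (x : Fin 0 → ↥X'), IsSeparated q → LocallyOfFinitePresentation q → QuasiCompact q →
        (∀ z, FlatMor.fibreDimAt q z ≤ ((1 : ℕ) : WithBot ℕ∞)) → (P Ω X' q x ↔ ∀ z, At q z)) :
    CurvSt.GeomFib P A.obj ↔ ∀ u, At c.g.left u := by
  haveI := c.flat
  haveI := c.lfp
  have key : ∀ (Ω : Type u) [Field Ω] [IsAlgClosed Ω] (t : Spec (CommRingCat.of Ω) ⟶ A.obj.base.left)
      (X' : Scheme.{u}) (q : X' ⟶ Spec (CommRingCat.of Ω)) (i : (yon S).obj (A.obj.ptOver (q ≫ t)) ⟶ A.obj.X)
      (hP : IsPullback i ((yon S).map (A.obj.fibHom t q)) A.obj.f ((yon S).map (A.obj.ptHom t))),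
      (P Ω X' q (A.obj.spMarkedPt hP) ↔ ∀ z, At q z) ∧
        ∃ (U' : Scheme.{u}) (e : U' ⟶ X') (fst : U' ⟶ c.U.left), Surjective e ∧
          IsPullback fst (e ≫ q) c.g.left t ∧ ∀ w, (At q (e w) ↔ At c.g.left (fst w)) := by
    intro Ω _ _ t X' q i hP
    obtain ⟨hs, hl, hq, hf⟩ := isProper_vertex A t hP
    obtain ⟨U', e, fst, he, he', hsq⟩ := exists_fibre_chart A t c hP
    haveI := hl
    haveI := hf
    haveI := he
    have hdim : ∀ z, FlatMor.fibreDimAt q z ≤ ((1 : ℕ) : WithBot ℕ∞) := fun z => by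
      obtain ⟨w, rfl⟩ := he'.surj z
      rw [S7408.result q (e ≫ q) e (𝟙 _) (Category.comp_id _) w, FibDim.fibreDimAt_baseChange hsq w]
      exact Chart.fibreDim_le A c _
    exact ⟨hPiff Ω X' q _ hs hl hq hdim, U', e, fst, he', hsq,
      fun w => (hAt.precomp e q w).symm.trans (hAt.baseChange _ _ _ _ hsq w)⟩
  constructor
  · intro h u
    let Ω := AlgebraicClosure (A.obj.base.left.residueField (c.g.left u))
    let t : Spec (CommRingCat.of Ω) ⟶ A.obj.base.left :=
      Spec.map (CommRingCat.ofHom (algebraMap (A.obj.base.left.residueField (c.g.left u)) Ω)) ≫ A.obj.base.left.fromSpecResidueField (c.g.left u)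
    obtain ⟨X', q, i, hP⟩ := exists_vertex A t
    obtain ⟨hiff, U', e, fst, -, hsq, hw⟩ := key Ω t X' q i hP
    obtain ⟨z, hz, -⟩ := Scheme.Pullback.exists_preimage_pullback (f := c.g.left) (g := t) u
      (IsLocalRing.closedPoint Ω) (Scheme.fromSpecResidueField_apply _ _).symm
    have hz' : fst (hsq.isoPullback.inv z) = u := by
      rw [← Scheme.Hom.comp_apply, hsq.isoPullback_inv_fst]; exact hz
    exact (congrArg (fun v => At c.g.left v) hz').mp ((hw _).1 (hiff.1 (h Ω t X' q i hP) _))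
  · intro h Ω _ _ t X' q i hP
    obtain ⟨hiff, U', e, fst, he, -, hw⟩ := key Ω t X' q i hP
    refine hiff.2 fun z => ?_
    obtain ⟨w, rfl⟩ := he.surj z
    exact (hw w).2 (h _)

/-- A pointwise condition on geometric fibres cuts out an open substack. -/
theorem isOpenSubstack_geomFib (hC : AlgSt.IsAlgStack Scheme.fppfPrecoverage (CurvSt.Curves S 0))
    (hAt : IsPtCond At)
    (P : ∀ (Ω : Type u) [Field Ω] [IsAlgClosed Ω] (X' : Scheme.{u}),
      (X' ⟶ Spec (CommRingCat.of Ω)) → (Fin 0 → ↥X') → Prop)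
    (hPiff : ∀ (Ω : Type u) [Field Ω] [IsAlgClosed Ω] (X' : Scheme.{u}) (q : X' ⟶ Spec (CommRingCat.of Ω))
      (x : Fin 0 → ↥X'), IsSeparated q → LocallyOfFinitePresentation q → QuasiCompact q →
        (∀ z, FlatMor.fibreDimAt q z ≤ ((1 : ℕ) : WithBot ℕ∞)) → (P Ω X' q x ↔ ∀ z, At q z)) :
    AlgSt.IsOpenSubstack (CurvSt.Curves S 0) (fun A => CurvSt.GeomFib P A.obj) Scheme.fppfPrecoverage :=
  isOpenSubstack_locP hC hAt (fun _ _ g => ∀ x, At g x) (fun g _ _ => Iff.rfl) _ fun A => by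
    obtain ⟨c⟩ := nonempty_chart (famOf A)
    exact (geomFib_iff A c hAt P hPiff).trans (c.locP_iff hAt _ (fun g _ _ => Iff.rfl)).symm

/-- The projective line satisfies a pointwise condition holding for smooth curves. -/
theorem geomFib_schObj {T : Over S} {X : Scheme.{u}} (p : X ⟶ T.left) [Flat p] [IsProper p]
    [LocallyOfFinitePresentation p] (hdim : ∀ x, FlatMor.fibreDimAt p x ≤ ((1 : ℕ) : WithBot ℕ∞))
    (hAt : IsPtCond At)
    (P : ∀ (Ω : Type u) [Field Ω] [IsAlgClosed Ω] (X' : Scheme.{u}),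
      (X' ⟶ Spec (CommRingCat.of Ω)) → (Fin 0 → ↥X') → Prop)
    (hPiff : ∀ (Ω : Type u) [Field Ω] [IsAlgClosed Ω] (X' : Scheme.{u}) (q : X' ⟶ Spec (CommRingCat.of Ω))
      (x : Fin 0 → ↥X'), IsSeparated q → LocallyOfFinitePresentation q → QuasiCompact q →
        (∀ z, FlatMor.fibreDimAt q z ≤ ((1 : ℕ) : WithBot ℕ∞)) → (P Ω X' q x ↔ ∀ z, At q z))
    (h : ∀ x, At p x) : CurvSt.GeomFib P (schObj p hdim).obj := by
  let c : Chart (famOf (schObj p hdim)) :=
    ⟨Over.mk (p ≫ T.hom), 𝟙 _, repWith_id _ _, repWith_id _ _, Over.homMk p rfl, Category.id_comp _⟩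
  exact (geomFib_iff _ c hAt P hPiff).2 h

end Groth.Agent.CStk17.FibBridge
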