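import Groth.Agent.CStk17.NodeModel
import Groth.Agent.FibDim.BaseField
import Groth.Agent.H23.TopDim

/-!
# Fibres of families with nodal charts
-/

set_option autoImplicit false
set_option backward.isDefEq.respectTransparency false
set_option backward.isDefEq.respectTransparency.types false

universe u

open CategoryTheory CategoryTheory.Limits AlgebraicGeometry IsLocalRing StrictSS

namespace Groth.Agent.CStk17.FibNode

open NodeSch NodeModel

/-- Cancel a monomorphism in a pullback square. -/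
theorem isPullback_of_mono {C : Type*} [Category C] {P X Y S T : C} {fst : P ⟶ X} {snd : P ⟶ Y}
    {f : X ⟶ S} {g : Y ⟶ S} (j : S ⟶ T) [Mono j] (h : IsPullback fst snd (f ≫ j) (g ≫ j)) :
    IsPullback fst snd f g := by
  refine IsPullback.of_isLimit' ⟨(cancel_mono j).1 (by simpa using h.w)⟩
    (PullbackCone.IsLimit.mk _ (fun s => h.lift s.fst s.snd (by rw [← Category.assoc, s.condition, Category.assoc]))
      (fun s => h.lift_fst _ _ _) (fun s => h.lift_snd _ _ _) fun s m h1 h2 => h.hom_ext ?_ ?_)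
  · rw [h1, h.lift_fst]
  · rw [h2, h.lift_snd]

variable {k : Type u} [Field k]

theorem isAWN_of_smooth {X : Scheme.{u}} (p : X ⟶ Spec (CommRingCat.of k)) [Smooth p] : IsAWN p :=
  fun x _ => Or.inl ⟨⊤, trivial, show Smooth ((⊤ : X.Opens).ι ≫ p) from inferInstance⟩

theorem smooth_lineToBase (A : Type u) [CommRing A] : Smooth (lineToBase A) :=
  (HasRingHomProperty.Spec_iff (P := @Smooth)).2
    (RingHom.smooth_algebraMap.2 (Algebra.Smooth.mk : Algebra.Smooth A (Polynomial A)))

theorem smoothLocus_of_open {X S : Scheme.{u}} (f : X ⟶ S) [LocallyOfFinitePresentation f] {x : X}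
    (U : X.Opens) (hx : x ∈ U) [Smooth (U.ι ≫ f)] : x ∈ f.smoothLocus := by
  have h : (⟨x, hx⟩ : U) ∈ (U.ι ≫ f).smoothLocus := by rw [Scheme.Hom.smoothLocus_eq_top]; trivial
  rwa [← Scheme.Hom.preimage_smoothLocus_eq] at h

theorem dim_le_of_components {X : Type*} [TopologicalSpace X] {n : WithBot ℕ∞}
    (h : ∀ Z ∈ irreducibleComponents X, topologicalKrullDim Z = n) : topologicalKrullDim X ≤ n := by
  rw [H23.TopDim.dim_eq_iSup_irreducibleComponents]
  exact iSup₂_le fun Z hZ => (h Z hZ).le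

section Chart

variable {C S : Scheme.{u}} (φ : C ⟶ S) {A : CommRingCat.{u}} (j : Spec A ⟶ S) [IsOpenImmersion j]
  {U : C.Opens} (q : (U : Scheme.{u}) ⟶ Spec A) (hq : U.ι ≫ φ = q ≫ j) (s : S)

/-- The structure morphism of the part of the fibre in a chart. -/
noncomputable abbrev chartFib : ((φ.fiberι s ⁻¹ᵁ U : (φ.fiber s).Opens) : Scheme.{u}) ⟶ Spec (S.residueField s) :=
  (φ.fiberι s ⁻¹ᵁ U).ι ≫ φ.fiberToSpecResidueField s

include hq in
theorem isPullback_chartFib (z : φ.fiber s) (hz : φ.fiberι s z ∈ U) :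
    ∃ ψ : A →+* S.residueField s,
      IsPullback (φ.fiberι s ∣_ U) (chartFib φ s) q (Spec.map (CommRingCat.ofHom ψ)) := by
  have hs : φ (φ.fiberι s z) = s := by
    have : φ.fiberι s z ∈ Set.range (φ.fiberι s) := ⟨z, rfl⟩
    rw [φ.range_fiberι s] at this
    exact this
  have hrange : Set.range (S.fromSpecResidueField s) ⊆ Set.range j := by
    rw [Scheme.range_fromSpecResidueField, Set.singleton_subset_iff]
    refine ⟨q ⟨φ.fiberι s z, hz⟩, ?_⟩
    rw [← Scheme.Hom.comp_apply, ← hq, Scheme.Hom.comp_apply]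
    exact hs
  let τ : Spec (S.residueField s) ⟶ Spec A := IsOpenImmersion.lift j _ hrange
  refine ⟨(Spec.preimage τ).hom, ?_⟩
  have hτ : Spec.map (CommRingCat.ofHom (Spec.preimage τ).hom) = τ := by
    rw [CommRingCat.ofHom_hom, Spec.map_preimage]
  rw [hτ]
  refine isPullback_of_mono j ?_
  rw [IsOpenImmersion.lift_fac, ← hq]
  exact (isPullback_morphismRestrict (φ.fiberι s) U).paste_vert
    (IsPullback.of_hasPullback φ (S.fromSpecResidueField s))

include hq in
theorem isAWN_node_chart [LocallyOfFiniteType φ] (a : A) (f : (U : Scheme.{u}) ⟶ Spec (CommRingCat.of (NodeAlg A a)))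
    [Etale f] (hf : f ≫ nodeToBase A a = q) (z : φ.fiber s) (hz : φ.fiberι s z ∈ U) :
    IsAWN (k := S.residueField s) (chartFib φ (U := U) s) := by
  obtain ⟨ψ, hψ⟩ := isPullback_chartFib φ j q hq s z hz
  have hN := isPullback A a ψ
  let g : ((φ.fiberι s ⁻¹ᵁ U : (φ.fiber s).Opens) : Scheme.{u}) ⟶
      Spec (CommRingCat.of (NodeAlg (S.residueField s) (ψ a))) :=
    hN.lift ((φ.fiberι s ∣_ U) ≫ f) (chartFib φ s) (by rw [Category.assoc, hf]; exact hψ.w)
  have hg1 : g ≫ Spec.map (CommRingCat.ofHom (mapHom A a ψ)) = (φ.fiberι s ∣_ U) ≫ f := hN.lift_fst _ _ _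
  have hg2 : g ≫ nodeToBase _ (ψ a) = chartFib φ s := hN.lift_snd _ _ _
  subst hf
  have hbig : IsPullback (φ.fiberι s ∣_ U) (g ≫ nodeToBase _ (ψ a)) (f ≫ nodeToBase A a)
      (Spec.map (CommRingCat.ofHom ψ)) := by rw [hg2]; exact hψ
  have htop := IsPullback.of_bot hbig hg1.symm hN
  haveI : Etale g := MorphismProperty.of_isPullback htop ‹_›
  haveI : LocallyOfFiniteType (nodeToBase (S.residueField s) (ψ a)) := inferInstance
  have := isAWN_etale _ (isAWN_nodeToBase (K := S.residueField s) (a := ψ a)) g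
  rwa [hg2] at this

end Chart

end Groth.Agent.CStk17.FibNode
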