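import Groth.Agent.CStk17.PtConds
import Groth.Agent.FibDim.Top
import Groth.Agent.FibDim.Semicont
import Groth.Agent.Ega43Prop.CMConst
import Groth.Agent.SchTop.Closed
import Groth.Agent.DimFormula.ClosedSub

/-!
# Isolated non-smooth points in fibres as a pointwise condition
-/

set_option autoImplicit false
set_option linter.style.haveILetI false
set_option backward.isDefEq.respectTransparency false
set_option backward.isDefEq.respectTransparency.types false

universe u

open CategoryTheory CategoryTheory.Limits AlgebraicGeometry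

namespace Groth.Agent.CStk17.FinNS

open PtConds (SmoothAt)

/-- The fibre dimension depends only on the map of spaces. -/
theorem fibreDimAt_homeo {A B Y : Scheme.{u}} (f : A ⟶ Y) (h : B ⟶ Y) (e : ↥A ≃ₜ ↥B) (he : ∀ a, h (e a) = f a)
    (a : A) : FlatMor.fibreDimAt f a = FlatMor.fibreDimAt h (e a) := by
  have key : ∀ y (y' : Y), y = y' → ∀ (p : ↥(f ⁻¹' {y})) (p' : ↥(h ⁻¹' {y'})), e p.1 = p'.1 →
      FlatMor.localDim ↥(f.fiber y) ((f.fiberHomeo y).symm p) =
        FlatMor.localDim ↥(h.fiber y') ((h.fiberHomeo y').symm p') := by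
    rintro y _ rfl p p' hp
    let E : ↥(f.fiber y) ≃ₜ ↥(h.fiber y) :=
      ((f.fiberHomeo y).trans (e.sets (t := h ⁻¹' {y}) (Set.ext fun z => by simp [he]))).trans
        (h.fiberHomeo y).symm
    have : (h.fiberHomeo y).symm p' = E ((f.fiberHomeo y).symm p) := by
      show _ = (h.fiberHomeo y).symm _
      congr 1
      apply Subtype.ext
      rw [← hp]
      simp
    rw [this]
    exact (FibDim.localDim_homeomorph E _).symm
  exact key (f a) (h (e a)) (he a).symm ⟨a, rfl⟩ ⟨e a, rfl⟩ rfl

variable {X Y : Scheme.{u}}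

/-- At every point of a closed subscheme carried by the non-smooth locus above `x`, the fibre of that subscheme
has dimension zero. -/
def Isolated (g : X ⟶ Y) (x : X) : Prop :=
  ∀ (W : Scheme.{u}) (j : W ⟶ X), IsClosedImmersion j → Set.range j = {z | ¬ SmoothAt g z} →
    ∀ w, j w = x → FlatMor.fibreDimAt (j ≫ g) w ≤ ((0 : ℕ) : WithBot ℕ∞)

/-- One closed subscheme carried by the non-smooth locus suffices. -/
theorem isolated_iff (g : X ⟶ Y) (x : X) {W : Scheme.{u}} (j : W ⟶ X) [IsClosedImmersion j]
    (hj : Set.range j = {z | ¬ SmoothAt g z}) :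
    Isolated g x ↔ ∀ w, j w = x → FlatMor.fibreDimAt (j ≫ g) w ≤ ((0 : ℕ) : WithBot ℕ∞) := by
  refine ⟨fun h => h W j ‹_› hj, fun h W' j' hj'i hj' w' hw' => ?_⟩
  let e : ↥W' ≃ₜ ↥W := j'.isClosedEmbedding.isEmbedding.toHomeomorph.trans
    ((Homeomorph.setCongr (hj'.trans hj.symm)).trans j.isClosedEmbedding.isEmbedding.toHomeomorph.symm)
  have he : ∀ a, j (e a) = j' a := fun a => by
    show j (j.isClosedEmbedding.isEmbedding.toHomeomorph.symm _) = _
    have := j.isClosedEmbedding.isEmbedding.toHomeomorph.apply_symm_apply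
      ((Homeomorph.setCongr (hj'.trans hj.symm)) (j'.isClosedEmbedding.isEmbedding.toHomeomorph a))
    exact congrArg Subtype.val this
  rw [fibreDimAt_homeo (j' ≫ g) (j ≫ g) e (fun a => by rw [Scheme.Hom.comp_apply, Scheme.Hom.comp_apply, he]) w']
  exact h _ ((he w').trans hw')

theorem exists_sub (g : X ⟶ Y) [Flat g] [LocallyOfFinitePresentation g] :
    ∃ (W : Scheme.{u}) (j : W ⟶ X), IsClosedImmersion j ∧ Set.range j = {z | ¬ SmoothAt g z} := by
  let Z : TopologicalSpace.Closeds X :=
    ⟨{z | ¬ SmoothAt g z}, (PtConds.isPtCond_smooth.{u}.isOpen g |>.isClosed_compl : IsClosed {z | SmoothAt g z}ᶜ)⟩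
  exact ⟨_, (Scheme.IdealSheafData.vanishingIdeal Z).subschemeι, inferInstance,
    DimFormula.range_vanishingIdeal Z⟩

theorem range_pullback_snd {W X' : Scheme.{u}} (j : W ⟶ X) (f : X' ⟶ X) :
    Set.range (pullback.snd j f) = f ⁻¹' Set.range j := Scheme.Pullback.range_snd j f

theorem isPtCond_isolated : FamLocus.IsPtCond.{u} (fun g x => Isolated g x) where
  isOpen {X Y} g _ _ := by
    obtain ⟨W, j, hji, hj⟩ := exists_sub g
    have he : {x | Isolated g x} =
        (j '' {w | FlatMor.fibreDimAt (j ≫ g) w ≤ ((0 : ℕ) : WithBot ℕ∞)}ᶜ)ᶜ := by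
      ext x
      simp only [Set.mem_ofPred_eq, isolated_iff g x j hj, Set.mem_compl_iff, Set.mem_image, not_exists, not_and]
      exact ⟨fun h w hw hwx => hw (h w hwx), fun h w hwx => by_contra fun hw => h w hw hwx⟩
    rw [he]
    exact (j.isClosedEmbedding.isClosedMap _ (FibDim.isOpen_fibreDimAt_le (f := j ≫ g) 0).isClosed_compl).isOpen_compl
  baseChange {X Y X' Y'} g _ _ φ g' fst h x' := by
    haveI : LocallyOfFinitePresentation g' := MorphismProperty.of_isPullback h ‹_›
    obtain ⟨W, j, hji, hj⟩ := exists_sub g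
    have hr : Set.range (pullback.snd j fst) = {z | ¬ SmoothAt g' z} := by
      rw [range_pullback_snd, hj]
      ext z
      exact (not_congr (PtConds.isPtCond_smooth.baseChange g φ g' fst h z)).symm
    rw [isolated_iff g' x' (pullback.snd j fst) hr, isolated_iff g (fst x') j hj]
    have sq : IsPullback (pullback.fst j fst) (pullback.snd j fst ≫ g') (j ≫ g) φ :=
      (IsPullback.of_hasPullback j fst).paste_vert h
    constructor
    · intro H w hw
      obtain ⟨z, hz₁, hz₂⟩ := Scheme.Pullback.exists_preimage_pullback (f := j) (g := fst) w x' hw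
      rw [← hz₁, ← FibDim.fibreDimAt_baseChange sq z]
      exact H z hz₂
    · intro H z hz
      rw [FibDim.fibreDimAt_baseChange sq z]
      refine H _ ?_
      rw [← hz, ← Scheme.Hom.comp_apply, pullback.condition, Scheme.Hom.comp_apply]
  precomp {X Y Z} e he g _ _ x := by
    obtain ⟨W, j, hji, hj⟩ := exists_sub g
    have hr : Set.range (pullback.snd j e) = {z | ¬ SmoothAt (e ≫ g) z} := by
      rw [range_pullback_snd, hj]
      ext z
      exact (not_congr (PtConds.smoothAt_precomp e g z)).symm
    rw [isolated_iff (e ≫ g) x (pullback.snd j e) hr, isolated_iff g (e x) j hj]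
    haveI : Etale (pullback.fst j e) := MorphismProperty.pullback_fst _ _ he
    have key : ∀ z, FlatMor.fibreDimAt (j ≫ g) (pullback.fst j e z) =
        FlatMor.fibreDimAt (pullback.snd j e ≫ e ≫ g) z := fun z =>
      S7408.result (j ≫ g) (pullback.snd j e ≫ e ≫ g) (pullback.fst j e) (𝟙 Z)
        (by rw [Category.comp_id, pullback.condition_assoc]) z
    constructor
    · intro H w hw
      obtain ⟨z, hz₁, hz₂⟩ := Scheme.Pullback.exists_preimage_pullback (f := j) (g := e) w x hw
      rw [← hz₁, key]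
      exact H z hz₂
    · intro H z hz
      rw [← key]
      refine H _ ?_
      rw [← hz, ← Scheme.Hom.comp_apply, pullback.condition, Scheme.Hom.comp_apply]

theorem isolated_of_smoothAt (g : X ⟶ Y) {x : X} (h : SmoothAt g x) : Isolated g x :=
  fun W j _ hj w hw => absurd h (hj.le ⟨w, hw⟩)

/-- Over a field, all non-smooth points are isolated iff there are finitely many. -/
theorem finite_iff {k : Type u} [Field k] {X : Scheme.{u}} (q : X ⟶ Spec (CommRingCat.of k))
    [LocallyOfFinitePresentation q] [QuasiCompact q] :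
    Set.Finite {x : ↥X | ¬ ∃ U : X.Opens, x ∈ U ∧ Smooth (U.ι ≫ q)} ↔ ∀ x, Isolated q x := by
  have hset : {x : ↥X | ¬ ∃ U : X.Opens, x ∈ U ∧ Smooth (U.ι ≫ q)} = {x | ¬ SmoothAt q x} := by
    ext x
    refine not_congr ⟨fun ⟨U, hxU, hU⟩ => ?_, fun hx => ⟨q.smoothLocus, hx, ?_⟩⟩
    · exact (PtConds.smoothAt_precomp U.ι q ⟨x, hxU⟩).1 ((PtConds.smooth_iff (U.ι ≫ q)).1 hU _)
    · exact (PtConds.smooth_iff _).2 fun z => (PtConds.smoothAt_precomp q.smoothLocus.ι q z).2 z.2
  obtain ⟨W, j, hji, hj⟩ := exists_sub q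
  haveI : CompactSpace ↥X := (HasAffineProperty.iff_of_isAffine (P := @QuasiCompact)).1 ‹_›
  haveI : CompactSpace ↥W := j.isClosedEmbedding.compactSpace
  haveI : IsLocallyNoetherian W := LocallyOfFiniteType.isLocallyNoetherian (j ≫ q)
  haveI : IsNoetherian W := { }
  haveI : Subsingleton ↥(Spec (CommRingCat.of k)) := inferInstanceAs (Subsingleton (PrimeSpectrum k))
  rw [hset]
  simp only [fun x => isolated_iff q x j hj]
  constructor
  · intro hfin x w _
    have hWf : (Set.univ : Set W).Finite := by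
      rw [← hj, ← Set.image_univ] at hfin
      exact hfin.of_finite_image j.isClosedEmbedding.injective.injOn
    haveI : LocallyQuasiFinite (j ≫ q) :=
      LocallyQuasiFinite.of_finite_preimage_singleton _ fun y => hWf.subset (Set.subset_univ _)
    exact (Ega43Prop.fibreDimAt_eq_zero (j ≫ q) w ((j ≫ q).quasiFiniteAt w)).le
  · intro H
    have hd : topologicalKrullDim ↥W ≤ 0 := by
      rw [AlgSpC7.FibreDimSp.topologicalKrullDim_eq_iSup_fibreDimAt (j ≫ q)]
      exact iSup_le fun w => by simpa using H (j w) w rfl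
    haveI : DiscreteTopology ↥W :=
      discreteTopology_iff_isOpen_singleton.2 fun w => SchTop.isOpen_singleton_of_dim_le_zero hd w
    haveI : Finite ↥W := finite_of_compact_of_discrete
    rw [← hj]
    exact Set.finite_range _

end Groth.Agent.CStk17.FinNS
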