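import Groth.Agent.CStk17.FamLocus
import Groth.Agent.AlgSpDec.ReducedStalk
import Groth.Agent.S2521
import Groth.Agent.S2549
import Mathlib.AlgebraicGeometry.Fiber
import Mathlib.FieldTheory.IsAlgClosed.AlgebraicClosure

/-!
# Geometric reducedness of fibres as a pointwise condition
-/

set_option autoImplicit false
set_option linter.style.haveILetI false
set_option backward.isDefEq.respectTransparency false
set_option backward.isDefEq.respectTransparency.types false

set_option linter.dupNamespace false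

universe u

open CategoryTheory CategoryTheory.Limits AlgebraicGeometry

namespace Groth.Agent.CStk17.GRed

/-- A geometric point of a morphism: a point of a geometric fibre. -/
structure GeomPt {X Y : Scheme.{u}} (g : X ⟶ Y) where
  /-- the algebraically closed field -/
  Ω : Type u
  [field : Field Ω]
  [algClosed : IsAlgClosed Ω]
  /-- the point of the base -/
  t : Spec (CommRingCat.of Ω) ⟶ Y
  /-- the geometric fibre -/
  Z : Scheme.{u}
  /-- its map to the source -/
  fst : Z ⟶ X
  /-- its structure map -/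
  q : Z ⟶ Spec (CommRingCat.of Ω)
  sq : IsPullback fst q g t
  /-- the point -/
  z : Z

attribute [instance] GeomPt.field GeomPt.algClosed

variable {X Y : Scheme.{u}} {g : X ⟶ Y}

/-- The point of the source below a geometric point. -/
noncomputable def GeomPt.pt (P : GeomPt g) : X := P.fst P.z

theorem exists_geomPt (g : X ⟶ Y) (x : X) : ∃ P : GeomPt g, P.pt = x := by
  let Ω := AlgebraicClosure (Y.residueField (g x))
  let t : Spec (CommRingCat.of Ω) ⟶ Y :=
    Spec.map (CommRingCat.ofHom (algebraMap (Y.residueField (g x)) Ω)) ≫ Y.fromSpecResidueField (g x)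
  obtain ⟨z, hz, -⟩ := Scheme.Pullback.exists_preimage_pullback (f := g) (g := t) x
    (IsLocalRing.closedPoint Ω) (Scheme.fromSpecResidueField_apply _ _).symm
  exact ⟨⟨Ω, t, _, _, _, IsPullback.of_hasPullback g t, z⟩, hz⟩

/-- The point lifts to the base change of the fibre. -/
theorem GeomPt.exists_bc (P : GeomPt g) :
    ∃ (φ : Y.residueField (g P.pt) ⟶ CommRingCat.of P.Ω),
      letI : Algebra (IsLocalRing.ResidueField (Y.presheaf.stalk (g P.pt))) P.Ω := φ.hom.toAlgebra
      ∃ x' : ↥(FBase.bc (g.fiberToSpecResidueField (g P.pt)) P.Ω),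
        FBase.bcπ (g.fiberToSpecResidueField (g P.pt)) P.Ω x' = g.asFiber P.pt ∧
          (IsReduced (P.Z.presheaf.stalk P.z) ↔
            IsReduced ((FBase.bc (g.fiberToSpecResidueField (g P.pt)) P.Ω).presheaf.stalk x')) := by
  have key : ∀ y, y = g P.pt → ∀ φ : Y.residueField y ⟶ CommRingCat.of P.Ω,
      Spec.map φ ≫ Y.fromSpecResidueField y = P.t →
      letI : Algebra (IsLocalRing.ResidueField (Y.presheaf.stalk y)) P.Ω := φ.hom.toAlgebra
      ∃ x' : ↥(FBase.bc (g.fiberToSpecResidueField y) P.Ω),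
        g.fiberι y (FBase.bcπ (g.fiberToSpecResidueField y) P.Ω x') = P.pt ∧
          (IsReduced (P.Z.presheaf.stalk P.z) ↔
            IsReduced ((FBase.bc (g.fiberToSpecResidueField y) P.Ω).presheaf.stalk x')) := by
    intro y _ φ hφ
    letI : Algebra (IsLocalRing.ResidueField (Y.presheaf.stalk y)) P.Ω := φ.hom.toAlgebra
    have h := (IsPullback.of_hasPullback (g.fiberToSpecResidueField y) (Spec.map φ)).paste_horiz
      (IsPullback.of_hasPullback g (Y.fromSpecResidueField y))
    rw [hφ] at h
    let e := P.sq.isoIsPullback _ _ h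
    refine ⟨e.hom P.z, ?_, AlgSpDec.isReduced_stalk_iff_of_etale e.hom P.z⟩
    show (e.hom ≫ pullback.fst _ _ ≫ pullback.fst _ _) P.z = P.fst P.z
    rw [IsPullback.isoIsPullback_hom_fst]
  have hy : P.t (IsLocalRing.closedPoint P.Ω) = g P.pt := by
    haveI : Subsingleton ↥(Spec (CommRingCat.of P.Ω)) := inferInstanceAs (Subsingleton (PrimeSpectrum P.Ω))
    show _ = (P.fst ≫ g) P.z
    rw [P.sq.w, Scheme.Hom.comp_apply]
    exact congrArg P.t (Subsingleton.elim _ _)
  obtain ⟨φ, hφ⟩ : ∃ φ : Y.residueField (g P.pt) ⟶ CommRingCat.of P.Ω,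
      Spec.map φ ≫ Y.fromSpecResidueField (g P.pt) = P.t := by
    rw [← hy]
    exact ⟨_, Scheme.descResidueField_stalkClosedPointTo_fromSpecResidueField P.Ω Y P.t⟩
  obtain ⟨x', hx', h⟩ := key _ rfl φ hφ
  exact ⟨φ, x', (g.fiberι (g P.pt)).isEmbedding.injective (hx'.trans (g.fiberι_asFiber P.pt).symm), h⟩

/-- The fibre is geometrically reduced at the point: all geometric points over it have reduced local rings. -/
def GRed (g : X ⟶ Y) (x : X) : Prop :=
  ∀ P : GeomPt g, P.pt = x → IsReduced (P.Z.presheaf.stalk P.z)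

theorem gRed_iff (g : X ⟶ Y) (x : X) :
    GRed g x ↔ FBase.IsGeomReducedAt (g.fiberToSpecResidueField (g x)) (g.asFiber x) := by
  constructor
  · intro h
    obtain ⟨P, rfl⟩ := exists_geomPt g x
    obtain ⟨φ, x', hx', he⟩ := P.exists_bc
    letI : Algebra (IsLocalRing.ResidueField (Y.presheaf.stalk (g P.pt))) P.Ω := φ.hom.toAlgebra
    exact S2521.result (Ω := P.Ω) (g.fiberToSpecResidueField (g P.pt)) _ x' hx' (he.1 (h P rfl))
  · rintro h P rfl
    obtain ⟨φ, x', hx', he⟩ := P.exists_bc
    letI : Algebra (IsLocalRing.ResidueField (Y.presheaf.stalk (g P.pt))) P.Ω := φ.hom.toAlgebra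
    exact he.2 (h P.Ω x' hx')

/-- One geometric point suffices. -/
theorem gRed_of_geomPt (P : GeomPt g) (h : IsReduced (P.Z.presheaf.stalk P.z)) : GRed g P.pt := by
  rw [gRed_iff]
  obtain ⟨φ, x', hx', he⟩ := P.exists_bc
  letI : Algebra (IsLocalRing.ResidueField (Y.presheaf.stalk (g P.pt))) P.Ω := φ.hom.toAlgebra
  exact S2521.result (Ω := P.Ω) (g.fiberToSpecResidueField (g P.pt)) _ x' hx' (he.1 h)

theorem isPtCond_gRed : FamLocus.IsPtCond.{u} (fun g x => GRed g x) where
  isOpen g _ _ := by
    convert S2549.result g using 1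
    ext x
    exact gRed_iff g x
  baseChange g _ _ φ g' fst h x' := by
    constructor
    · intro hx
      obtain ⟨P, hP⟩ := exists_geomPt g' x'
      have := gRed_of_geomPt (g := g) ⟨P.Ω, P.t ≫ φ, P.Z, P.fst ≫ fst, P.q, P.sq.paste_horiz h, P.z⟩ (hx P hP)
      rwa [show (GeomPt.pt ⟨P.Ω, P.t ≫ φ, P.Z, P.fst ≫ fst, P.q, P.sq.paste_horiz h, P.z⟩ : _) = fst x' by
        rw [← hP]; rfl] at this
    · rintro hx P rfl
      exact hx ⟨P.Ω, P.t ≫ φ, P.Z, P.fst ≫ fst, P.q, P.sq.paste_horiz h, P.z⟩ rfl
  precomp {X Y Z} e he g _ _ x := by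
    constructor
    · intro hx
      obtain ⟨P, hP⟩ := exists_geomPt g (e x)
      obtain ⟨w, hw₁, hw₂⟩ := Scheme.Pullback.exists_preimage_pullback (f := e) (g := P.fst) x P.z hP.symm
      haveI : Etale (pullback.snd e P.fst) := MorphismProperty.pullback_snd _ _ he
      have hr := hx ⟨P.Ω, P.t, _, pullback.fst e P.fst, pullback.snd e P.fst ≫ P.q,
        (IsPullback.of_hasPullback e P.fst).paste_vert P.sq, w⟩ hw₁
      have := gRed_of_geomPt P ?_
      · rwa [hP] at this
      · rw [← hw₂]
        exact (AlgSpDec.isReduced_stalk_iff_of_etale (pullback.snd e P.fst) w).1 hr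
    · intro hx P hP
      let l : P.Z ⟶ pullback g P.t := pullback.lift (P.fst ≫ e) P.q (by rw [Category.assoc]; exact P.sq.w)
      have hsq : IsPullback P.fst l e (pullback.fst g P.t) := by
        refine IsPullback.of_bot ?_ (pullback.lift_fst _ _ _).symm (IsPullback.of_hasPullback g P.t)
        rw [pullback.lift_snd]
        exact P.sq
      haveI : Etale l := MorphismProperty.of_isPullback hsq he
      refine (AlgSpDec.isReduced_stalk_iff_of_etale l P.z).2
        (hx ⟨P.Ω, P.t, _, pullback.fst g P.t, pullback.snd g P.t, IsPullback.of_hasPullback g P.t, l P.z⟩ ?_)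
      show (l ≫ pullback.fst g P.t) P.z = e x
      rw [pullback.lift_fst, Scheme.Hom.comp_apply]
      exact congrArg e hP

/-- Over an algebraically closed field geometric reducedness is reducedness. -/
theorem forall_gRed_iff {Ω : Type u} [Field Ω] [IsAlgClosed Ω] {X : Scheme.{u}} (q : X ⟶ Spec (CommRingCat.of Ω)) :
    (∀ x, GRed q x) ↔ IsReduced X := by
  have key : ∀ x, GeomPt.pt (g := q) ⟨Ω, 𝟙 _, X, 𝟙 X, q, IsPullback.id_horiz q, x⟩ = x := fun x => rfl
  constructor
  · intro h
    haveI : ∀ x : X, IsReduced (X.presheaf.stalk x) := fun x => h x _ (key x)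
    exact isReduced_of_isReduced_stalk X
  · intro h x
    rw [← key x]
    exact gRed_of_geomPt _ (inferInstanceAs (_root_.IsReduced (X.presheaf.stalk x)))

end Groth.Agent.CStk17.GRed
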