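import Groth.Agent.CStk17.PtConds
import Groth.Agent.S3617
import Groth.Agent.S3626
import Groth.Agent.S3627

/-!
# Gorenstein as a pointwise condition
-/

set_option autoImplicit false
set_option linter.style.haveILetI false
set_option backward.isDefEq.respectTransparency false
set_option backward.isDefEq.respectTransparency.types false

universe u

open CategoryTheory CategoryTheory.Limits AlgebraicGeometry

namespace Groth.Agent.CStk17.GorCond

theorem isGorensteinAt_of_smooth {X Y : Scheme.{u}} (f : X ⟶ Y) [Smooth f] (x : X) :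
    Dual3.IsGorensteinAt f x := by
  refine ⟨Flat.stalkMap f x, ?_⟩
  haveI : Smooth (f.fiberToSpecResidueField (f x)) := MorphismProperty.pullback_snd _ _ ‹Smooth f›
  haveI := GrpSchLib.isRegularLocalRing_stalk_of_smooth (f.fiberToSpecResidueField (f x)) (f.asFiber x)
  exact S0342.result ((f.fiber (f x)).presheaf.stalk (f.asFiber x))

theorem isPtCond_gor : FamLocus.IsPtCond.{u} (fun g x => Dual3.IsGorensteinAt g x) where
  isOpen g _ _ := S3617.result _ _ g
  baseChange g _ _ φ g' fst h x' := S3626.result _ _ _ _ g φ g' fst h x'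
  precomp {X Y Z} e he g hf hl x := by
    have hN : ∀ {A B : Scheme.{u}} (f : A ⟶ B) [LocallyOfFiniteType f] (b : B), IsLocallyNoetherian (f.fiber b) :=
      fun {A B} f _ b => LocallyOfFiniteType.isLocallyNoetherian (f.fiberToSpecResidueField b)
    have h := S3627.result _ _ _ e g (hN e) (hN g) (hN (e ≫ g)) x
    exact ⟨fun hx => (h.2 hx (Flat.stalkMap e x)).2, fun hx => h.1 (isGorensteinAt_of_smooth e x) hx⟩

theorem isCMAt_of_gor {X Y : Scheme.{u}} {f : X ⟶ Y} {x : X} (h : Dual3.IsGorensteinAt f x) :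
    MoreMor.IsCMAt f x := by
  haveI := h.2
  exact ⟨h.1, S0341.result _⟩

theorem isPtCond_gor_one :
    FamLocus.IsPtCond.{u} (fun g x => Dual3.IsGorensteinAt g x ∧ FlatMor.fibreDimAt g x = ((1 : ℕ) : WithBot ℕ∞)) where
  isOpen g _ _ := by
    convert (isPtCond_gor.{u}.isOpen g).inter (PtConds.isPtCond_cm_one.{u}.isOpen g) using 1
    ext x
    exact ⟨fun h => ⟨h.1, isCMAt_of_gor h.1, h.2⟩, fun h => ⟨h.1, h.2.2⟩⟩
  baseChange g _ _ φ g' fst h x' := by
    haveI : LocallyOfFinitePresentation g' := MorphismProperty.of_isPullback h ‹_›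
    exact and_congr (isPtCond_gor.baseChange g φ g' fst h x') (by rw [FibDim.fibreDimAt_baseChange h x'])
  precomp e _ g _ _ x := and_congr (isPtCond_gor.precomp e g x)
    (by rw [← S7408.result g (e ≫ g) e (𝟙 _) (Category.comp_id _) x])

end Groth.Agent.CStk17.GorCond
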