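import Mathlib
import Groth.Agent.Adic7.Basic

/-!
# Isomorphisms of elliptic curves over complete local domains
-/

set_option autoImplicit false

universe u v

namespace Groth.Agent.CStk17.IntegralVC

open WeierstrassCurve

/-- An elliptic curve has no infinitesimal automorphisms. -/
theorem tangent_eq_zero {k : Type u} [Field k] {Q : Type v} [CommRing Q] [Algebra k Q]
    (E : WeierstrassCurve k) (hΔ : E.Δ ≠ 0) (du dr ds dt : Q)
    (h1 : 2 * ds = algebraMap k Q E.a₁ * du)
    (h2 : -(algebraMap k Q E.a₁ * ds) + 3 * dr = 2 * algebraMap k Q E.a₂ * du)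
    (h3 : algebraMap k Q E.a₁ * dr + 2 * dt = 3 * algebraMap k Q E.a₃ * du)
    (h4 : -(algebraMap k Q E.a₃ * ds) + 2 * algebraMap k Q E.a₂ * dr - algebraMap k Q E.a₁ * dt =
      4 * algebraMap k Q E.a₄ * du)
    (h6 : algebraMap k Q E.a₄ * dr - algebraMap k Q E.a₃ * dt = 6 * algebraMap k Q E.a₆ * du) :
    du = 0 ∧ dr = 0 ∧ ds = 0 ∧ dt = 0 := by
  have cancel : ∀ (c : k) (x : Q), c ≠ 0 → algebraMap k Q c * x = 0 → x = 0 := fun c x hc hx =>
    (((isUnit_iff_ne_zero.2 hc).map (algebraMap k Q)).mul_right_eq_zero).1 hx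
  by_cases h2k : (2 : k) = 0
  · have t2 : (2 : Q) = 0 := by rw [← map_ofNat (algebraMap k Q) 2, h2k, map_zero]
    by_cases ha1 : E.a₁ = 0
    · have ha3 : E.a₃ ≠ 0 := fun h => hΔ (by
        simp only [WeierstrassCurve.Δ, WeierstrassCurve.b₂, WeierstrassCurve.b₄, WeierstrassCurve.b₆,
          WeierstrassCurve.b₈, ha1, h]
        linear_combination
          (-8 * E.a₂ ^ 2 * (4 * E.a₂ * E.a₆ - E.a₄ ^ 2) - 32 * E.a₄ ^ 3 - 216 * E.a₆ ^ 2 +
            144 * E.a₂ * E.a₄ * E.a₆) * h2k)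
      rw [ha1, map_zero] at h1 h2 h3 h4
      have eu : du = 0 := cancel _ _ ha3 (by linear_combination -h3 + (dt - algebraMap k Q E.a₃ * du) * t2)
      rw [eu] at h2 h4 h6
      have er : dr = 0 := by linear_combination h2 - dr * t2
      have es : ds = 0 := cancel _ _ ha3 (by linear_combination -h4 + algebraMap k Q E.a₂ * dr * t2)
      have et : dt = 0 := cancel _ _ ha3 (by rw [er] at h6; linear_combination -h6)
      exact ⟨eu, er, es, et⟩
    · have eu : du = 0 := cancel _ _ ha1 (by linear_combination -h1 + ds * t2)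
      rw [eu] at h2 h3 h4
      have er : dr = 0 := cancel _ _ ha1 (by linear_combination h3 - dt * t2)
      rw [er] at h2 h4
      have es : ds = 0 := cancel _ _ ha1 (by linear_combination -h2)
      rw [es] at h4
      have et : dt = 0 := cancel _ _ ha1 (by linear_combination -h4)
      exact ⟨eu, er, es, et⟩
  · have e2 : algebraMap k Q E.b₂ = algebraMap k Q E.a₁ ^ 2 + 4 * algebraMap k Q E.a₂ := by
      simp [WeierstrassCurve.b₂, map_ofNat]
    have e4 : algebraMap k Q E.b₄ = 2 * algebraMap k Q E.a₄ + algebraMap k Q E.a₁ * algebraMap k Q E.a₃ := by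
      simp [WeierstrassCurve.b₄, map_ofNat]
    have e6 : algebraMap k Q E.b₆ = algebraMap k Q E.a₃ ^ 2 + 4 * algebraMap k Q E.a₆ := by
      simp [WeierstrassCurve.b₆, map_ofNat]
    have q2 : 12 * dr = 2 * algebraMap k Q E.b₂ * du := by
      linear_combination 4 * h2 + 2 * algebraMap k Q E.a₁ * h1 - 2 * du * e2
    have q4 : algebraMap k Q E.b₂ * dr = 4 * algebraMap k Q E.b₄ * du := by
      linear_combination 2 * h4 + algebraMap k Q E.a₁ * h3 + algebraMap k Q E.a₃ * h1 + dr * e2 - 4 * du * e4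
    have q6 : 2 * algebraMap k Q E.b₄ * dr = 6 * algebraMap k Q E.b₆ * du := by
      linear_combination 4 * h6 + 2 * algebraMap k Q E.a₃ * h3 + 2 * dr * e4 - 6 * du * e6
    have key : du = 0 ∧ dr = 0 := by
      by_cases h3k : (3 : k) = 0
      · have t3 : (3 : Q) = 0 := by rw [← map_ofNat (algebraMap k Q) 3, h3k, map_zero]
        by_cases hb2 : E.b₂ = 0
        · have hb4 : E.b₄ ≠ 0 := fun h => hΔ (by
            rw [WeierstrassCurve.Δ, hb2, h]
            linear_combination -9 * E.b₆ ^ 2 * h3k)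
          rw [hb2, map_zero] at q4
          have eu : du = 0 := cancel _ _ hb4 (by linear_combination -q4 - algebraMap k Q E.b₄ * du * t3)
          rw [eu] at q6
          exact ⟨eu, cancel _ _ (mul_ne_zero h2k hb4) (by rw [map_mul, map_ofNat]; linear_combination q6)⟩
        · have eu : du = 0 := cancel _ _ (mul_ne_zero h2k hb2) (by
            rw [map_mul, map_ofNat]; linear_combination -q2 + 4 * dr * t3)
          rw [eu] at q4
          exact ⟨eu, cancel _ _ hb2 (by linear_combination q4)⟩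
      · have h12 : (12 : k) ≠ 0 := by
          rw [show (12 : k) = 2 * 2 * 3 by norm_num]; exact mul_ne_zero (mul_ne_zero h2k h2k) h3k
        have m4 : algebraMap k Q E.c₄ * du = 0 := by
          apply cancel _ _ h2k
          rw [WeierstrassCurve.c₄, map_sub, map_mul, map_pow, map_ofNat, map_ofNat]
          linear_combination -algebraMap k Q E.b₂ * q2 + 12 * q4
        have m6 : algebraMap k Q E.c₆ * du = 0 := by
          apply cancel _ _ h2k
          rw [WeierstrassCurve.c₆, map_sub, map_add, map_neg, map_mul, map_mul, map_mul, map_pow, map_ofNat,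
            map_ofNat, map_ofNat]
          linear_combination algebraMap k Q E.b₂ ^ 2 * q2 - 12 * algebraMap k Q E.b₂ * q4 -
            12 * algebraMap k Q E.b₄ * q2 + 72 * q6
        have eu : du = 0 := by
          by_cases hc4 : E.c₄ = 0
          · refine cancel _ _ (fun hc6 => hΔ ?_) m6
            have h1728 : (1728 : k) ≠ 0 := by
              rw [show (1728 : k) = 12 * 12 * 12 by norm_num]; exact mul_ne_zero (mul_ne_zero h12 h12) h12
            have e := E.c_relation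
            rw [hc4, hc6] at e
            simpa [h1728] using e
          · exact cancel _ _ hc4 m4
        rw [eu] at q2
        exact ⟨eu, cancel _ _ h12 (by rw [map_ofNat]; linear_combination q2)⟩
    obtain ⟨eu, er⟩ := key
    rw [eu] at h1 h3
    rw [er] at h3
    exact ⟨eu, er, cancel _ _ h2k (by rw [map_ofNat]; linear_combination h1),
      cancel _ _ h2k (by rw [map_ofNat]; linear_combination h3)⟩

variable {R : Type u} [CommRing R] {L : Type u} [Field L] [Algebra R L]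

/-- The parameters of a change of variables between two elliptic curves are integral. -/
theorem integral_of_smul_eq (W₁ W₂ : WeierstrassCurve R) [W₁.IsElliptic] [W₂.IsElliptic]
    (C : VariableChange L) (hC : C • W₁.map (algebraMap R L) = W₂.map (algebraMap R L)) :
    IsIntegral R (C.u : L) ∧ IsIntegral R ((C.u⁻¹ : Lˣ) : L) ∧ IsIntegral R C.r ∧ IsIntegral R C.s ∧
      IsIntegral R C.t := by
  let a := algebraMap R L
  have hmem : ∀ x : R, a x ∈ integralClosure R L := fun x => isIntegral_algebraMap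
  have key : ∀ (x : L) (p : R) (q : R), IsUnit p → x ^ 12 * a p = a q → IsIntegral R x := by
    intro x p q hp hx
    obtain ⟨p, rfl⟩ := hp
    refine IsIntegral.of_pow (by norm_num : 0 < 12) ?_
    have : x ^ 12 = a (q * ↑p⁻¹) := by rw [map_mul, ← hx, mul_assoc, ← map_mul, Units.mul_inv, map_one, mul_one]
    rw [this]
    exact isIntegral_algebraMap
  have hd := congrArg WeierstrassCurve.Δ hC
  simp only [variableChange_Δ, WeierstrassCurve.map_Δ] at hd
  have huu : (C.u : L) * ((C.u⁻¹ : Lˣ) : L) = 1 := Units.mul_inv _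
  have hinv : IsIntegral R ((C.u⁻¹ : Lˣ) : L) := key _ _ _ W₁.isUnit_Δ hd
  have hu : IsIntegral R (C.u : L) := key _ _ W₁.Δ W₂.isUnit_Δ (by
    rw [← hd, ← mul_assoc, ← mul_pow, huu, one_pow, one_mul])
  have hb6 := congrArg WeierstrassCurve.b₆ hC
  have hb8 := congrArg WeierstrassCurve.b₈ hC
  have ha2 := congrArg WeierstrassCurve.a₂ hC
  have ha6 := congrArg WeierstrassCurve.a₆ hC
  simp only [variableChange_b₆, variableChange_b₈, variableChange_a₂, variableChange_a₆, WeierstrassCurve.map_b₂,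
    WeierstrassCurve.map_b₄, WeierstrassCurve.map_b₆, WeierstrassCurve.map_b₈, WeierstrassCurve.map_a₁,
    WeierstrassCurve.map_a₂, WeierstrassCurve.map_a₃, WeierstrassCurve.map_a₄, WeierstrassCurve.map_a₆]
    at hb6 hb8 ha2 ha6
  let B := integralClosure R L
  have fix_int : ∀ (x : L) (p : Polynomial B), p.Monic → Polynomial.aeval x p = 0 → IsIntegral R x :=
    fun x p hp h0 => isIntegral_trans (A := B) x ⟨p, hp, h0⟩
  let U : B := ⟨(C.u : L), hu⟩
  let e : R → B := algebraMap R B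
  have he : ∀ x, algebraMap B L (e x) = a x := fun x => (IsScalarTower.algebraMap_apply R B L x).symm
  have hU : algebraMap B L U = (C.u : L) := rfl
  have hr : IsIntegral R C.r := by
    refine fix_int C.r (Polynomial.X ^ 4 + (Polynomial.C (-e W₁.b₄) * Polynomial.X ^ 2 +
      Polynomial.C (-2 * e W₁.b₆ - U ^ 6 * e W₂.b₆) * Polynomial.X +
      Polynomial.C (U ^ 8 * e W₂.b₈ - e W₁.b₈))) ?_ ?_
    · exact Polynomial.monic_X_pow_add (by compute_degree!)
    · simp only [map_add, map_mul, Polynomial.aeval_X_pow, Polynomial.aeval_X, Polynomial.aeval_C, map_pow,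
        map_sub, map_neg, map_ofNat, he, hU]
      linear_combination (C.r * (C.u : L) ^ 6) * hb6 - (C.u : L) ^ 8 * hb8 +
        (-(C.r * (a W₁.b₆ + 2 * C.r * a W₁.b₄ + C.r ^ 2 * a W₁.b₂ + 4 * C.r ^ 3)) *
          ((((C.u : L) * ((C.u⁻¹ : Lˣ) : L)) ^ 5 + ((C.u : L) * ((C.u⁻¹ : Lˣ) : L)) ^ 4 +
            ((C.u : L) * ((C.u⁻¹ : Lˣ) : L)) ^ 3 + ((C.u : L) * ((C.u⁻¹ : Lˣ) : L)) ^ 2 +
            ((C.u : L) * ((C.u⁻¹ : Lˣ) : L)) + 1)) +
        (a W₁.b₈ + 3 * C.r * a W₁.b₆ + 3 * C.r ^ 2 * a W₁.b₄ + C.r ^ 3 * a W₁.b₂ + 3 * C.r ^ 4) *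
          ((((C.u : L) * ((C.u⁻¹ : Lˣ) : L)) ^ 7 + ((C.u : L) * ((C.u⁻¹ : Lˣ) : L)) ^ 6 +
            ((C.u : L) * ((C.u⁻¹ : Lˣ) : L)) ^ 5 + ((C.u : L) * ((C.u⁻¹ : Lˣ) : L)) ^ 4 +
            ((C.u : L) * ((C.u⁻¹ : Lˣ) : L)) ^ 3 + ((C.u : L) * ((C.u⁻¹ : Lˣ) : L)) ^ 2 +
            ((C.u : L) * ((C.u⁻¹ : Lˣ) : L)) + 1))) * huu
  let rB : B := ⟨C.r, hr⟩
  have hrB : algebraMap B L rB = C.r := rfl
  have hs : IsIntegral R C.s := by
    refine fix_int C.s (Polynomial.X ^ 2 + (Polynomial.C (e W₁.a₁) * Polynomial.X +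
      Polynomial.C (U ^ 2 * e W₂.a₂ - e W₁.a₂ - 3 * rB))) ?_ ?_
    · exact Polynomial.monic_X_pow_add (by compute_degree!)
    · simp only [map_add, map_mul, Polynomial.aeval_X_pow, Polynomial.aeval_X, Polynomial.aeval_C, map_pow,
        map_sub, map_ofNat, he, hU, hrB]
      linear_combination -(C.u : L) ^ 2 * ha2 +
        (a W₁.a₂ - C.s * a W₁.a₁ + 3 * C.r - C.s ^ 2) * (((C.u : L) * ((C.u⁻¹ : Lˣ) : L)) + 1) * huu
  have ht : IsIntegral R C.t := by
    refine fix_int C.t (Polynomial.X ^ 2 + (Polynomial.C (e W₁.a₃ + rB * e W₁.a₁) * Polynomial.X +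
      Polynomial.C (U ^ 6 * e W₂.a₆ - e W₁.a₆ - rB * e W₁.a₄ - rB ^ 2 * e W₁.a₂ - rB ^ 3))) ?_ ?_
    · exact Polynomial.monic_X_pow_add (by compute_degree!)
    · simp only [map_add, map_mul, Polynomial.aeval_X_pow, Polynomial.aeval_X, Polynomial.aeval_C, map_pow,
        map_sub, he, hU, hrB]
      linear_combination -(C.u : L) ^ 6 * ha6 +
        (a W₁.a₆ + C.r * a W₁.a₄ + C.r ^ 2 * a W₁.a₂ + C.r ^ 3 - C.t * a W₁.a₃ - C.t ^ 2 -
          C.r * C.t * a W₁.a₁) * (((C.u : L) * ((C.u⁻¹ : Lˣ) : L)) ^ 5 + ((C.u : L) * ((C.u⁻¹ : Lˣ) : L)) ^ 4 +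
            ((C.u : L) * ((C.u⁻¹ : Lˣ) : L)) ^ 3 + ((C.u : L) * ((C.u⁻¹ : Lˣ) : L)) ^ 2 +
            ((C.u : L) * ((C.u⁻¹ : Lˣ) : L)) + 1) * huu
  exact ⟨hu, hinv, hr, hs, ht⟩

end Groth.Agent.CStk17.IntegralVC
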