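import Groth.Agent.CStk17.ODP
import Mathlib.RingTheory.Kaehler.Basic
import Mathlib.RingTheory.MvPowerSeries.Derivative
import Mathlib.Algebra.DualNumber
import Mathlib.LinearAlgebra.FreeModule.PID

/-!
# A node is not the base change of a regular local ring of dimension at most one

Derivations of a node do not form a free module, those of a principal ideal domain do.
-/

set_option autoImplicit false
set_option backward.isDefEq.respectTransparency false
set_option backward.isDefEq.respectTransparency.types false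

universe u

open IsLocalRing TensorProduct TrivSqZeroExt

namespace Groth.Agent.CStk17.NodeDer

open ODP

section Abstract

variable {K : Type u} [Field K] {C : Type u} [CommRing C] [Algebra K C] [IsLocalRing C]

/-- Dual numbers with first component in `m ^ (n + 1)`. -/
theorem snd_mem_pow {T : Type u} [CommRing T] (χ : T →+* DualNumber C) (J : Ideal T)
    (h : ∀ t ∈ J, (χ t).fst ∈ maximalIdeal C) (n : ℕ) {t : T} (ht : t ∈ J ^ (n + 1)) :
    (χ t).snd ∈ maximalIdeal C ^ n ∧ (χ t).fst ∈ maximalIdeal C ^ (n + 1) := by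
  induction n generalizing t with
  | zero =>
    rw [zero_add, pow_one] at ht ⊢
    exact ⟨by simp, h t ht⟩
  | succ n ih =>
    rw [pow_succ] at ht
    induction ht using Submodule.mul_induction_on' with
    | mem_mul_mem a ha b hb =>
      obtain ⟨h1, h2⟩ := ih ha
      refine ⟨?_, ?_⟩
      · rw [map_mul, TrivSqZeroExt.snd_mul, smul_eq_mul, MulOpposite.smul_eq_mul_unop, MulOpposite.unop_op]
        refine add_mem (Ideal.mul_mem_right _ _ h2) ?_
        rw [pow_succ]
        exact Ideal.mul_mem_mul h1 (h b hb)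
      · rw [map_mul, TrivSqZeroExt.fst_mul, pow_succ]
        exact Ideal.mul_mem_mul h2 (h b hb)
    | add a _ b _ iha ihb => rw [map_add]; exact ⟨add_mem iha.1 ihb.1, add_mem iha.2 ihb.2⟩

/-- The properties of a node used below. -/
structure NodeData (K : Type u) [Field K] (C : Type u) [CommRing C] [Algebra K C] [IsLocalRing C] where
  u : C
  v : C
  ψ : C →+* DualNumber C
  u_mem : u ∈ maximalIdeal C
  v_mem : v ∈ maximalIdeal C
  u_not_sq : u ∉ maximalIdeal C ^ 2
  v_not_sq : v ∉ maximalIdeal C ^ 2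
  v_mul_u : v * u = 0
  ann : ∀ y, v * y = 0 → ∃ c, y = u * c
  psi_fst : ∀ y, (ψ y).fst = y
  v_mul_psi : ∀ y, v * (ψ y).snd = 0
  psi_u : (ψ u).snd = u
  psi_v : (ψ v).snd = 0
  psi_K : ∀ c : K, (ψ (algebraMap K C c)).snd = 0

variable (d : NodeData K C)

/-- No derivation to the node divides `u∂/∂u` by `u`. -/
theorem false_of_dual {B : Type u} [CommRing B] (mB : Ideal B) (g : B →+* C)
    (hgm : ∀ t ∈ mB, g t ∈ maximalIdeal C) (hgmem : ∀ b, g b ∈ maximalIdeal C ^ 3 → b ∈ mB ^ 3)
    (hgapprox : ∀ y : C, ∃ b, g b - y ∈ maximalIdeal C ^ 3)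
    (χ : B →+* DualNumber C) (hχfst : ∀ b, (χ b).fst = g b)
    (hkey : ∀ b, (d.ψ (g b)).snd = d.u * (χ b).snd) : False := by
  obtain ⟨b, hb⟩ := hgapprox (d.u)
  obtain ⟨b', hb'⟩ := hgapprox (d.v)
  have hle : maximalIdeal C ^ 3 ≤ maximalIdeal C ^ 2 := Ideal.pow_le_pow_right (by omega)
  have hb1 : g b ∈ maximalIdeal C := by
    simpa using add_mem (Ideal.pow_le_self (by omega) hb) d.u_mem
  have hb'1 : g b' ∈ maximalIdeal C := by
    simpa using add_mem (Ideal.pow_le_self (by omega) hb') d.v_mem
  have hbb : b * b' ∈ mB ^ 3 := hgmem _ (by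
    rw [map_mul, show g b * g b' = (g b - d.u) * g b' + d.u * (g b' - d.v) + d.v * d.u by ring, d.v_mul_u, add_zero]
    exact add_mem (Ideal.mul_mem_right _ _ hb) (Ideal.mul_mem_left _ _ hb'))
  have hEbb := (snd_mem_pow χ mB (fun t ht => by rw [hχfst]; exact hgm t ht) 2 hbb).1
  rw [map_mul, TrivSqZeroExt.snd_mul, hχfst, hχfst, smul_eq_mul, MulOpposite.smul_eq_mul_unop,
    MulOpposite.unop_op] at hEbb
  have hDb : d.u * (χ b).snd - d.u ∈ maximalIdeal C ^ 2 := by
    have h := (snd_mem_pow d.ψ _ (fun t ht => by rwa [d.psi_fst]) 2 hb).1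
    rw [map_sub, TrivSqZeroExt.snd_sub, hkey, d.psi_u] at h
    simpa using h
  have hDb' : d.u * (χ b').snd ∈ maximalIdeal C ^ 2 := by
    have h := (snd_mem_pow d.ψ _ (fun t ht => by rwa [d.psi_fst]) 2 hb').1
    rw [map_sub, TrivSqZeroExt.snd_sub, hkey, d.psi_v] at h
    simpa using h
  have h' : (χ b').snd ∈ maximalIdeal C := by
    by_contra hh
    rw [notMem_maximalIdeal] at hh
    exact d.u_not_sq ((Ideal.mul_unit_mem_iff_mem _ hh).1 hDb')
  have hu : IsUnit (χ b).snd := by
    rw [← notMem_maximalIdeal]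
    intro hh
    have h3 : d.u * (χ b).snd ∈ maximalIdeal C ^ 2 := by
      rw [pow_two]; exact Ideal.mul_mem_mul d.u_mem hh
    exact d.u_not_sq (by simpa using sub_mem h3 hDb)
  have h5 : g b * (χ b').snd ∈ maximalIdeal C ^ 2 := by
    rw [pow_two]; exact Ideal.mul_mem_mul hb1 h'
  have h6 : g b' * (χ b).snd ∈ maximalIdeal C ^ 2 := by
    rw [mul_comm]
    simpa [mul_comm] using sub_mem hEbb h5
  have h7 := (Ideal.mul_unit_mem_iff_mem _ hu).1 h6
  exact d.v_not_sq (by simpa using sub_mem h7 (hle hb'))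

/-- Over a principal ideal domain, a derivation killed by `v` is divisible by `u`. -/
theorem exists_div {k : Type u} [Field k] [Algebra k C] {R A : Type u} [CommRing R] [Algebra k R] [Algebra.FiniteType k R] [CommRing A] [IsDomain A]
    [IsPrincipalIdealRing A] [Algebra R A] [Algebra A C] [Algebra R C] [IsScalarTower R A C] [IsScalarTower k R C]
    (hinj : ∀ a : A, a ≠ 0 → ∀ y : C, algebraMap A C a * y = 0 → y = 0)
    (D : Derivation k R C) (hv : ∀ r, d.v * D r = 0) :
    ∃ E : Derivation k R C, ∀ r, D r = d.u * E r := by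
  let M := A ⊗[R] KaehlerDifferential k R
  let L : M →ₗ[A] C := D.liftKaehlerDifferential.liftBaseChange A
  have hall : ∀ m : M, d.v * L m = 0 := fun m => by
    induction m using TensorProduct.induction_on with
    | zero => rw [map_zero, mul_zero]
    | add a b ha hb => rw [map_add, mul_add, ha, hb, add_zero]
    | tmul a w =>
      rw [LinearMap.liftBaseChange_tmul, Algebra.smul_def, ← mul_assoc, mul_comm (d.v), mul_assoc]
      have : d.v * D.liftKaehlerDifferential w = 0 := by
        have hw : w ∈ Submodule.span R (Set.range (KaehlerDifferential.D k R)) := by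
          rw [KaehlerDifferential.span_range_derivation]; trivial
        induction hw using Submodule.span_induction with
        | mem x hx =>
          obtain ⟨r, rfl⟩ := hx
          rw [Derivation.liftKaehlerDifferential_comp_D]
          exact hv r
        | zero => rw [map_zero, mul_zero]
        | add x y _ _ hx hy => rw [map_add, mul_add, hx, hy, add_zero]
        | smul r x _ hx => rw [map_smul, mul_smul_comm, hx, smul_zero]
      rw [this, mul_zero]
  have htors : Submodule.torsion A M ≤ LinearMap.ker L := by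
    rintro m ⟨⟨a, ha⟩, hm⟩
    rw [LinearMap.mem_ker]
    refine hinj a (nonZeroDivisors.ne_zero ha) _ ?_
    have := congrArg L hm
    rwa [map_zero, Submonoid.smul_def, map_smul, Algebra.smul_def] at this
  let Q := M ⧸ Submodule.torsion A M
  haveI : Module.Free A Q := inferInstance
  let bQ := Module.Free.chooseBasis A Q
  let Lbar : Q →ₗ[A] C := (Submodule.torsion A M).liftQ L htors
  have hv' : ∀ i, d.v * Lbar (bQ i) = 0 := fun i => by
    obtain ⟨m, hm⟩ := Submodule.mkQ_surjective _ (bQ i)
    rw [← hm]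
    exact hall m
  choose c hc using fun i => d.ann _ (hv' i)
  let E : Q →ₗ[A] C := bQ.constr A c
  have hLE : Lbar = (LinearMap.mulLeft A (d.u : C)).comp E := bQ.ext fun i => by simp [E, hc]
  refine ⟨(((E.comp (Submodule.mkQ _)).restrictScalars R).comp ((TensorProduct.mk R A _) 1)).compDer
    (KaehlerDifferential.D k R), fun r => ?_⟩
  have h := LinearMap.congr_fun hLE (Submodule.Quotient.mk (1 ⊗ₜ KaehlerDifferential.D k R r))
  have h1 : L (1 ⊗ₜ KaehlerDifferential.D k R r) = D r := by
    rw [LinearMap.liftBaseChange_tmul, one_smul, Derivation.liftKaehlerDifferential_comp_D]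
  rw [← h1]
  exact h

/-- Extension of a derivation to a localized base change. -/
theorem exists_extend {k : Type u} [Field k] [Algebra k K] [Algebra k C] [IsScalarTower k K C] {R B : Type u} [CommRing R] [Algebra k R] [CommRing B] [Algebra (K ⊗[k] R) B]
    (N : Submonoid (K ⊗[k] R)) [IsLocalization N B] [Algebra R C] [IsScalarTower k R C] (g : B →+* C)
    (hK : ∀ c : K, g (algebraMap (K ⊗[k] R) B (c ⊗ₜ 1)) = algebraMap K C c)
    (hR : ∀ r, g (algebraMap (K ⊗[k] R) B (1 ⊗ₜ r)) = algebraMap R C r)
    (E : Derivation k R C) (hE : ∀ r, (d.ψ (algebraMap R C r)).snd = d.u * E r) :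
    ∃ χ : B →+* DualNumber C, (∀ b, (χ b).fst = g b) ∧ ∀ b, (d.ψ (g b)).snd = d.u * (χ b).snd := by
  let χR : R →ₐ[k] DualNumber C :=
    { toFun := fun r => inl (algebraMap R C r) + inr (E r)
      map_one' := by ext <;> simp
      map_zero' := by ext <;> simp
      map_add' := fun a b => by ext <;> simp
      map_mul' := fun a b => by
        refine TrivSqZeroExt.ext (by simp) ?_
        simp only [TrivSqZeroExt.snd_mul, TrivSqZeroExt.snd_add, TrivSqZeroExt.snd_inl, TrivSqZeroExt.snd_inr,
          TrivSqZeroExt.fst_add, TrivSqZeroExt.fst_inl, TrivSqZeroExt.fst_inr, zero_add, add_zero,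
          smul_eq_mul, MulOpposite.smul_eq_mul_unop, MulOpposite.unop_op, Derivation.leibniz]
        rw [Algebra.smul_def, Algebra.smul_def]
        ring
      commutes' := fun c => by
        refine TrivSqZeroExt.ext ?_ ?_
        · simpa [TrivSqZeroExt.algebraMap_eq_inl'] using (IsScalarTower.algebraMap_apply k R C c).symm
        · simp [TrivSqZeroExt.algebraMap_eq_inl'] }
  let χK : K →ₐ[k] DualNumber C := (Algebra.ofId K (DualNumber C)).restrictScalars k
  have hχK : ∀ c : K, χK c = inl (algebraMap K C c) := fun c => by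
    simp [χK, TrivSqZeroExt.algebraMap_eq_inl', Algebra.ofId_apply]
  let χT : K ⊗[k] R →ₐ[k] DualNumber C := Algebra.TensorProduct.lift χK χR fun _ _ => Commute.all _ _
  have hsplit : ∀ (c : K) (r : R), (c ⊗ₜ r : K ⊗[k] R) = c ⊗ₜ 1 * 1 ⊗ₜ r := fun c r => by simp
  have hfst : ∀ t, (χT t).fst = g (algebraMap (K ⊗[k] R) B t) := fun t => by
    induction t using TensorProduct.induction_on with
    | zero => simp
    | add a b ha hb => simp only [map_add, TrivSqZeroExt.fst_add, ha, hb]
    | tmul c r =>
      rw [show χT (c ⊗ₜ r) = χK c * χR r from Algebra.TensorProduct.lift_tmul _ _ _ c r, hsplit,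
        map_mul (algebraMap _ B), map_mul g, hK, hR, hχK]
      simp [χR]
  have hunit : ∀ t : N, IsUnit (χT.toRingHom t) := fun t => by
    show IsUnit (χT t)
    rw [TrivSqZeroExt.isUnit_iff_isUnit_fst, hfst]
    exact (IsLocalization.map_units B t).map g
  let χ : B →+* DualNumber C := IsLocalization.lift (g := χT.toRingHom) hunit
  have hχT : ∀ t, χ (algebraMap _ B t) = χT t := fun t => IsLocalization.lift_eq hunit t
  refine ⟨χ, fun b => ?_, fun b => ?_⟩
  · have h1 : (TrivSqZeroExt.fstHom C C C).toRingHom.comp χ = g := by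
      refine IsLocalization.ringHom_ext N (RingHom.ext fun t => ?_)
      show (χ (algebraMap _ B t)).fst = g (algebraMap _ B t)
      rw [hχT, hfst]
    exact RingHom.congr_fun h1 b
  · let μ : DualNumber C →+* DualNumber C :=
      { toFun := fun z => inl z.fst + inr (d.u * z.snd)
        map_one' := by ext <;> simp
        map_zero' := by ext <;> simp
        map_add' := fun a b => by ext <;> simp [mul_add]
        map_mul' := fun a b => by
          refine TrivSqZeroExt.ext (by simp) ?_
          simp only [TrivSqZeroExt.snd_mul, TrivSqZeroExt.snd_add, TrivSqZeroExt.snd_inl, TrivSqZeroExt.snd_inr,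
            TrivSqZeroExt.fst_add, TrivSqZeroExt.fst_inl, TrivSqZeroExt.fst_inr, zero_add, add_zero,
            smul_eq_mul, MulOpposite.smul_eq_mul_unop, MulOpposite.unop_op]
          ring }
    have h1 : d.ψ.comp g = μ.comp χ := by
      refine IsLocalization.ringHom_ext N (RingHom.ext fun t => ?_)
      show d.ψ (g (algebraMap _ B t)) = μ (χ (algebraMap _ B t))
      rw [hχT]
      induction t using TensorProduct.induction_on with
      | zero => simp
      | add a b ha hb => simp only [map_add, ha, hb]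
      | tmul c r =>
        rw [show χT (c ⊗ₜ r) = χK c * χR r from Algebra.TensorProduct.lift_tmul _ _ _ c r, hsplit,
          map_mul (algebraMap _ B), map_mul g, hK, hR, hχK, map_mul d.ψ, map_mul μ]
        congr 1
        · refine TrivSqZeroExt.ext ?_ ?_
          · simp [μ, d.psi_fst]
          · simp [μ, d.psi_K]
        · refine TrivSqZeroExt.ext ?_ ?_
          · simp [μ, χR, d.psi_fst]
          · simpa [μ, χR] using hE r
    rw [← RingHom.comp_apply, h1]
    simp [μ]

include d in
/-- A ring with node data is not the completed base change of a principal ideal domain. -/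
theorem not_completion_equiv {k : Type u} [Field k] [Algebra k K] [Algebra k C] [IsScalarTower k K C] {R A B : Type u} [CommRing R] [Algebra k R] [Algebra.FiniteType k R]
    [CommRing A] [IsDomain A] [IsPrincipalIdealRing A] [Algebra R A]
    [CommRing B] [IsLocalRing B] [IsNoetherianRing B] [Algebra K B] [Algebra (K ⊗[k] R) B]
    (N : Submonoid (K ⊗[k] R)) [IsLocalization N B] [Algebra R B] [Algebra A B] [IsScalarTower R A B]
    [Module.Flat A B]
    (hK : ∀ c, algebraMap K B c = algebraMap (K ⊗[k] R) B (c ⊗ₜ 1))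
    (hR : ∀ r, algebraMap R B r = algebraMap (K ⊗[k] R) B (1 ⊗ₜ r))
    (e : AdicCompletion (maximalIdeal B) B ≃+* C)
    (he : ∀ c : K, e (algebraMap B _ (algebraMap K B c)) = algebraMap K C c) : False := by
  haveI := LC.Canon.faithfullyFlat_completion (R := B)
  let g : B →+* C := e.toRingHom.comp (algebraMap B _)
  have hgK : ∀ c, g (algebraMap K B c) = algebraMap K C c := he
  have hgm : ∀ n, (maximalIdeal B ^ n).map g = maximalIdeal C ^ n := fun n => by
    rw [Ideal.map_pow, ← Ideal.map_map, ← AdicCompletion.maximalIdeal_eq_map,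
      IsLocalRing.map_maximalIdeal_of_surjective _ e.surjective]
  have hgapprox : ∀ y : C, ∃ b, g b - y ∈ maximalIdeal C ^ 3 := fun y => by
    obtain ⟨b, hb⟩ := Ideal.Quotient.mk_surjective (AdicCompletion.evalₐ (maximalIdeal B) 3 (e.symm y))
    refine ⟨b, ?_⟩
    rw [← hgm, ← Ideal.map_map]
    have : algebraMap B _ b - e.symm y ∈
        (maximalIdeal B ^ 3).map (algebraMap B (AdicCompletion (maximalIdeal B) B)) := by
      rw [← FComplLib.evalₐ_eq_zero_iff _ (IsNoetherian.noetherian _), map_sub, FComplLib.evalₐ_algebraMap, hb,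
        sub_self]
    have h2 := Ideal.mem_map_of_mem e.toRingHom this
    rw [map_sub] at h2
    simpa [g] using h2
  have hgmem : ∀ b, g b ∈ maximalIdeal C ^ 3 → b ∈ maximalIdeal B ^ 3 := fun b hb => by
    rw [← hgm, ← Ideal.map_map] at hb
    obtain ⟨y, hy, hye⟩ := (Ideal.mem_map_iff_of_surjective _ e.surjective).1 hb
    rw [← Ideal.comap_map_eq_self_of_faithfullyFlat (B := AdicCompletion (maximalIdeal B) B) (maximalIdeal B ^ 3),
      Ideal.mem_comap]
    exact e.injective hye ▸ hy
  letI : Algebra A C := (g.comp (algebraMap A B)).toAlgebra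
  letI : Algebra R C := (g.comp (algebraMap R B)).toAlgebra
  haveI : IsScalarTower R A C := IsScalarTower.of_algebraMap_eq fun r => by
    show g (algebraMap R B r) = g (algebraMap A B (algebraMap R A r))
    rw [← IsScalarTower.algebraMap_apply]
  haveI : IsScalarTower k R C := IsScalarTower.of_algebraMap_eq fun c => by
    show _ = g (algebraMap R B _)
    rw [hR, IsScalarTower.algebraMap_apply k K C, ← hgK, hK, Algebra.TensorProduct.tmul_one_eq_one_tmul]
  have hpsiK : ∀ c : k, d.ψ (algebraMap k C c) = inl (algebraMap k C c) := fun c =>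
    TrivSqZeroExt.ext (by rw [d.psi_fst]; rfl) (by rw [IsScalarTower.algebraMap_apply k K C, d.psi_K]; rfl)
  let D : Derivation k R C := Derivation.mk'
    { toFun := fun r => (d.ψ (algebraMap R C r)).snd
      map_add' := fun a b => by simp
      map_smul' := fun c r => by
        simp only [RingHom.id_apply]
        rw [Algebra.smul_def, map_mul, map_mul, ← IsScalarTower.algebraMap_apply, hpsiK, TrivSqZeroExt.snd_mul]
        simp [Algebra.smul_def] }
    fun a b => by
      simp only [LinearMap.coe_mk, AddHom.coe_mk, Algebra.smul_def]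
      rw [map_mul, map_mul, TrivSqZeroExt.snd_mul, d.psi_fst, d.psi_fst, smul_eq_mul,
        MulOpposite.smul_eq_mul_unop, MulOpposite.unop_op]
      ring
  have hinj : ∀ a : A, a ≠ 0 → ∀ y : C, algebraMap A C a * y = 0 → y = 0 := fun a ha y hy => by
    haveI : Module.Flat A (AdicCompletion (maximalIdeal B) B) := Module.Flat.trans A B _
    have h1 : IsSMulRegular (AdicCompletion (maximalIdeal B) B)
        (algebraMap A (AdicCompletion (maximalIdeal B) B) a) :=
      IsSMulRegular.of_flat (IsSMulRegular.of_ne_zero ha : IsSMulRegular A a)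
    have h2 : algebraMap A (AdicCompletion (maximalIdeal B) B) a * e.symm y = 0 := by
      refine e.injective ?_
      rw [map_mul, e.apply_symm_apply, map_zero, IsScalarTower.algebraMap_apply A B]
      exact hy
    have : e.symm y = 0 := h1 (by simpa using h2)
    simpa using congrArg e this
  obtain ⟨E, hE⟩ := exists_div d hinj D fun r => d.v_mul_psi _
  obtain ⟨χ, hχ1, hχ2⟩ := exists_extend d N g (fun c => by rw [← hK, hgK]) (fun r => by rw [← hR]; rfl) E hE
  refine false_of_dual d (maximalIdeal B) g (fun t ht => ?_) hgmem hgapprox χ hχ1 hχ2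
  have := hgm 1
  rw [pow_one, pow_one] at this
  rw [← this]
  exact Ideal.mem_map_of_mem _ ht

end Abstract

section Node

variable {K : Type u} [Field K]

local notation "S" => MvPowerSeries (Fin 2) K

theorem X_not_mem (i : Fin 2) : (MvPowerSeries.X i : S) ∉ nodeIdeal K ⊔ PSLib.vars 2 K ^ 2 := by
  intro h
  have hle : nodeIdeal K ≤ PSLib.vars 2 K ^ 2 := by
    rw [nodeIdeal, Ideal.span_singleton_le_iff_mem, pow_two]
    exact Ideal.mul_mem_mul (Ideal.subset_span ⟨0, rfl⟩) (Ideal.subset_span ⟨1, rfl⟩)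
  rw [sup_eq_right.2 hle, PSLib.mem_pow_iff] at h
  have := h (Finsupp.single i 1) (by simp)
  simp [MvPowerSeries.coeff_X] at this

theorem ann_X_one {f : S} (h : MvPowerSeries.X 1 * f ∈ nodeIdeal K) : ∃ c, f = MvPowerSeries.X 0 * c := by
  obtain ⟨c, hc⟩ := Ideal.mem_span_singleton'.1 h
  have h1 : (MvPowerSeries.X 1 : S) ≠ 0 := fun h1 => by
    simpa [MvPowerSeries.coeff_X] using congrArg (MvPowerSeries.coeff (Finsupp.single 1 1)) h1
  exact ⟨c, mul_left_cancel₀ h1 (by rw [← hc]; ring)⟩

/-- `f ↦ (f, u ∂f/∂u)`. -/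
noncomputable def theta : S →+* DualNumber (S ⧸ nodeIdeal K) where
  toFun s := inl (Ideal.Quotient.mk (nodeIdeal K) s) +
      inr (Ideal.Quotient.mk (nodeIdeal K) (MvPowerSeries.X 0 * MvPowerSeries.pderiv K (0 : Fin 2) s))
  map_one' := by ext <;> simp
  map_zero' := by ext <;> simp
  map_add' a b := by ext <;> simp [mul_add]
  map_mul' a b := by
    refine TrivSqZeroExt.ext (by simp) ?_
    simp only [TrivSqZeroExt.snd_mul, TrivSqZeroExt.snd_add, TrivSqZeroExt.snd_inl, TrivSqZeroExt.snd_inr,
      TrivSqZeroExt.fst_add, TrivSqZeroExt.fst_inl, TrivSqZeroExt.fst_inr, zero_add, add_zero,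
      smul_eq_mul, MulOpposite.smul_eq_mul_unop, MulOpposite.unop_op, ← map_mul, ← map_add,
      Derivation.leibniz]
    congr 1
    ring

theorem theta_eq_zero {s : S} (hs : s ∈ nodeIdeal K) : theta s = 0 := by
  obtain ⟨c, rfl⟩ := Ideal.mem_span_singleton'.1 hs
  have h1 : ∀ t : S, Ideal.Quotient.mk (nodeIdeal K) (t * (MvPowerSeries.X 0 * MvPowerSeries.X 1)) = 0 :=
    fun t => Ideal.Quotient.eq_zero_iff_mem.2 (Ideal.mul_mem_left _ _ (Ideal.mem_span_singleton_self _))
  refine TrivSqZeroExt.ext (by simp [theta, h1]) ?_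
  simp only [theta, RingHom.coe_mk, MonoidHom.coe_mk, OneHom.coe_mk, TrivSqZeroExt.snd_add, TrivSqZeroExt.snd_inl,
    TrivSqZeroExt.snd_inr, zero_add, TrivSqZeroExt.snd_zero, Derivation.leibniz, smul_eq_mul,
    MvPowerSeries.pderiv_X, Pi.single_eq_same, Pi.single_eq_of_ne (show (1 : Fin 2) ≠ 0 by decide),
    mul_zero, mul_one]
  rw [show (MvPowerSeries.X 0 : S) * (c * MvPowerSeries.X 1 + MvPowerSeries.X 0 * MvPowerSeries.X 1 *
    MvPowerSeries.pderiv K (0 : Fin 2) c) = (c + MvPowerSeries.X 0 * MvPowerSeries.pderiv K (0 : Fin 2) c) *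
      (MvPowerSeries.X 0 * MvPowerSeries.X 1) by ring, h1]

theorem X_mem_maximal [IsLocalRing (S ⧸ nodeIdeal K)] (i : Fin 2) :
    Ideal.Quotient.mk (nodeIdeal K) (MvPowerSeries.X i) ∈ maximalIdeal (S ⧸ nodeIdeal K) := by
  rw [maximalIdeal_node]
  exact Ideal.mem_map_of_mem _ (Ideal.subset_span ⟨i, rfl⟩)

theorem X_not_sq [IsLocalRing (S ⧸ nodeIdeal K)] (i : Fin 2) :
    Ideal.Quotient.mk (nodeIdeal K) (MvPowerSeries.X i) ∉ maximalIdeal (S ⧸ nodeIdeal K) ^ 2 := by
  rw [maximalIdeal_node, ← Ideal.map_pow, ← Ideal.mem_comap,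
    Ideal.comap_map_of_surjective _ Ideal.Quotient.mk_surjective, ← RingHom.ker_eq_comap_bot, Ideal.mk_ker, sup_comm]
  exact X_not_mem i

/-- The data of the node. -/
noncomputable def nodeData [IsLocalRing (S ⧸ nodeIdeal K)] : NodeData K (S ⧸ nodeIdeal K) where
  u := Ideal.Quotient.mk _ (MvPowerSeries.X 0)
  v := Ideal.Quotient.mk _ (MvPowerSeries.X 1)
  ψ := Ideal.Quotient.lift _ theta fun _ hs => theta_eq_zero hs
  u_mem := X_mem_maximal 0
  v_mem := X_mem_maximal 1
  u_not_sq := X_not_sq 0
  v_not_sq := X_not_sq 1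
  v_mul_u := by
    rw [← map_mul, mul_comm, Ideal.Quotient.eq_zero_iff_mem]
    exact Ideal.mem_span_singleton_self _
  ann y hy := by
    obtain ⟨f, rfl⟩ := Ideal.Quotient.mk_surjective y
    rw [← map_mul, Ideal.Quotient.eq_zero_iff_mem] at hy
    obtain ⟨c, rfl⟩ := ann_X_one hy
    exact ⟨Ideal.Quotient.mk _ c, map_mul _ _ _⟩
  psi_fst y := by
    obtain ⟨s, rfl⟩ := Ideal.Quotient.mk_surjective y
    simp [theta]
  v_mul_psi y := by
    obtain ⟨s, rfl⟩ := Ideal.Quotient.mk_surjective y
    rw [Ideal.Quotient.lift_mk]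
    simp only [theta, RingHom.coe_mk, MonoidHom.coe_mk, OneHom.coe_mk, TrivSqZeroExt.snd_add, TrivSqZeroExt.snd_inl,
      TrivSqZeroExt.snd_inr, zero_add]
    rw [← map_mul, ← mul_assoc, mul_comm (MvPowerSeries.X (1 : Fin 2)), Ideal.Quotient.eq_zero_iff_mem]
    exact Ideal.mul_mem_right _ _ (Ideal.mem_span_singleton_self _)
  psi_u := by simp [theta, MvPowerSeries.pderiv_X]
  psi_v := by simp [theta, MvPowerSeries.pderiv_X]
  psi_K c := by
    show (theta (MvPowerSeries.C c)).snd = 0
    simp [theta]

/-- A node over `K` is not a localization of the base change to `K` of a principal ideal domain. -/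
theorem not_isOrdDoublePt {k : Type u} [Field k] [Algebra k K] {R A B : Type u} [CommRing R] [Algebra k R]
    [Algebra.FiniteType k R] [CommRing A] [IsDomain A] [IsPrincipalIdealRing A] [Algebra R A]
    [CommRing B] [IsLocalRing B] [IsNoetherianRing B] [Algebra K B] [Algebra (K ⊗[k] R) B]
    (N : Submonoid (K ⊗[k] R)) [IsLocalization N B] [Algebra R B] [Algebra A B] [IsScalarTower R A B]
    [Module.Flat A B]
    (hK : ∀ c, algebraMap K B c = algebraMap (K ⊗[k] R) B (c ⊗ₜ 1))
    (hR : ∀ r, algebraMap R B r = algebraMap (K ⊗[k] R) B (1 ⊗ₜ r)) :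
    ¬ Curv2.IsOrdDoublePt K B := by
  rintro ⟨e, he⟩
  haveI := isLocalRing_node K
  exact not_completion_equiv (nodeData (K := K)) (A := A) N hK hR e he

end Node

end Groth.Agent.CStk17.NodeDer
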