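import Groth.Agent.CStk17.NodeSch
import Groth.Agent.ArLefLib.Node
import Groth.Agent.MorLib.SmoothLocus
import Groth.Agent.DimFormula.JacobsonLocal
import Groth.Agent.DescLib.Reduced
import Groth.Agent.VarGeom.Normal
import Groth.Agent.S7835

/-!
# Nodes are reduced and at-worst-nodal curves are generically smooth
-/

set_option autoImplicit false
set_option backward.isDefEq.respectTransparency false
set_option backward.isDefEq.respectTransparency.types false

universe u

open CategoryTheory CategoryTheory.Limits AlgebraicGeometry IsLocalRing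

namespace Groth.Agent.CStk17.NodeSch

open SchPt ODP CurvLocusLib

theorem isReduced_node (K : Type u) [Field K] : _root_.IsReduced (MvPowerSeries (Fin 2) K ⧸ nodeIdeal K) := by
  rw [isReduced_iff_pow_one_lt 2 (by norm_num)]
  intro x hx
  obtain ⟨f, rfl⟩ := Ideal.Quotient.mk_surjective x
  rw [← map_pow, Ideal.Quotient.eq_zero_iff_mem, nodeIdeal, Ideal.mem_span_singleton] at hx
  obtain ⟨h, hh⟩ := hx
  have hax : ∀ j : Fin 2, ArLefLib.Node.axisHom j f = 0 := fun j => by
    have e := congrArg (ArLefLib.Node.axisHom j) hh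
    rw [map_pow, map_mul, map_mul] at e
    have h0 : ArLefLib.Node.axisHom (B := K) j (MvPowerSeries.X 0) *
        ArLefLib.Node.axisHom (B := K) j (MvPowerSeries.X 1) = 0 := by
      fin_cases j
      · simp [ArLefLib.Node.axisHom_X_other (B := K) (show (1 : Fin 2) ≠ 0 by decide)]
      · simp [ArLefLib.Node.axisHom_X_other (B := K) (show (0 : Fin 2) ≠ 1 by decide)]
    rw [h0, zero_mul] at e
    exact eq_zero_of_pow_eq_zero e
  have hπ : maximalIdeal K = Ideal.span {(0 : K)} := by
    rw [Ideal.span_singleton_zero, isField_iff_maximalIdeal_eq.1 (Field.toIsField K)]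
  obtain ⟨a, g, hg⟩ := Ideal.mem_span_pair.1
    (ArLefLib.Node.axis_decomp hπ (show (1 : Fin 2) ≠ 0 by decide) f (hax 0))
  rw [map_zero, mul_zero, zero_add] at hg
  have hg1 : ArLefLib.Node.axisHom 1 g = 0 := by
    have e := hax 1
    rw [← hg, map_mul, ArLefLib.Node.axisHom_X_self, mul_eq_zero] at e
    exact e.resolve_right PowerSeries.X_ne_zero
  obtain ⟨b, c, hc⟩ := Ideal.mem_span_pair.1
    (ArLefLib.Node.axis_decomp hπ (show (0 : Fin 2) ≠ 1 by decide) g hg1)
  rw [map_zero, mul_zero, zero_add] at hc
  rw [Ideal.Quotient.eq_zero_iff_mem, nodeIdeal, Ideal.mem_span_singleton, ← hg, ← hc]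
  exact ⟨c, by ring⟩

theorem isReduced_stalk_of_isODPAt {K : Type u} [Field K] {Y : Scheme.{u}} {q : Y ⟶ Spec (CommRingCat.of K)}
    [LocallyOfFiniteType q] {y : Y} (h : IsODPAt q y) : _root_.IsReduced (Y.presheaf.stalk y) := by
  haveI : IsLocallyNoetherian Y := LocallyOfFiniteType.isLocallyNoetherian q
  letI := sAlg q y
  obtain ⟨e, -⟩ := h
  haveI := LC.Canon.faithfullyFlat_completion (R := Y.presheaf.stalk y)
  haveI := isReduced_node K
  exact isReduced_of_injective (e.toRingHom.comp (algebraMap _ _))
    (e.injective.comp (RingHom.FaithfullyFlat.injective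
      (RingHom.faithfullyFlat_algebraMap_iff.2 inferInstance)))

variable {k : Type u} [Field k] {X : Scheme.{u}} (p : X ⟶ Spec (CommRingCat.of k)) [LocallyOfFiniteType p]

/-- Points over a node are reduced on the geometric fibre. -/
theorem isReduced_stalk_of_isNode (xb : ↥(pullback p (closPt k))) (hxb : IsClosed ({xb} : Set ↥(pullback p (closPt k))))
    (hx : IsNodeOf p (pullback.fst p (closPt k) xb)) :
    _root_.IsReduced ((pullback p (closPt k)).presheaf.stalk xb) := by
  have h := isNodeOf_bc p (algebraMap k (AlgebraicClosure k)) (pullback.fst p (closPt k)) (pullback.snd p (closPt k))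
    (IsPullback.of_hasPullback p (closPt k)) hxb hx
  obtain ⟨-, zb, rfl, hodp⟩ := (isNodeOf_iff _ _).1 h
  let π := pullback.fst (pullback.snd p (closPt k)) (closPt (AlgebraicClosure k))
  haveI := isReduced_stalk_of_isODPAt hodp
  exact isReduced_of_injective (π.stalkMap zb).hom (DescLib.faithfullyFlat_stalkMap π zb).injective

/-- At-worst-nodal schemes are geometrically reduced. -/
theorem isReduced_geom (hX : IsAWN p) : IsReduced (pullback p (closPt k)) := by
  let Y := pullback p (closPt k)
  haveI : JacobsonSpace Y := LocallyOfFiniteType.jacobsonSpace (pullback.snd p (closPt k))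
  haveI : IsIntegralHom (pullback.fst p (closPt k)) := MorphismProperty.pullback_fst _ _ isIntegralHom_closPt
  have hclosed : ∀ w : Y, IsClosed ({w} : Set Y) → _root_.IsReduced (Y.presheaf.stalk w) := by
    intro w hw
    have hc : IsClosed ({pullback.fst p (closPt k) w} : Set X) := by
      simpa using (pullback.fst p (closPt k)).isClosedMap _ hw
    rcases hX _ hc with ⟨U, hU, hsm⟩ | hn
    · let W : Y.Opens := pullback.fst p (closPt k) ⁻¹ᵁ U
      haveI : Smooth (W.ι ≫ pullback.snd p (closPt k)) := by
        haveI : Smooth (U.ι ≫ p) := hsm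
        exact MorphismProperty.of_isPullback
          ((isPullback_morphismRestrict (pullback.fst p (closPt k)) U).paste_vert (IsPullback.of_hasPullback p (closPt k)))
          ‹_›
      haveI : IsReduced W := DescLib.isReduced_of_smooth_of_isReduced (W.ι ≫ pullback.snd p (closPt k))
      exact isReduced_of_injective (W.ι.stalkMap ⟨w, hU⟩).hom
        ((ConcreteCategory.isIso_iff_bijective _).1 inferInstance).1
    · exact isReduced_stalk_of_isNode p w hw hn
  haveI : ∀ w : Y, _root_.IsReduced (Y.presheaf.stalk w) := by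
    intro w
    obtain ⟨c, hc, hcl⟩ := nonempty_inter_closedPoints (Z := closure ({w} : Set Y)) ⟨w, subset_closure rfl⟩
      isClosed_closure.isLocallyClosed
    have hwc : w ⤳ c := specializes_iff_mem_closure.2 hc
    haveI := hclosed c hcl
    obtain ⟨M, hM⟩ := VarGeom.exists_isLocalization_stalkSpecializes hwc
    letI := (Y.presheaf.stalkSpecializes hwc).hom.toAlgebra
    haveI := hM
    exact isReduced_localizationPreserves M _ inferInstance
  exact isReduced_of_isReduced_stalk Y

/-- The maximal points of an at-worst-nodal scheme lie in the smooth locus. -/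
theorem smooth_at_maximal [LocallyOfFinitePresentation p] (hX : IsAWN p) {η : X} (hη : ∀ y, y ⤳ η → y = η) :
    η ∈ p.smoothLocus := by
  let Y := pullback p (closPt k)
  haveI := isReduced_geom p hX
  haveI : IsLocallyNoetherian Y := LocallyOfFiniteType.isLocallyNoetherian (pullback.snd p (closPt k))
  obtain ⟨w₀, rfl⟩ := (pullback.fst p (closPt k)).surjective η
  obtain ⟨w, hww₀, hw⟩ := FibDim.exists_maximal_generization w₀
  have he : pullback.fst p (closPt k) w = pullback.fst p (closPt k) w₀ :=
    hη _ (hww₀.map (pullback.fst p (closPt k)).continuous)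
  rw [← he]
  haveI : JacobsonSpace Y := LocallyOfFiniteType.jacobsonSpace (pullback.snd p (closPt k))
  exact MorLib.SmoothLoc.sm_descend p (closPt k) (pullback.snd p (closPt k)) (pullback.fst p (closPt k))
    (IsPullback.of_hasPullback p (closPt k)) w
    (DimFormula.dense_mem_maximal (pullback.snd p (closPt k)).smoothLocus.isOpen
      (Scheme.Hom.dense_smoothLocus_of_perfectField _) hw)

/-- Every point of an at-worst-nodal curve is smooth or is a node. -/
theorem smooth_or_isNodeOf [LocallyOfFinitePresentation p] (hdim : topologicalKrullDim X ≤ 1) (hX : IsAWN p)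
    (x : X) : x ∈ p.smoothLocus ∨ IsNodeOf p x := by
  by_cases hcl : IsClosed ({x} : Set X)
  · rcases hX x hcl with ⟨U, hU, hsm⟩ | hn
    · left
      haveI : Smooth (U.ι ≫ p) := hsm
      have h : (⟨x, hU⟩ : U) ∈ (U.ι ≫ p).smoothLocus := by rw [Scheme.Hom.smoothLocus_eq_top]; trivial
      rwa [← Scheme.Hom.preimage_smoothLocus_eq] at h
    · exact Or.inr hn
  · refine Or.inl (smooth_at_maximal p hX fun y hy => ?_)
    by_contra hne
    exact hcl (S7835.isClosed_singleton_of_specializes hdim hy (Ne.symm hne))

end Groth.Agent.CStk17.NodeSch
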