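import Groth.Agent.CStk17.NodeFacts
import Groth.Prelude.Def_StrictSS

/-!
# The node model `R[u, v]/(uv - a)`
-/

set_option autoImplicit false
set_option backward.isDefEq.respectTransparency false
set_option backward.isDefEq.respectTransparency.types false

universe u

open CategoryTheory CategoryTheory.Limits AlgebraicGeometry IsLocalRing StrictSS

namespace Groth.Agent.CStk17.NodeModel

section Alg

open MvPolynomial

variable (R : Type u) [CommRing R] (a : R)

/-- The coordinate `i` on the node model. -/
noncomputable def coord (i : Fin 2) : NodeAlg R a := Ideal.Quotient.mk _ (X i)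

theorem coord_mul : coord R a 0 * coord R a 1 = algebraMap R (NodeAlg R a) a := by
  rw [coord, coord, ← map_mul]
  exact Ideal.Quotient.eq.2 (Ideal.subset_span rfl)

/-- The presentation of the node model by one equation. -/
noncomputable def pres (j : Fin 2) : Algebra.PreSubmersivePresentation R (NodeAlg R a) (Fin 2) Unit :=
  (Algebra.PreSubmersivePresentation.naive
    (v := fun _ : Unit => (X 0 * X 1 - C a : MvPolynomial (Fin 2) R)) (fun _ => j)
    (fun _ _ _ => rfl)).ofAlgEquiv
    (Ideal.quotientEquivAlgOfEq R (congrArg Ideal.span Set.range_const))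

theorem jacobian_pres (i j : Fin 2) (h : i ≠ j) : (pres R a j).jacobian = coord R a i := by
  rw [pres, Algebra.PreSubmersivePresentation.jacobian_ofAlgEquiv,
    Algebra.PreSubmersivePresentation.jacobian_eq_jacobiMatrix_det, Matrix.det_unique,
    Algebra.PreSubmersivePresentation.jacobiMatrix_naive, Algebra.Generators.algebraMap_apply]
  have : pderiv j (X 0 * X 1 - C a : MvPolynomial (Fin 2) R) = X i := by
    fin_cases i <;> fin_cases j <;> simp_all [pderiv_X, Pi.single_apply]
  rw [this, MvPolynomial.aeval_X]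
  rfl

theorem smooth_away (i : Fin 2) : Algebra.Smooth R (Localization.Away (coord R a i)) := by
  obtain ⟨j, hj⟩ : ∃ j, i ≠ j := ⟨i.rev, by fin_cases i <;> decide⟩
  let P := (Algebra.PreSubmersivePresentation.localizationAway
    (Localization.Away (coord R a i)) (coord R a i)).comp (pres R a j)
  have hP : IsUnit P.jacobian := by
    rw [Algebra.PreSubmersivePresentation.comp_jacobian_eq_jacobian_smul_jacobian, Algebra.smul_def,
      Algebra.PreSubmersivePresentation.localizationAway_jacobian, jacobian_pres R a i j hj]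
    exact (IsLocalization.Away.algebraMap_isUnit _).mul (IsLocalization.Away.algebraMap_isUnit _)
  haveI := Algebra.SubmersivePresentation.isStandardSmooth ⟨P, hP⟩
  infer_instance

instance finitePresentation : Algebra.FinitePresentation R (NodeAlg R a) :=
  Algebra.FinitePresentation.quotient ⟨{(X 0 * X 1 - C a : MvPolynomial (Fin 2) R)}, by simp⟩

instance locallyOfFinitePresentation : LocallyOfFinitePresentation (nodeToBase R a) :=
  (HasRingHomProperty.Spec_iff (P := @LocallyOfFinitePresentation)).2
    (RingHom.finitePresentation_algebraMap.2 (finitePresentation R a))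

theorem mem_smoothLocus (q : PrimeSpectrum (NodeAlg R a)) (i : Fin 2) (hi : coord R a i ∉ q.asIdeal) :
    (q : ↥(Spec (CommRingCat.of (NodeAlg R a)))) ∈ (nodeToBase R a).smoothLocus := by
  have h := Algebra.basicOpen_subset_smoothLocus_iff_smooth.2 (smooth_away R a i) hi
  exact (MorLib.SmoothLoc.sm_Spec_iff q).2 h

variable {L : Type u} [CommRing L] (φ : R →+* L)

/-- The map of node models along a map of the bases. -/
noncomputable def mapHom : NodeAlg R a →+* NodeAlg L (φ a) :=
  Ideal.Quotient.lift _ ((Ideal.Quotient.mk _).comp (MvPolynomial.map φ)) (fun x hx => by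
    obtain ⟨c, rfl⟩ := Ideal.mem_span_singleton'.1 hx
    simp only [RingHom.comp_apply, map_mul, map_sub, MvPolynomial.map_X, MvPolynomial.map_C]
    rw [← map_mul, ← map_sub, Ideal.Quotient.eq_zero_iff_mem.2 (Ideal.mem_span_singleton_self _), mul_zero])

theorem mapHom_coord (i : Fin 2) : mapHom R a φ (coord R a i) = coord L (φ a) i := by
  simp [mapHom, coord]

theorem mapHom_comp : (mapHom R a φ).comp (algebraMap R (NodeAlg R a)) =
    (algebraMap L (NodeAlg L (φ a))).comp φ := by
  ext r
  show mapHom R a φ (Ideal.Quotient.mk _ (C r)) = Ideal.Quotient.mk _ (C (φ r))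
  simp [mapHom]

theorem hom_ext {T : Type u} [CommRing T] {f g : NodeAlg R a →+* T}
    (h0 : f.comp (algebraMap R (NodeAlg R a)) = g.comp (algebraMap R (NodeAlg R a)))
    (h1 : ∀ i, f (coord R a i) = g (coord R a i)) : f = g :=
  Ideal.Quotient.ringHom_ext (MvPolynomial.ringHom_ext (fun r => RingHom.congr_fun h0 r) h1)

theorem isPushout : IsPushout (CommRingCat.ofHom (algebraMap R (NodeAlg R a))) (CommRingCat.ofHom φ)
    (CommRingCat.ofHom (mapHom R a φ)) (CommRingCat.ofHom (algebraMap L (NodeAlg L (φ a)))) := by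
  have w : CommRingCat.ofHom (algebraMap R (NodeAlg R a)) ≫ CommRingCat.ofHom (mapHom R a φ) =
      CommRingCat.ofHom φ ≫ CommRingCat.ofHom (algebraMap L (NodeAlg L (φ a))) :=
    CommRingCat.hom_ext (mapHom_comp R a φ)
  let desc : ∀ s : PushoutCocone (CommRingCat.ofHom (algebraMap R (NodeAlg R a))) (CommRingCat.ofHom φ),
      NodeAlg L (φ a) →+* s.pt := fun s =>
    Ideal.Quotient.lift _ (MvPolynomial.eval₂Hom s.inr.hom (fun i => s.inl.hom (coord R a i))) (fun x hx => by
      obtain ⟨c, rfl⟩ := Ideal.mem_span_singleton'.1 hx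
      simp only [map_mul, map_sub, MvPolynomial.eval₂Hom_X', MvPolynomial.eval₂Hom_C]
      rw [← map_mul, coord_mul]
      have := RingHom.congr_fun (congrArg CommRingCat.Hom.hom s.condition) a
      simp only [CommRingCat.hom_comp, CommRingCat.hom_ofHom, RingHom.comp_apply] at this
      rw [this, sub_self, mul_zero])
  refine IsPushout.of_isColimit' ⟨w⟩ (PushoutCocone.IsColimit.mk w (fun s => CommRingCat.ofHom (desc s))
    (fun s => CommRingCat.hom_ext (hom_ext R a ?_ fun i => ?_))
    (fun s => CommRingCat.hom_ext (RingHom.ext fun l => ?_))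
    (fun s m hl hr => CommRingCat.hom_ext (hom_ext L (φ a) ?_ fun i => ?_)))
  · ext r
    have := RingHom.congr_fun (congrArg CommRingCat.Hom.hom s.condition) r
    simp only [CommRingCat.hom_comp, CommRingCat.hom_ofHom, RingHom.comp_apply] at this ⊢
    refine Eq.trans ?_ this.symm
    refine Eq.trans (congrArg (desc s) (RingHom.congr_fun (mapHom_comp R a φ) r)) ?_
    exact MvPolynomial.eval₂Hom_C _ _ _
  · simp only [CommRingCat.hom_comp, CommRingCat.hom_ofHom, RingHom.comp_apply, mapHom_coord]
    exact MvPolynomial.eval₂Hom_X' _ _ _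
  · exact MvPolynomial.eval₂Hom_C _ _ _
  · ext l
    exact (RingHom.congr_fun (congrArg CommRingCat.Hom.hom hr) l).trans (MvPolynomial.eval₂Hom_C _ _ _).symm
  · refine Eq.trans ?_ (MvPolynomial.eval₂Hom_X' _ _ _).symm
    rw [← hl]
    simp only [CommRingCat.hom_comp, CommRingCat.hom_ofHom, RingHom.comp_apply, mapHom_coord]

theorem isPullback :
    IsPullback (Spec.map (CommRingCat.ofHom (mapHom R a φ))) (nodeToBase L (φ a)) (nodeToBase R a)
      (Spec.map (CommRingCat.ofHom φ)) :=
  isPullback_SpecMap_of_isPushout _ _ _ _ (isPushout R a φ)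

end Alg

section Field

open MvPolynomial SchPt ODP NodeSch CurvLocusLib

variable (K : Type u) [Field K] (a : K)

theorem idealOfVars_eq_ker :
    idealOfVars (Fin 2) K = RingHom.ker (constantCoeff : MvPolynomial (Fin 2) K →+* K) := by
  ext q
  rw [← pow_one (idealOfVars (Fin 2) K), mem_pow_idealOfVars_iff', RingHom.mem_ker, constantCoeff_eq]
  exact ⟨fun h => h 0 (by simp), fun h x hx => by
    rw [Nat.lt_one_iff, Finsupp.degree_eq_zero_iff] at hx
    rw [hx]; exact h⟩

/-- The origin. -/
noncomputable def origin : Ideal (NodeAlg K a) := (idealOfVars (Fin 2) K).map (Ideal.Quotient.mk _)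

variable {K a}

theorem constantCoeff_eqn : constantCoeff (X 0 * X 1 - C (0 : K) : MvPolynomial (Fin 2) K) = 0 := by simp

theorem origin_isMaximal (ha : a = 0) : (origin K a).IsMaximal := by
  subst ha
  haveI : (idealOfVars (Fin 2) K).IsMaximal := by
    rw [idealOfVars_eq_ker]
    exact RingHom.ker_isMaximal_of_surjective _ fun c => ⟨C c, constantCoeff_C _ c⟩
  refine Ideal.IsMaximal.map_of_surjective_of_ker_le Ideal.Quotient.mk_surjective ?_
  rw [Ideal.mk_ker, Ideal.span_singleton_le_iff_mem, idealOfVars_eq_ker, RingHom.mem_ker]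
  exact constantCoeff_eqn

theorem coord_mem_origin (i : Fin 2) : coord K a i ∈ origin K a :=
  Ideal.mem_map_of_mem _ (Ideal.subset_span ⟨i, rfl⟩)

/-- A prime containing both coordinates is the origin. -/
theorem eq_origin (q : Ideal (NodeAlg K a)) (hq : q ≠ ⊤) (h : ∀ i, coord K a i ∈ q) : a = 0 ∧ q = origin K a := by
  have ha : a = 0 := by
    by_contra h0
    refine hq (Ideal.eq_top_of_isUnit_mem _ (q.mul_mem_right (coord K a 1) (h 0)) ?_)
    rw [coord_mul]
    exact (isUnit_iff_ne_zero.2 h0).map _
  refine ⟨ha, ((origin_isMaximal ha).eq_of_le hq ?_).symm⟩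
  rw [origin, idealOfVars, Ideal.map_span, Ideal.span_le]
  rintro _ ⟨_, ⟨i, rfl⟩, rfl⟩
  exact h i

theorem sMap_Spec {A : Type u} [CommRing A] [Algebra K A] (x : ↥(Spec (CommRingCat.of A))) :
    sMap (Spec.map (CommRingCat.ofHom (algebraMap K A))) x =
      (StructureSheaf.toStalk A x).hom.comp (algebraMap K A) := by
  refine congrArg CommRingCat.Hom.hom (Spec.map_injective ?_ (R := CommRingCat.of K))
  refine (fromSpecStalk_comp (Spec.map (CommRingCat.ofHom (algebraMap K A))) x).symm.trans ?_
  rw [Spec.fromSpecStalk_eq', ← Spec.map_comp]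
  rfl

/-- The origin is an ordinary double point. -/
theorem isODPAt_origin (ha : a = 0) (x : ↥(Spec (CommRingCat.of (NodeAlg K a))))
    (hx : PrimeSpectrum.asIdeal x = origin K a) : IsODPAt (nodeToBase K a) x := by
  subst ha
  haveI : IsLocallyNoetherian (Spec (CommRingCat.of (NodeAlg K (0 : K)))) :=
    LocallyOfFiniteType.isLocallyNoetherian (nodeToBase K (0 : K))
  let St := (Spec (CommRingCat.of (NodeAlg K (0 : K)))).presheaf.stalk x
  letI : Algebra (NodeAlg K (0 : K)) St := StructureSheaf.stalkAlgebra (NodeAlg K (0 : K)) x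
  haveI : IsLocalization.AtPrime St (PrimeSpectrum.asIdeal x) :=
    StructureSheaf.IsLocalization.to_stalk (NodeAlg K (0 : K)) x
  obtain ⟨e, he⟩ := Cpl.exists_cpl_equiv_origin (X 0 * X 1 - C (0 : K)) constantCoeff_eqn
    (PrimeSpectrum.asIdeal x) hx St
  have hI : Cpl.psEq (X 0 * X 1 - C (0 : K) : MvPolynomial (Fin 2) K) = nodeIdeal K := by
    simp [Cpl.psEq, MvPolynomial.coe_mul, MvPolynomial.coe_X]
  letI := sAlg (nodeToBase K (0 : K)) x
  refine ⟨e.trans (Ideal.quotEquivOfEq hI), fun c => ?_⟩
  have hc : algebraMap K St c = algebraMap (NodeAlg K (0 : K)) St (Ideal.Quotient.mk _ (C c)) :=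
    RingHom.congr_fun (sMap_Spec x) c
  rw [RingEquiv.trans_apply]
  refine (congrArg _ (congrArg (fun t => e (algebraMap St _ t)) hc)).trans ?_
  rw [he, Ideal.quotEquivOfEq_mk, MvPolynomial.coe_C]

/-- The node model over a field has at worst nodes. -/
theorem isAWN_nodeToBase : IsAWN (nodeToBase K a) := by
  intro z hz
  by_cases h : ∀ i, coord K a i ∈ PrimeSpectrum.asIdeal z
  · right
    show IsNodeOf (nodeToBase K a) z
    obtain ⟨ha, hz0⟩ := eq_origin _ (PrimeSpectrum.isPrime z).ne_top h
    rw [isNodeOf_iff]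
    refine ⟨hz, ?_⟩
    let φ := algebraMap K (AlgebraicClosure K)
    have hφ : φ a = 0 := by rw [ha, map_zero]
    have hm := origin_isMaximal hφ
    let o : ↥(Spec (CommRingCat.of (NodeAlg (AlgebraicClosure K) (φ a)))) := ⟨_, hm.isPrime⟩
    have hcl : IsClosed ({o} : Set _) := (PrimeSpectrum.isClosed_singleton_iff_isMaximal _).2 hm
    have hp := isPullback K a φ
    let e := hp.isoPullback
    refine ⟨e.hom o, ?_, ?_⟩
    · have h1 : e.hom ≫ pullback.fst (nodeToBase K a) (closPt K) =
          Spec.map (CommRingCat.ofHom (mapHom K a φ)) := hp.isoPullback_hom_fst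
      refine (Scheme.Hom.comp_apply _ _ o).symm.trans ((congrArg (fun (t : Spec (CommRingCat.of (NodeAlg (AlgebraicClosure K) (φ a))) ⟶ _) => t o) h1).trans ?_)
      refine PrimeSpectrum.ext ?_
      rw [hz0]
      refine (eq_origin _ ?_ fun i => ?_).2
      · exact (hm.isPrime.comap (mapHom K a φ)).ne_top
      · show mapHom K a φ (coord K a i) ∈ origin _ _
        rw [mapHom_coord]
        exact coord_mem_origin i
    · haveI : LocallyOfFiniteType (pullback.snd (nodeToBase K a) (closPt K)) := inferInstance
      refine (isODPAt_etale_iff (pullback.snd (nodeToBase K a) (closPt K)) e.hom hcl).2 ?_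
      have h2 : e.hom ≫ pullback.snd (nodeToBase K a) (closPt K) = nodeToBase _ (φ a) :=
        hp.isoPullback_hom_snd
      rw [h2]
      exact isODPAt_origin hφ o rfl
  · push Not at h
    obtain ⟨i, hi⟩ := h
    refine Or.inl ⟨(nodeToBase K a).smoothLocus, mem_smoothLocus K a z i hi, ?_⟩
    show Smooth ((nodeToBase K a).smoothLocus.ι ≫ nodeToBase K a)
    rw [← Scheme.Hom.smoothLocus_eq_top_iff, ← Scheme.Hom.preimage_smoothLocus_eq]
    exact Scheme.Opens.ι_preimage_self _

end Field

end Groth.Agent.CStk17.NodeModel
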