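import Groth.Agent.CStk17.FamLocus
import Groth.Agent.S1341
import Groth.Agent.S1342
import Groth.Agent.S2155
import Groth.Agent.S9766
import Groth.Agent.S9767
import Groth.Agent.S0342
import Groth.Agent.S0341
import Groth.Agent.S7408
import Groth.Agent.FibDim.RelDim
import Groth.Agent.Synt29.SmoothDim
import Groth.Agent.Ega43Prop.CMConst
import Groth.Agent.GrpSchLib.SmoothRegular
import Groth.Agent.AlgSpLib.EtLocalInst

/-!
# Pointwise conditions: smooth, smooth of relative dimension one, Cohen–Macaulay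
-/

set_option autoImplicit false
set_option linter.style.haveILetI false
set_option backward.isDefEq.respectTransparency false
set_option backward.isDefEq.respectTransparency.types false

universe u

open CategoryTheory CategoryTheory.Limits AlgebraicGeometry

namespace Groth.Agent.CStk17.PtConds

open FamLocus

/-! ### Smoothness -/

/-- Smoothness at a point. -/
def SmoothAt {X Y : Scheme.{u}} (g : X ⟶ Y) (x : X) : Prop := (g.stalkMap x).hom.FormallySmooth

theorem smoothAt_precomp {X Y Z : Scheme.{u}} (e : X ⟶ Y) [Etale e] (g : Y ⟶ Z)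
    [LocallyOfFinitePresentation g] (x : X) : SmoothAt (e ≫ g) x ↔ SmoothAt g (e x) := by
  constructor
  · intro h
    let W : X.Opens := (e ≫ g).smoothLocus
    haveI : Smooth (W.ι ≫ e ≫ g) := by
      rw [← Scheme.Hom.smoothLocus_eq_top_iff, ← Scheme.Hom.preimage_smoothLocus_eq]
      exact Scheme.Opens.ι_preimage_self _
    let V : Y.Opens := ⟨e '' W, e.isOpenMap _ W.isOpen⟩
    have hr : Set.range (W.ι ≫ e) ⊆ Set.range V.ι := by
      rw [Scheme.Opens.range_ι]
      rintro _ ⟨w, rfl⟩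
      exact ⟨w.1, w.2, rfl⟩
    let l := IsOpenImmersion.lift V.ι (W.ι ≫ e) hr
    have hl : l ≫ V.ι = W.ι ≫ e := IsOpenImmersion.lift_fac _ _ _
    haveI : Etale l := by
      haveI : Etale (l ≫ V.ι) := hl ▸ (inferInstance : Etale (W.ι ≫ e))
      exact Etale.of_comp l V.ι
    haveI : Surjective l := ⟨fun v => by
      obtain ⟨w, hw, hwv⟩ := v.2
      exact ⟨⟨w, hw⟩, Subtype.ext ((congrArg (fun φ : (W : Scheme.{u}) ⟶ Y => φ ⟨w, hw⟩) hl).trans hwv)⟩⟩
    have hs : Smooth (V.ι ≫ g) := Groth.Agent.SrcDescent.smooth_of_etale_comp l (V.ι ≫ g) (by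
      rw [← Category.assoc, hl, Category.assoc]; infer_instance)
    have hmem : (⟨e x, x, h, rfl⟩ : V) ∈ (V.ι ≫ g).smoothLocus := by
      rw [Scheme.Hom.smoothLocus_eq_top]; trivial
    rw [← Scheme.Hom.preimage_smoothLocus_eq] at hmem
    exact hmem
  · intro h
    haveI : Smooth ((e ⁻¹ᵁ g.smoothLocus).ι ≫ e ≫ g) := by
      haveI : Smooth (g.smoothLocus.ι ≫ g) := by
        rw [← Scheme.Hom.smoothLocus_eq_top_iff, ← Scheme.Hom.preimage_smoothLocus_eq]
        exact Scheme.Opens.ι_preimage_self _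
      rw [← morphismRestrict_ι_assoc]
      infer_instance
    have hmem : (⟨x, h⟩ : (e ⁻¹ᵁ g.smoothLocus : X.Opens)) ∈ ((e ⁻¹ᵁ g.smoothLocus).ι ≫ e ≫ g).smoothLocus := by
      exact (Scheme.Hom.smoothLocus_eq_top ((e ⁻¹ᵁ g.smoothLocus).ι ≫ e ≫ g)).ge (Set.mem_univ _)
    rw [← Scheme.Hom.preimage_smoothLocus_eq] at hmem
    exact hmem

theorem isPtCond_smooth : IsPtCond.{u} (fun g x => SmoothAt g x) where
  isOpen g _ _ := g.isOpen_smoothLocus
  baseChange g _ _ φ g' fst h x' := by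
    haveI : LocallyOfFinitePresentation g' := MorphismProperty.of_isPullback h ‹_›
    exact SetLike.ext_iff.1 (S2155.result g φ g' fst h (Or.inl ‹_›)) x'
  precomp e _ g _ _ x := smoothAt_precomp e g x

theorem smooth_iff {X Y : Scheme.{u}} (g : X ⟶ Y) [LocallyOfFinitePresentation g] :
    Smooth g ↔ ∀ x, SmoothAt g x := by
  rw [← Scheme.Hom.smoothLocus_eq_top_iff]
  exact ⟨fun h x => h.ge (Set.mem_univ x), fun h => top_unique fun x _ => h x⟩

theorem exists_smoothChart {X Y : Scheme.{u}} (g : X ⟶ Y) [LocallyOfFinitePresentation g] {x : X}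
    (hx : SmoothAt g x) : ∃ (V : X.Opens) (n : ℕ), x ∈ V ∧
      ∀ z ∈ V, SmoothAt g z ∧ FlatMor.fibreDimAt g z = (n : WithBot ℕ∞) := by
  let W : X.Opens := g.smoothLocus
  haveI : Smooth (W.ι ≫ g) := by
    rw [← Scheme.Hom.smoothLocus_eq_top_iff, ← Scheme.Hom.preimage_smoothLocus_eq]
    exact Scheme.Opens.ι_preimage_self _
  obtain ⟨-, -, V, -, -, n, hxV, -, hV, -⟩ := Synt29.SmoothDim.exists_chart (W.ι ≫ g) ⟨x, hx⟩
  refine ⟨W.ι ''ᵁ V, n, ⟨⟨x, hx⟩, hxV, rfl⟩, ?_⟩
  rintro _ ⟨z, hz, rfl⟩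
  refine ⟨z.2, ?_⟩
  exact (S7408.result g (W.ι ≫ g) W.ι (𝟙 Y) (Category.comp_id _) z).trans
    (Synt29.SmoothDim.fibreDimAt_eq_of_nhd (W.ι ≫ g) V n hz)

theorem smooth_one_iff {X Y : Scheme.{u}} (g : X ⟶ Y) [LocallyOfFinitePresentation g] :
    SmoothOfRelativeDimension 1 g ↔
      ∀ x, SmoothAt g x ∧ FlatMor.fibreDimAt g x = ((1 : ℕ) : WithBot ℕ∞) := by
  constructor
  · intro h x
    haveI := SmoothOfRelativeDimension.smooth (n := 1) (f := g)
    exact ⟨(smooth_iff g).1 ‹_› x, S2768.result 1 g x⟩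
  · intro h
    haveI : Smooth g := (smooth_iff g).2 fun x => (h x).1
    refine ⟨fun x => ?_⟩
    obtain ⟨U, hU, V, hV, e, n, hxV, hstd, -, hn⟩ := Synt29.SmoothDim.exists_chart g x
    have : n = 1 := by
      have := hn.symm.trans (h x).2
      exact_mod_cast this
    subst this
    exact ⟨U, hU, V, hV, hxV, e, hstd⟩

theorem isPtCond_smooth_one :
    IsPtCond.{u} (fun g x => SmoothAt g x ∧ FlatMor.fibreDimAt g x = ((1 : ℕ) : WithBot ℕ∞)) where
  isOpen g _ _ := isOpen_iff_forall_mem_open.2 fun x ⟨hx, hd⟩ => by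
    obtain ⟨V, n, hxV, hV⟩ := exists_smoothChart g hx
    exact ⟨V, fun z hz => ⟨(hV z hz).1, ((hV z hz).2.trans (hV x hxV).2.symm).trans hd⟩, V.isOpen, hxV⟩
  baseChange g _ _ φ g' fst h x' := by
    haveI : LocallyOfFinitePresentation g' := MorphismProperty.of_isPullback h ‹_›
    exact and_congr (isPtCond_smooth.baseChange g φ g' fst h x') (by rw [FibDim.fibreDimAt_baseChange h x'])
  precomp e _ g _ _ x := and_congr (smoothAt_precomp e g x)
    (by rw [← S7408.result g (e ≫ g) e (𝟙 _) (Category.comp_id _) x])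

/-! ### Cohen–Macaulay -/

theorem isCMAt_of_smooth {X Y : Scheme.{u}} (f : X ⟶ Y) [Smooth f] (x : X) : MoreMor.IsCMAt f x := by
  refine ⟨Flat.stalkMap f x, ?_⟩
  haveI : Smooth (f.fiberToSpecResidueField (f x)) := MorphismProperty.pullback_snd _ _ ‹Smooth f›
  haveI := GrpSchLib.isRegularLocalRing_stalk_of_smooth (f.fiberToSpecResidueField (f x)) (f.asFiber x)
  haveI := S0342.result ((f.fiber (f x)).presheaf.stalk (f.asFiber x))
  exact S0341.result _

theorem isPtCond_cm : IsPtCond.{u} (fun g x => MoreMor.IsCMAt g x) where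
  isOpen g _ _ := (S1341.result g).1
  baseChange g _ _ φ g' fst h x' := Set.ext_iff.1 (S1342.result g g' fst φ h) x'
  precomp {X Y Z} e he g hf hl x := by
    have hN : ∀ {A B : Scheme.{u}} (f : A ⟶ B) [LocallyOfFiniteType f] (b : B), IsLocallyNoetherian (f.fiber b) :=
      fun {A B} f _ b => LocallyOfFiniteType.isLocallyNoetherian (f.fiberToSpecResidueField b)
    refine ⟨fun h => (S9767.result e g x (hN e _) (hN g _) h (Flat.stalkMap e x)).2,
      fun h => S9766.result e g x (hN (e ≫ g) _) (isCMAt_of_smooth e x) h⟩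

theorem isPtCond_cm_one :
    IsPtCond.{u} (fun g x => MoreMor.IsCMAt g x ∧ FlatMor.fibreDimAt g x = ((1 : ℕ) : WithBot ℕ∞)) where
  isOpen g _ _ := isOpen_iff_forall_mem_open.2 fun x ⟨hx, hd⟩ => by
    obtain ⟨n, W, hxW, hW⟩ := Ega43Prop.exists_nhd_fibreDimAt g x hx
    exact ⟨(W : Set _) ∩ {z | MoreMor.IsCMAt g z},
      fun z hz => ⟨hz.2, ((hW z hz.1).2.trans (hW x hxW).2.symm).trans hd⟩,
      W.isOpen.inter (S1341.result g).1, hxW, hx⟩
  baseChange g _ _ φ g' fst h x' := by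
    haveI : LocallyOfFinitePresentation g' := MorphismProperty.of_isPullback h ‹_›
    exact and_congr (isPtCond_cm.baseChange g φ g' fst h x') (by rw [FibDim.fibreDimAt_baseChange h x'])
  precomp e _ g _ _ x := and_congr (isPtCond_cm.precomp e g x)
    (by rw [← S7408.result g (e ≫ g) e (𝟙 _) (Category.comp_id _) x])

end Groth.Agent.CStk17.PtConds
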