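import Groth.Agent.CStk17.ODPSch
import Groth.Agent.CurvLocusLib.GeomFib
import Groth.Prelude.Def_Curv2

/-!
# Nodes and at-worst-nodal schemes under étale maps and extensions of the base field
-/

set_option autoImplicit false
set_option backward.isDefEq.respectTransparency false
set_option backward.isDefEq.respectTransparency.types false

universe u

open CategoryTheory CategoryTheory.Limits AlgebraicGeometry IsLocalRing

namespace Groth.Agent.CStk17.NodeSch

open SchPt ODP CurvLocusLib

variable {k : Type u} [Field k] {X : Scheme.{u}} (p : X ⟶ Spec (CommRingCat.of k))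

/-- `Curv2.IsNode` with explicit structure morphism. -/
def IsNodeOf (x : X) : Prop := @Curv2.IsNode k _ X ⟨p⟩ x

/-- `Curv2.AtWorstNodal` with explicit structure morphism. -/
def IsAWN : Prop := @Curv2.AtWorstNodal k _ X ⟨p⟩

theorem isNodeOf_iff (x : X) :
    IsNodeOf p x ↔ IsClosed ({x} : Set X) ∧ ∃ xb : ↥(pullback p (closPt k)),
      pullback.fst p (closPt k) xb = x ∧ IsODPAt (pullback.snd p (closPt k)) xb :=
  Iff.rfl

theorem isIntegralHom_closPt : IsIntegralHom (closPt k) :=
  IsIntegralHom.SpecMap_iff.2 (algebraMap_isIntegral_iff.2 inferInstance)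

/-- Geometric points over closed points are closed. -/
theorem isClosed_of_fst [LocallyOfFiniteType p] (xb : ↥(pullback p (closPt k)))
    (hx : IsClosed ({pullback.fst p (closPt k) xb} : Set X)) : IsClosed ({xb} : Set ↥(pullback p (closPt k))) := by
  haveI : IsIntegralHom (pullback.fst p (closPt k)) :=
    MorphismProperty.pullback_fst _ _ isIntegralHom_closPt
  haveI : JacobsonSpace ↥(pullback p (closPt k)) :=
    LocallyOfFiniteType.jacobsonSpace (pullback.snd p (closPt k))
  haveI : JacobsonSpace X := LocallyOfFiniteType.jacobsonSpace p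
  haveI : IsClosedImmersion (X.fromSpecResidueField (pullback.fst p (closPt k) xb)) :=
    isClosed_singleton_iff_isClosedImmersion.mp hx
  let ι := X.fromSpecResidueField (pullback.fst p (closPt k) xb)
  haveI : IsFinite (ι ≫ p) := isFinite_iff_locallyOfFiniteType_of_jacobsonSpace.mpr inferInstance
  let pr := pullback.fst (pullback.fst p (closPt k)) ι
  have hpb := (IsPullback.of_hasPullback (pullback.fst p (closPt k)) ι).flip.paste_vert
    (IsPullback.of_hasPullback p (closPt k))
  haveI : IsFinite (pr ≫ pullback.snd p (closPt k)) := by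
    first
    | exact MorphismProperty.of_isPullback hpb.flip ‹IsFinite (ι ≫ p)›
    | exact MorphismProperty.of_isPullback hpb ‹IsFinite (ι ≫ p)›
  haveI : Finite ↥(pullback (pullback.fst p (closPt k)) ι) := by
    refine Set.finite_univ_iff.mp ?_
    have := (pr ≫ pullback.snd p (closPt k)).finite_preimage_singleton (closedPoint (AlgebraicClosure k))
    refine this.subset fun z _ => Subsingleton.elim (α := PrimeSpectrum (AlgebraicClosure k)) _ _
  haveI : JacobsonSpace ↥(pullback (pullback.fst p (closPt k)) ι) :=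
    LocallyOfFiniteType.jacobsonSpace (pr ≫ pullback.snd p (closPt k))
  obtain ⟨w, hw⟩ : xb ∈ Set.range pr := by
    rw [Scheme.Pullback.range_fst, Set.mem_preimage, Scheme.range_fromSpecResidueField]
    rfl
  haveI : IsClosedImmersion pr := inferInstance
  have := pr.isClosedEmbedding.isClosedMap _ (isClosed_discrete {w})
  rwa [Set.image_singleton, hw] at this

/-- A closed point carries a geometric point. -/
theorem exists_geomPt [LocallyOfFiniteType p] {x : X} (hx : IsClosed ({x} : Set X)) :
    ∃ τ : Spec (CommRingCat.of (AlgebraicClosure k)) ⟶ X,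
      τ ≫ p = closPt k ∧ τ (closedPoint (AlgebraicClosure k)) = x := by
  haveI : Surjective (pullback.fst p (closPt k)) := inferInstance
  obtain ⟨xb, rfl⟩ := (pullback.fst p (closPt k)).surjective x
  refine ⟨pointOfClosedPoint (pullback.snd p (closPt k)) xb (isClosed_of_fst p xb hx) ≫ pullback.fst p (closPt k),
    ?_, by rw [Scheme.Hom.comp_apply, pointOfClosedPoint_apply]⟩
  rw [Category.assoc, pullback.condition, ← Category.assoc, pointOfClosedPoint_comp, Category.id_comp]

/-- Two embeddings of a field, the first one algebraic, differ by a map of the targets. -/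
theorem exists_lift_field {κ E L : Type u} [Field κ] [Field E] [Field L] [IsAlgClosed L] (a : κ →+* E)
    (ha : ∀ x : E, letI := a.toAlgebra; IsAlgebraic κ x) (b : κ →+* L) : ∃ j : E →+* L, j.comp a = b := by
  letI := a.toAlgebra
  letI := b.toAlgebra
  haveI : Algebra.IsAlgebraic κ E := ⟨ha⟩
  let j : E →ₐ[κ] L := IsAlgClosed.lift
  exact ⟨(j : E →+* L), RingHom.ext fun x => j.commutes x⟩

/-- Geometric points over the same point are comparable by a map of fields. -/
theorem exists_fieldHom {K : Type u} [Field K] (h : k →+* K)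
    (ρ : Spec (CommRingCat.of (AlgebraicClosure k)) ⟶ X) (hρ : ρ ≫ p = closPt k)
    (τ : Spec (CommRingCat.of (AlgebraicClosure K)) ⟶ X) (hτ : τ ≫ p = closPt K ≫ Spec.map (CommRingCat.ofHom h))
    (heq : τ (closedPoint (AlgebraicClosure K)) = ρ (closedPoint (AlgebraicClosure k))) :
    ∃ j : AlgebraicClosure k →+* AlgebraicClosure K,
      Spec.map (CommRingCat.ofHom j) ≫ ρ = τ ∧
      j.comp (algebraMap k (AlgebraicClosure k)) = (algebraMap K (AlgebraicClosure K)).comp h := by
  obtain ⟨a, ha, haρ⟩ := exists_hom ρ _ rfl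
  obtain ⟨b, hb, hbτ⟩ := exists_hom τ _ heq
  let A := X.presheaf.stalk (ρ (closedPoint (AlgebraicClosure k)))
  haveI := ha
  haveI := hb
  let a' : ResidueField A →+* AlgebraicClosure k := ResidueField.lift a
  let b' : ResidueField A →+* AlgebraicClosure K := ResidueField.lift b
  have has : a.comp (sMap p _) = algebraMap k (AlgebraicClosure k) :=
    comp_sMap p a _ (by rw [← Category.assoc, haρ, hρ]; rfl)
  letI : Algebra k (ResidueField A) := ((residue A).comp (sMap p _)).toAlgebra
  letI : Algebra (ResidueField A) (AlgebraicClosure k) := a'.toAlgebra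
  haveI : IsScalarTower k (ResidueField A) (AlgebraicClosure k) := IsScalarTower.of_algebraMap_eq' has.symm
  haveI hal : Algebra.IsAlgebraic (ResidueField A) (AlgebraicClosure k) :=
    Algebra.IsAlgebraic.tower_top (K := k) _
  obtain ⟨j, hj'⟩ := exists_lift_field a' hal.isAlgebraic b'
  have hj : j.comp a = b := RingHom.ext fun x => RingHom.congr_fun hj' (residue A x)
  have hjρ : Spec.map (CommRingCat.ofHom j) ≫ ρ = τ := by
    refine (congrArg (Spec.map (CommRingCat.ofHom j) ≫ ·) haρ.symm).trans ?_
    rw [← Category.assoc, ← Spec.map_comp, ← CommRingCat.ofHom_comp, hj, hbτ]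
  refine ⟨j, hjρ, ?_⟩
  have h1 : Spec.map (CommRingCat.ofHom j) ≫ closPt k =
      closPt K ≫ Spec.map (CommRingCat.ofHom h) := by
    rw [← hρ, ← Category.assoc, hjρ, hτ]
  rw [closPt, closPt, ← Spec.map_comp, ← Spec.map_comp, ← CommRingCat.ofHom_comp, ← CommRingCat.ofHom_comp] at h1
  exact congrArg CommRingCat.Hom.hom (Spec.map_injective h1)

/-- A closed point lying over a node in a scheme étale over a base change is a node. -/
theorem isNodeOf_of_etale_bc [LocallyOfFiniteType p] {K : Type u} [Field K] (h : k →+* K) {Z : Scheme.{u}}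
    (g : Z ⟶ X) (r : Z ⟶ Spec (CommRingCat.of K)) [LocallyOfFiniteType r]
    (w : g ≫ p = r ≫ Spec.map (CommRingCat.ofHom h)) [Etale (pullback.lift g r w)] {z : Z}
    (hz : IsClosed ({z} : Set Z)) (hx : IsNodeOf p (g z)) : IsNodeOf r z := by
  obtain ⟨hxc, xb, hxb, hodp⟩ := (isNodeOf_iff p _).1 hx
  have hxbc : IsClosed ({xb} : Set ↥(pullback p (closPt k))) := isClosed_of_fst p xb (hxb ▸ hxc)
  obtain ⟨τ, hτ, hτz⟩ := exists_geomPt r hz
  let ρ : Spec (CommRingCat.of (AlgebraicClosure k)) ⟶ X :=
    pointOfClosedPoint (pullback.snd p (closPt k)) xb hxbc ≫ pullback.fst p (closPt k)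
  have hρ : ρ ≫ p = closPt k := by
    rw [Category.assoc, pullback.condition, ← Category.assoc, pointOfClosedPoint_comp, Category.id_comp]
  obtain ⟨j, hjρ, hjk⟩ := exists_fieldHom p h ρ hρ (τ ≫ g)
    (by rw [Category.assoc, w, ← Category.assoc, hτ])
    (by rw [Scheme.Hom.comp_apply, hτz, Scheme.Hom.comp_apply, pointOfClosedPoint_apply, hxb])
  let τb : Spec (CommRingCat.of (AlgebraicClosure K)) ⟶ pullback r (closPt K) :=
    pullback.lift τ (𝟙 _) (by rw [hτ, Category.id_comp])
  let zb : ↥(pullback r (closPt K)) := τb (closedPoint (AlgebraicClosure K))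
  have hzb : pullback.fst r (closPt K) zb = z := by
    rw [← hτz, ← Scheme.Hom.comp_apply, pullback.lift_fst]
  have hzbc : IsClosed ({zb} : Set ↥(pullback r (closPt K))) :=
    isClosed_of_rational (pullback.snd r (closPt K)) τb (pullback.lift_snd _ _ _)
  -- the intermediate base change
  have hjs : Spec.map (CommRingCat.ofHom j) ≫ closPt k = closPt K ≫ Spec.map (CommRingCat.ofHom h) := by
    rw [closPt, closPt, ← Spec.map_comp, ← Spec.map_comp, ← CommRingCat.ofHom_comp, ← CommRingCat.ofHom_comp, hjk]
  let W := pullback p (closPt K ≫ Spec.map (CommRingCat.ofHom h))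
  let φ₁ : pullback r (closPt K) ⟶ W := pullback.lift (pullback.fst r (closPt K) ≫ g) (pullback.snd r (closPt K))
    (by rw [Category.assoc, w, pullback.condition_assoc])
  let φ₂ : W ⟶ pullback p (closPt k) := pullback.lift (pullback.fst _ _) (pullback.snd _ _ ≫ Spec.map (CommRingCat.ofHom j))
    (by rw [Category.assoc, hjs, pullback.condition])
  have sq₂ : IsPullback φ₂ (pullback.snd p (closPt K ≫ Spec.map (CommRingCat.ofHom h)))
      (pullback.snd p (closPt k)) (Spec.map (CommRingCat.ofHom j)) := by
    refine IsPullback.of_right ?_ (pullback.lift_snd _ _ _) (IsPullback.of_hasPullback p (closPt k))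
    rw [pullback.lift_fst, hjs]
    exact IsPullback.of_hasPullback _ _
  let ψ : W ⟶ pullback p (Spec.map (CommRingCat.ofHom h)) :=
    pullback.lift (pullback.fst _ _) (pullback.snd _ _ ≫ closPt K) (by rw [Category.assoc, pullback.condition])
  have sqψ : IsPullback ψ (pullback.snd p (closPt K ≫ Spec.map (CommRingCat.ofHom h)))
      (pullback.snd p (Spec.map (CommRingCat.ofHom h))) (closPt K) := by
    refine IsPullback.of_right ?_ (pullback.lift_snd _ _ _) (IsPullback.of_hasPullback p _)
    rw [pullback.lift_fst]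
    exact IsPullback.of_hasPullback _ _
  have sq₁ : IsPullback (pullback.fst r (closPt K)) φ₁ (pullback.lift g r w) ψ := by
    refine IsPullback.of_bot ?_ ?_ sqψ
    · rw [pullback.lift_snd, pullback.lift_snd]
      exact IsPullback.of_hasPullback _ _
    · apply pullback.hom_ext <;> simp [φ₁, ψ, pullback.condition]
  haveI : Etale φ₁ := MorphismProperty.of_isPullback sq₁ ‹Etale (pullback.lift g r w)›
  have hφ : φ₂ (φ₁ zb) = xb := by
    have e : τb ≫ φ₁ ≫ φ₂ = Spec.map (CommRingCat.ofHom j) ≫ pointOfClosedPoint (pullback.snd p (closPt k)) xb hxbc := by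
      apply pullback.hom_ext
      · simp only [φ₁, φ₂, τb, Category.assoc, pullback.lift_fst, pullback.lift_fst_assoc]
        exact hjρ.symm
      · simp only [φ₁, φ₂, τb, Category.assoc, pullback.lift_snd, pullback.lift_snd_assoc,
          pointOfClosedPoint_comp, Category.comp_id, Category.id_comp]
    have h1 := congrArg (fun f : Spec (CommRingCat.of (AlgebraicClosure K)) ⟶ _ => f (closedPoint (AlgebraicClosure K))) e
    simp only [Scheme.Hom.comp_apply, pointOfClosedPoint_apply] at h1
    exact h1
  have hw : IsClosed ({φ₁ zb} : Set W) := by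
    haveI : φ₁ ≫ pullback.snd p (closPt K ≫ Spec.map (CommRingCat.ofHom h)) = pullback.snd r (closPt K) :=
      pullback.lift_snd _ _ _
    exact isClosed_image (pullback.snd p (closPt K ≫ Spec.map (CommRingCat.ofHom h))) φ₁ hzbc
  have hW := isODPAt_of_isPullback _ j sq₂ hw (by rw [hφ]; exact hxbc) (by rw [hφ]; exact hodp)
  refine (isNodeOf_iff r z).2 ⟨hz, zb, hzb, ?_⟩
  have := (isODPAt_etale_iff _ φ₁ hzbc).1 hW
  rwa [show φ₁ ≫ pullback.snd p (closPt K ≫ Spec.map (CommRingCat.ofHom h)) = pullback.snd r (closPt K) from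
    pullback.lift_snd _ _ _] at this

/-- Nodes are preserved by étale maps over the field. -/
theorem isNodeOf_etale [LocallyOfFiniteType p] {Z : Scheme.{u}} (g : Z ⟶ X) [Etale g] {z : Z}
    (hz : IsClosed ({z} : Set Z)) (hx : IsNodeOf p (g z)) : IsNodeOf (g ≫ p) z := by
  have w : g ≫ p = (g ≫ p) ≫ Spec.map (CommRingCat.ofHom (RingHom.id k)) := by
    rw [CommRingCat.ofHom_id, Spec.map_id, Category.comp_id]
  haveI : IsIso (Spec.map (CommRingCat.ofHom (RingHom.id k))) := by
    rw [CommRingCat.ofHom_id, Spec.map_id]; infer_instance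
  haveI : IsIso (pullback.fst p (Spec.map (CommRingCat.ofHom (RingHom.id k)))) := inferInstance
  haveI : Etale (pullback.lift g (g ≫ p) w) := by
    rw [show pullback.lift g (g ≫ p) w = g ≫ inv (pullback.fst p (Spec.map (CommRingCat.ofHom (RingHom.id k)))) by
      rw [IsIso.eq_comp_inv, pullback.lift_fst]]
    infer_instance
  exact isNodeOf_of_etale_bc p (RingHom.id k) g (g ≫ p) w hz hx

/-- Nodes are preserved by extension of the field. -/
theorem isNodeOf_bc [LocallyOfFiniteType p] {K : Type u} [Field K] (h : k →+* K) {Z : Scheme.{u}}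
    (g : Z ⟶ X) (r : Z ⟶ Spec (CommRingCat.of K))
    (sq : IsPullback g r p (Spec.map (CommRingCat.ofHom h))) {z : Z}
    (hz : IsClosed ({z} : Set Z)) (hx : IsNodeOf p (g z)) : IsNodeOf r z := by
  haveI : LocallyOfFiniteType r := MorphismProperty.of_isPullback sq ‹LocallyOfFiniteType p›
  haveI : Etale (pullback.lift g r sq.w) := by
    rw [show pullback.lift g r sq.w = sq.isoPullback.hom from by apply pullback.hom_ext <;> simp]
    infer_instance
  exact isNodeOf_of_etale_bc p h g r sq.w hz hx

/-- At-worst-nodal schemes pull back along étale maps. -/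
theorem isAWN_etale [LocallyOfFiniteType p] (hX : IsAWN p) {Z : Scheme.{u}} (g : Z ⟶ X) [Etale g] :
    IsAWN (g ≫ p) := by
  intro z hz
  haveI : JacobsonSpace X := LocallyOfFiniteType.jacobsonSpace p
  have hgz : IsClosed ({g z} : Set X) := g.closePoints_subset_preimage_closedPoints hz
  rcases hX _ hgz with ⟨U, hU, hsm⟩ | hn
  · refine Or.inl ⟨g ⁻¹ᵁ U, hU, ?_⟩
    haveI : Smooth (U.ι ≫ p) := hsm
    show Smooth ((g ⁻¹ᵁ U).ι ≫ g ≫ p)
    rw [← Category.assoc, ← morphismRestrict_ι, Category.assoc]
    infer_instance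
  · exact Or.inr (isNodeOf_etale p g hz hn)

/-- Being at worst nodal is Zariski local. -/
theorem isAWN_of_open_cover (h : ∀ x : X, IsClosed ({x} : Set X) → ∃ U : X.Opens, x ∈ U ∧ IsAWN (U.ι ≫ p)) [LocallyOfFiniteType p] :
    IsAWN p := by
  intro x hx
  obtain ⟨U, hxU, hU⟩ := h x hx
  have hxc : IsClosed ({(⟨x, hxU⟩ : U)} : Set U) := by
    have : IsClosed ((U.ι.base : U → X) ⁻¹' {x}) := hx.preimage U.ι.continuous
    convert this using 1
    ext y
    exact ⟨fun h => h ▸ rfl, fun h => Subtype.ext h⟩
  rcases hU _ hxc with ⟨V, hV, hsm⟩ | hn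
  · refine Or.inl ⟨U.ι ''ᵁ V, ⟨⟨x, hxU⟩, hV, rfl⟩, ?_⟩
    haveI : Smooth (V.ι ≫ U.ι ≫ p) := hsm
    show Smooth ((U.ι ''ᵁ V).ι ≫ p)
    rw [← Scheme.Hom.isoImage_inv_ι, Category.assoc, Category.assoc]
    infer_instance
  · refine Or.inr ?_
    haveI : JacobsonSpace X := LocallyOfFiniteType.jacobsonSpace p
    obtain ⟨-, ub, hub, hodp⟩ := (isNodeOf_iff _ _).1 hn
    let φ : pullback (U.ι ≫ p) (closPt k) ⟶ pullback p (closPt k) :=
      pullback.lift (pullback.fst _ _ ≫ U.ι) (pullback.snd _ _) (by rw [Category.assoc, pullback.condition])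
    have sq : IsPullback (pullback.fst (U.ι ≫ p) (closPt k)) φ U.ι (pullback.fst p (closPt k)) := by
      refine IsPullback.of_bot ?_ (pullback.lift_fst _ _ _).symm (IsPullback.of_hasPullback p (closPt k))
      rw [pullback.lift_snd]
      exact IsPullback.of_hasPullback _ _
    haveI : IsOpenImmersion φ := MorphismProperty.of_isPullback sq (inferInstanceAs (IsOpenImmersion U.ι))
    have hubc := isClosed_of_fst (U.ι ≫ p) ub (hub ▸ hxc)
    refine (isNodeOf_iff p x).2 ⟨hx, φ ub, ?_, ?_⟩
    · rw [← Scheme.Hom.comp_apply, pullback.lift_fst, Scheme.Hom.comp_apply, hub]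
      rfl
    · refine (isODPAt_etale_iff _ φ hubc).2 ?_
      rw [pullback.lift_snd]
      exact hodp

end Groth.Agent.CStk17.NodeSch
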