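import Groth.Agent.CStk17.AscentSch
import Groth.Agent.CStk17.FibNode
import Groth.Agent.GrpSchLib.SmoothRegular
import Groth.Agent.RegUFD.Basic

/-!
# Normal total spaces of families of curves
-/

set_option autoImplicit false
set_option backward.isDefEq.respectTransparency false
set_option backward.isDefEq.respectTransparency.types false

universe u

open CategoryTheory CategoryTheory.Limits AlgebraicGeometry IsLocalRing

namespace Groth.Agent.CStk17.NormalFam

open Groth.Agent.CDiv6 CurvLocusLib

variable {X S : Scheme.{u}} (f : X ⟶ S)

theorem eq_genericPoint [IsIntegral S] {t z : S} (h : t ⤳ z) (h0 : (primeOf h).asIdeal = ⊥) : t = genericPoint S := by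
  have hg : genericPoint S ⤳ z := genericPoint_specializes _
  have h1 : t ⤳ genericPoint S := (H23.StalkPrimes.primeOf_le_iff hg h).1 (h0 ▸ bot_le)
  exact (h1.antisymm (genericPoint_specializes t)).eq

/-- A point over the generic point inherits normality from a smooth generic fibre. -/
theorem normal_of_smooth_generic [IsIntegral S] (hsm : Smooth (f.fiberToSpecResidueField (genericPoint S)))
    (y : X) (hy : f y = genericPoint S) :
    IsDomain (X.presheaf.stalk y) ∧ IsIntegrallyClosed (X.presheaf.stalk y) := by
  obtain ⟨w, rfl⟩ : y ∈ Set.range (f.fiberι (genericPoint S)) := by rw [f.range_fiberι]; exact hy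
  let φ := ((f.fiberι (genericPoint S)).stalkMap w).hom
  have hinj : Function.Injective φ := by
    rw [RingHom.injective_iff_ker_eq_bot]
    refine (FlatDvr.ker_stalkMap_fiberι f w).trans ?_
    have hF : IsField (S.presheaf.stalk (f (f.fiberι (genericPoint S) w))) := by
      rw [hy]
      exact Field.toIsField S.functionField
    rw [isField_iff_maximalIdeal_eq.1 hF, Ideal.map_bot]
  let e := RingEquiv.ofBijective φ ⟨hinj, (f.fiberι (genericPoint S)).stalkMap_surjective w⟩
  haveI : IsRegularLocalRing ((f.fiber (genericPoint S)).presheaf.stalk w) :=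
    GrpSchLib.isRegularLocalRing_stalk_of_smooth (K := S.residueField (genericPoint S))
      (f.fiberToSpecResidueField (genericPoint S)) w
  obtain ⟨hd, hu⟩ := RegUFD.ufd ((f.fiber (genericPoint S)).presheaf.stalk w)
  haveI := hd
  haveI := hu
  exact ⟨e.toMulEquiv.isDomain, IsIntegrallyClosed.of_equiv e.symm⟩

/-- Fibres of nodal families are reduced. -/
theorem isReduced_fiber_of_isNodalFamily (hf : Curv2.IsNodalFamily f) (s : S) : IsReduced (f.fiber s) := by
  obtain ⟨-, hlfp, hfib⟩ := hf
  haveI : LocallyOfFinitePresentation (f.fiberToSpecResidueField s) := MorphismProperty.pullback_snd _ _ hlfp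
  haveI := NodeSch.isReduced_geom (k := S.residueField s) (f.fiberToSpecResidueField s) (hfib s).2
  let π := pullback.fst (f.fiberToSpecResidueField s) (closPt (S.residueField s))
  haveI : Flat (closPt (S.residueField s)) :=
    (HasRingHomProperty.Spec_iff (P := @Flat)).2 (RingHom.flat_algebraMap_iff.2 inferInstance)
  haveI : Flat π := MorphismProperty.pullback_fst _ _ ‹_›
  exact DescLib.isReduced_of_jointly_surjective (fun _ : PUnit.{1} => π) fun x => ⟨⟨⟩, π.surjective x⟩

end Groth.Agent.CStk17.NormalFam
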