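import Groth.Agent.CStk17.CplIso
import Groth.Prelude.Def_CurvBase

/-!
# Ordinary double points: the model, étale maps, extension of the base field
-/

set_option autoImplicit false

universe u

namespace Groth.Agent.CStk17.ODP

open IsLocalRing MvPolynomial

variable {K : Type u} [Field K]

/-- The polynomial `XY`. -/
noncomputable def xy : MvPolynomial (Fin 2) K := X 0 * X 1

theorem coe_xy : ((xy : MvPolynomial (Fin 2) K) : MvPowerSeries (Fin 2) K) =
    MvPowerSeries.X 0 * MvPowerSeries.X 1 := by
  rw [xy, MvPolynomial.coe_mul, MvPolynomial.coe_X, MvPolynomial.coe_X]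

/-- The completed node. -/
noncomputable abbrev nodeIdeal (K : Type u) [Field K] : Ideal (MvPowerSeries (Fin 2) K) :=
  Ideal.span {(MvPowerSeries.X 0 * MvPowerSeries.X 1 : MvPowerSeries (Fin 2) K)}

variable {A : Type u} [CommRing A] [Algebra K A] [IsLocalRing A] [IsNoetherianRing A]

/-- Ordinary double points and flat unramified maps with trivial residue extension. -/
theorem iff_of_etaleLike {B : Type u} [CommRing B] [Algebra K B] [IsLocalRing B] [IsNoetherianRing B]
    [Algebra A B] [IsScalarTower K A B] [IsLocalHom (algebraMap A B)] [Module.Flat A B]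
    (hm : (maximalIdeal A).map (algebraMap A B) = maximalIdeal B)
    (hres : ∀ b : B, ∃ a : A, b - algebraMap A B a ∈ maximalIdeal B) :
    Curv2.IsOrdDoublePt K A ↔ Curv2.IsOrdDoublePt K B := by
  obtain ⟨e, he⟩ := Cpl.exists_cpl_equiv_of_etaleLike A B hm hres
  have he' : ∀ c : K, e (algebraMap B _ (algebraMap K B c)) = algebraMap A _ (algebraMap K A c) := fun c => by
    rw [IsScalarTower.algebraMap_apply K A B, he]
  constructor
  · rintro ⟨φ, hφ⟩
    exact ⟨e.trans φ, fun c => by rw [RingEquiv.trans_apply, he', hφ]⟩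
  · rintro ⟨φ, hφ⟩
    refine ⟨e.symm.trans φ, fun c => ?_⟩
    rw [RingEquiv.trans_apply, ← he', RingEquiv.symm_apply_apply, hφ]

/-- The origin of `Spec K[X, Y]/(XY)` is an ordinary double point. -/
theorem of_model (m₀ : Ideal (MvPolynomial (Fin 2) K ⧸ Ideal.span {(xy : MvPolynomial (Fin 2) K)})) [m₀.IsPrime]
    (hm₀ : m₀ = (idealOfVars (Fin 2) K).map (Ideal.Quotient.mk _))
    [Algebra (MvPolynomial (Fin 2) K ⧸ Ideal.span {(xy : MvPolynomial (Fin 2) K)}) A]
    [IsScalarTower K (MvPolynomial (Fin 2) K ⧸ Ideal.span {(xy : MvPolynomial (Fin 2) K)}) A]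
    [IsLocalization.AtPrime A m₀] : Curv2.IsOrdDoublePt K A := by
  obtain ⟨e, he⟩ := Cpl.exists_cpl_equiv_origin (xy : MvPolynomial (Fin 2) K) (by simp [xy]) m₀ hm₀ A
  refine ⟨e.trans (Ideal.quotEquivOfEq (by rw [Cpl.psEq, coe_xy])), fun c => ?_⟩
  rw [RingEquiv.trans_apply,
    IsScalarTower.algebraMap_apply K (MvPolynomial (Fin 2) K ⧸ Ideal.span {(xy : MvPolynomial (Fin 2) K)}) A]
  rw [show algebraMap K (MvPolynomial (Fin 2) K ⧸ Ideal.span {(xy : MvPolynomial (Fin 2) K)}) c =
    Ideal.Quotient.mk _ (C c) from rfl, he, Ideal.quotEquivOfEq_mk, MvPolynomial.coe_C]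

section Ext

variable {L : Type u} [Field L] (j : K →+* L)

/-- Extension of scalars on completed nodes. -/
noncomputable def nodeMap : (MvPowerSeries (Fin 2) K ⧸ nodeIdeal K) →+* MvPowerSeries (Fin 2) L ⧸ nodeIdeal L :=
  Ideal.quotientMap _ (MvPowerSeries.map j) (by
    rw [Ideal.span_le, Set.singleton_subset_iff, SetLike.mem_coe, Ideal.mem_comap, map_mul, MvPowerSeries.map_X,
      MvPowerSeries.map_X]
    exact Ideal.mem_span_singleton_self _)

theorem maximalIdeal_node (K : Type u) [Field K] [IsLocalRing (MvPowerSeries (Fin 2) K ⧸ nodeIdeal K)] :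
    maximalIdeal (MvPowerSeries (Fin 2) K ⧸ nodeIdeal K) =
      (PSLib.vars 2 K).map (Ideal.Quotient.mk (nodeIdeal K)) := by
  rw [← IsLocalRing.map_maximalIdeal_of_surjective _ Ideal.Quotient.mk_surjective, PSLib.maximalIdeal_eq_vars]

theorem nontrivial_node (K : Type u) [Field K] : Nontrivial (MvPowerSeries (Fin 2) K ⧸ nodeIdeal K) :=
  Ideal.Quotient.nontrivial_iff.2 fun h => by
    rw [nodeIdeal, Ideal.span_singleton_eq_top, MvPowerSeries.isUnit_iff_constantCoeff] at h
    simp at h

theorem isLocalRing_node (K : Type u) [Field K] : IsLocalRing (MvPowerSeries (Fin 2) K ⧸ nodeIdeal K) :=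
  haveI := nontrivial_node K
  IsLocalRing.of_surjective' (Ideal.Quotient.mk _) Ideal.Quotient.mk_surjective

theorem map_vars_pow (m : ℕ) :
    ((PSLib.vars 2 K).map (Ideal.Quotient.mk (nodeIdeal K)) ^ m).map (nodeMap j) =
      (PSLib.vars 2 L).map (Ideal.Quotient.mk (nodeIdeal L)) ^ m := by
  rw [Ideal.map_pow, Ideal.map_map, show (nodeMap j).comp (Ideal.Quotient.mk (nodeIdeal K)) =
    (Ideal.Quotient.mk (nodeIdeal L)).comp (MvPowerSeries.map j) from Ideal.quotientMap_comp_mk _,
    ← Ideal.map_map, PSLib.vars, Ideal.map_span, ← Set.range_comp]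
  rw [show (⇑(MvPowerSeries.map j) ∘ MvPowerSeries.X : Fin 2 → MvPowerSeries (Fin 2) L) = MvPowerSeries.X from
    funext (MvPowerSeries.map_X j)]
  rfl

variable {B : Type u} [CommRing B] [Algebra L B] [IsLocalRing B] [IsNoetherianRing B]

/-- A point over `A` after extending the base field along `j`, receiving the extended completion map,
is an ordinary double point. -/
theorem of_extension (h : A →+* B) (hc : ∀ c, h (algebraMap K A c) = algebraMap L B (j c))
    (hm : (maximalIdeal A).map h = maximalIdeal B)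
    (hres : ∀ b : B, ∃ l : L, b - algebraMap L B l ∈ maximalIdeal B)
    (e : AdicCompletion (maximalIdeal A) A ≃+* (MvPowerSeries (Fin 2) K ⧸ nodeIdeal K))
    (g : B →+* MvPowerSeries (Fin 2) L ⧸ nodeIdeal L)
    (hg : ∀ a, g (h a) = nodeMap j (e (algebraMap A _ a)))
    (hgL : ∀ l, g (algebraMap L B l) = Ideal.Quotient.mk _ (MvPowerSeries.C l)) :
    Curv2.IsOrdDoublePt L B := by
  classical
  let CK := MvPowerSeries (Fin 2) K ⧸ nodeIdeal K
  let CL := MvPowerSeries (Fin 2) L ⧸ nodeIdeal L
  haveI := isLocalRing_node K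
  haveI := isLocalRing_node L
  let vK : Ideal CK := (PSLib.vars 2 K).map (Ideal.Quotient.mk _)
  let vL : Ideal CL := (PSLib.vars 2 L).map (Ideal.Quotient.mk _)
  -- powers of the maximal ideal of `A` in the completed node
  let eA : A →+* CK := e.toRingHom.comp (algebraMap A _)
  haveI := LC.Canon.faithfullyFlat_completion (R := A)
  have heA : ∀ m, (maximalIdeal A ^ m).map eA = vK ^ m := fun m => by
    show (maximalIdeal A ^ m).map (e.toRingHom.comp (algebraMap A _)) = _
    rw [← Ideal.map_map, Ideal.map_pow, ← AdicCompletion.maximalIdeal_eq_map, Ideal.map_pow]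
    congr 1
    rw [IsLocalRing.map_maximalIdeal_of_surjective _ e.surjective, maximalIdeal_node]
  have heA' : ∀ m a, eA a ∈ vK ^ m → a ∈ maximalIdeal A ^ m := fun m a ha => by
    rw [← Ideal.comap_map_eq_self_of_faithfullyFlat (B := AdicCompletion (maximalIdeal A) A) (maximalIdeal A ^ m),
      Ideal.mem_comap]
    rw [← heA] at ha
    change eA a ∈ (maximalIdeal A ^ m).map (e.toRingHom.comp (algebraMap A _)) at ha
    rw [← Ideal.map_map] at ha
    obtain ⟨y, hy, hye⟩ := (Ideal.mem_map_iff_of_surjective _ e.surjective).1 ha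
    exact e.injective hye ▸ hy
  have heAsurj : ∀ (m : ℕ) (x : CK), ∃ a, eA a - x ∈ vK ^ m := by
    intro m x
    obtain ⟨y, hy⟩ := Ideal.Quotient.mk_surjective (AdicCompletion.evalₐ (maximalIdeal A) m (e.symm x))
    refine ⟨y, ?_⟩
    rw [← heA, show eA = e.toRingHom.comp (algebraMap A _) from rfl, ← Ideal.map_map]
    have : algebraMap A _ y - e.symm x ∈
        (maximalIdeal A ^ m).map (algebraMap A (AdicCompletion (maximalIdeal A) A)) := by
      rw [← FComplLib.evalₐ_eq_zero_iff _ (IsNoetherian.noetherian _), map_sub, FComplLib.evalₐ_algebraMap, hy,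
        sub_self]
    have h2 := Ideal.mem_map_of_mem e.toRingHom this
    rw [map_sub] at h2
    simpa using h2
  have hgm : ∀ m, (maximalIdeal B ^ m).map g = vL ^ m := fun m => by
    rw [← hm, ← Ideal.map_pow, Ideal.map_map, show g.comp h = (nodeMap j).comp eA from RingHom.ext hg,
      ← Ideal.map_map, heA, map_vars_pow]
  -- approximate coordinates
  have key : ∀ m : ℕ, ∃ φ : MvPolynomial (Fin 2) L →+* B ⧸ maximalIdeal B ^ m,
      Function.Surjective φ ∧
      (∀ q, ∀ b : B, Ideal.Quotient.mk _ b = φ q →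
        g b - Ideal.Quotient.mk (nodeIdeal L) (q : MvPowerSeries (Fin 2) L) ∈ vL ^ m) ∧
      φ xy = 0 ∧ ∀ q ∈ idealOfVars (Fin 2) L ^ m, φ q = 0 := by
    intro m
    choose a ha using fun i : Fin 2 => heAsurj (m + 2) (Ideal.Quotient.mk _ (MvPowerSeries.X i))
    have hXv : ∀ i : Fin 2, (Ideal.Quotient.mk (nodeIdeal K) (MvPowerSeries.X i)) ∈ vK := fun i =>
      Ideal.mem_map_of_mem _ (Ideal.subset_span ⟨i, rfl⟩)
    have hpl : ∀ (k : ℕ), k ≤ m + 2 → vK ^ (m + 2) ≤ vK ^ k := fun k hk => Ideal.pow_le_pow_right hk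
    have hamem : ∀ i, a i ∈ maximalIdeal A := fun i => by
      rw [← Submodule.pow_one (maximalIdeal A)]
      refine heA' 1 _ ?_
      rw [Submodule.pow_one]
      have h1 := add_mem ((Submodule.pow_one vK) ▸ hpl 1 (by omega) (ha i)) (hXv i)
      rwa [sub_add_cancel] at h1
    have hab : a 0 * a 1 ∈ maximalIdeal A ^ m := by
      refine heA' m _ ?_
      have h0 : (Ideal.Quotient.mk (nodeIdeal K) (MvPowerSeries.X 0)) *
          (Ideal.Quotient.mk (nodeIdeal K) (MvPowerSeries.X 1)) = 0 := by
        rw [← map_mul, Ideal.Quotient.eq_zero_iff_mem]; exact Ideal.mem_span_singleton_self _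
      have : eA (a 0 * a 1) = (eA (a 0) - Ideal.Quotient.mk _ (MvPowerSeries.X 0)) * eA (a 1) +
          Ideal.Quotient.mk _ (MvPowerSeries.X 0) * (eA (a 1) - Ideal.Quotient.mk _ (MvPowerSeries.X 1)) := by
        rw [map_mul, sub_mul, mul_sub, h0]; ring
      rw [this]
      exact add_mem (Ideal.mul_mem_right _ _ (hpl m (by omega) (ha 0)))
        (Ideal.mul_mem_left _ _ (hpl m (by omega) (ha 1)))
    let ψ : MvPolynomial (Fin 2) L →ₐ[L] B := aeval fun i => h (a i)
    let φ : MvPolynomial (Fin 2) L →+* B ⧸ maximalIdeal B ^ m :=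
      (Ideal.Quotient.mk _).comp ψ.toRingHom
    have hJmap : (idealOfVars (Fin 2) L).map ψ.toRingHom ≤ maximalIdeal B := by
      rw [idealOfVars, Ideal.map_span, Ideal.span_le]
      rintro _ ⟨_, ⟨i, rfl⟩, rfl⟩
      show ψ (X i) ∈ maximalIdeal B
      rw [show ψ (X i) = h (a i) from aeval_X _ _, ← hm]
      exact Ideal.mem_map_of_mem _ (hamem i)
    have hgψ : ∀ q, g (ψ q) - Ideal.Quotient.mk (nodeIdeal L) (q : MvPowerSeries (Fin 2) L) ∈ vL ^ m := by
      have e2 : (Ideal.Quotient.mk (vL ^ m)).comp (g.comp ψ.toRingHom) =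
          (Ideal.Quotient.mk (vL ^ m)).comp ((Ideal.Quotient.mk (nodeIdeal L)).comp
            MvPolynomial.coeToMvPowerSeries.ringHom) := by
        refine MvPolynomial.ringHom_ext (fun c => ?_) (fun i => ?_)
        · show Ideal.Quotient.mk _ (g (ψ (C c))) = Ideal.Quotient.mk _ (Ideal.Quotient.mk _ ((C c : MvPolynomial (Fin 2) L) : MvPowerSeries (Fin 2) L))
          rw [MvPolynomial.coe_C, ← MvPolynomial.algebraMap_eq, AlgHom.commutes, hgL]
        · show Ideal.Quotient.mk _ (g (ψ (X i))) = Ideal.Quotient.mk _ (Ideal.Quotient.mk _ ((X i : MvPolynomial (Fin 2) L) : MvPowerSeries (Fin 2) L))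
          rw [Ideal.Quotient.eq, MvPolynomial.coe_X, show ψ (X i) = h (a i) from aeval_X _ _, hg]
          have h3 := Ideal.mem_map_of_mem (nodeMap j) (hpl m (by omega) (ha i))
          rw [map_vars_pow, map_sub] at h3
          simpa [eA, nodeMap, MvPowerSeries.map_X] using h3
      exact fun q => Ideal.Quotient.eq.1 (RingHom.congr_fun e2 q)
    refine ⟨φ, ?_, ?_, ?_, ?_⟩
    · -- surjectivity, degree by degree
      have hgen : maximalIdeal B ≤ Ideal.span (Set.range fun i => h (a i)) ⊔ maximalIdeal B ^ 2 := by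
        rw [← hm, ← Ideal.map_pow, Ideal.map_le_iff_le_comap]
        intro x hx
        have hx' : eA x ∈ vK := by
          rw [← Submodule.pow_one vK, ← heA, Submodule.pow_one]; exact Ideal.mem_map_of_mem _ hx
        rw [show vK = Ideal.span (Set.range fun i : Fin 2 => Ideal.Quotient.mk (nodeIdeal K) (MvPowerSeries.X i)) by
          simp only [vK, PSLib.vars, Ideal.map_span, ← Set.range_comp]; rfl,
          Ideal.mem_span_range_iff_exists_fun] at hx'
        obtain ⟨c, hc'⟩ := hx'
        choose c' hc'' using fun i => heAsurj 1 (c i)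
        have h2 : x - ∑ i, c' i * a i ∈ maximalIdeal A ^ 2 := by
          refine heA' 2 _ ?_
          have : eA (x - ∑ i, c' i * a i) = ∑ i, ((c i - eA (c' i)) * Ideal.Quotient.mk _ (MvPowerSeries.X i) -
              eA (c' i) * (eA (a i) - Ideal.Quotient.mk _ (MvPowerSeries.X i))) := by
            rw [map_sub, map_sum, ← hc', ← Finset.sum_sub_distrib]
            refine Finset.sum_congr rfl fun i _ => ?_
            rw [map_mul]; ring
          rw [this]
          refine sum_mem fun i _ => sub_mem ?_ (Ideal.mul_mem_left _ _ (hpl 2 (by omega) (ha i)))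
          rw [pow_two]
          refine Ideal.mul_mem_mul ?_ (hXv i)
          have := neg_mem (hc'' i)
          rw [Submodule.pow_one, neg_sub] at this
          exact this
        rw [Ideal.mem_comap]
        rw [show h x = ∑ i, h (c' i) * h (a i) + h (x - ∑ i, c' i * a i) by simp [map_sum]]
        exact add_mem (Ideal.mem_sup_left (sum_mem fun i _ => Ideal.mul_mem_left _ _ (Ideal.subset_span ⟨i, rfl⟩)))
          (Ideal.mem_sup_right (Ideal.mem_map_of_mem _ h2))
      have step : ∀ (k : ℕ) (y : B), ∃ q, y - ψ q ∈ maximalIdeal B ^ k := by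
        intro k
        induction k with
        | zero => exact fun y => ⟨0, by simp⟩
        | succ k ih =>
          intro y
          rcases Nat.eq_zero_or_pos k with rfl | hk
          · obtain ⟨l, hl⟩ := hres y
            exact ⟨C l, by simpa [ψ] using hl⟩
          obtain ⟨l, hl⟩ := hres y
          have h2 := hgen hl
          rw [Submodule.mem_sup] at h2
          obtain ⟨s, hs, w, hw, hsw⟩ := h2
          rw [Ideal.mem_span_range_iff_exists_fun] at hs
          obtain ⟨c, rfl⟩ := hs
          choose qc hqc using fun i => ih (c i)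
          -- the quadratic remainder
          have hquad : ∀ w ∈ maximalIdeal B ^ 2, ∃ q, w - ψ q ∈ maximalIdeal B ^ (k + 1) := by
            intro w hw
            rw [pow_two] at hw
            induction hw using Submodule.mul_induction_on' with
            | mem_mul_mem p hp r hr =>
              obtain ⟨qp, hqp⟩ := ih p
              obtain ⟨qr, hqr⟩ := ih r
              refine ⟨qp * qr, ?_⟩
              rw [map_mul, show p * r - ψ qp * ψ qr = (p - ψ qp) * r + ψ qp * (r - ψ qr) by ring]
              have hqp' : ψ qp ∈ maximalIdeal B := by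
                have : p - ψ qp ∈ maximalIdeal B := Ideal.pow_le_self (by omega) hqp
                simpa using sub_mem hp this
              refine add_mem (by rw [pow_succ]; exact Ideal.mul_mem_mul hqp hr) ?_
              rw [pow_succ']; exact Ideal.mul_mem_mul hqp' hqr
            | add p _ r _ ihp ihr =>
              obtain ⟨qp, hqp⟩ := ihp
              obtain ⟨qr, hqr⟩ := ihr
              exact ⟨qp + qr, by rw [map_add, add_sub_add_comm]; exact add_mem hqp hqr⟩
          obtain ⟨qw, hqw⟩ := hquad w hw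
          refine ⟨C l + ∑ i, qc i * X i + qw, ?_⟩
          have : y - ψ (C l + ∑ i, qc i * X i + qw) =
              (∑ i, (c i - ψ (qc i)) * h (a i)) + (w - ψ qw) := by
            have hy' : y = algebraMap L B l + (∑ i, c i * h (a i) + w) := by rw [hsw]; ring
            rw [hy']
            simp [ψ, map_sum, sub_mul]
            ring
          rw [this]
          refine add_mem (sum_mem fun i _ => ?_) hqw
          rw [pow_succ]
          exact Ideal.mul_mem_mul (hqc i) (hm ▸ Ideal.mem_map_of_mem h (hamem i))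
      intro y
      obtain ⟨y, rfl⟩ := Ideal.Quotient.mk_surjective y
      obtain ⟨q, hq⟩ := step m y
      exact ⟨q, (Ideal.Quotient.eq.2 hq).symm⟩
    · intro q b hb
      have hb' : b - ψ q ∈ maximalIdeal B ^ m := Ideal.Quotient.eq.1 hb
      have h4 := Ideal.mem_map_of_mem g hb'
      rw [hgm, map_sub] at h4
      simpa using add_mem h4 (hgψ q)
    · show Ideal.Quotient.mk _ (ψ xy) = 0
      rw [Ideal.Quotient.eq_zero_iff_mem, ← hm, ← Ideal.map_pow]
      simpa [ψ, xy] using Ideal.mem_map_of_mem h hab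
    · intro q hq
      show Ideal.Quotient.mk _ (ψ q) = 0
      rw [Ideal.Quotient.eq_zero_iff_mem]
      have := Ideal.mem_map_of_mem ψ.toRingHom hq
      rw [Ideal.map_pow] at this
      exact Ideal.pow_right_mono hJmap m this
  have hcL : IsAdicComplete (maximalIdeal CL) CL := by
    rw [maximalIdeal_node]
    haveI : IsAdicComplete (PSLib.vars 2 L) (MvPowerSeries (Fin 2) L) := inferInstance
    haveI := Adic7.isAdicComplete_of_finite (PSLib.vars 2 L) CL
    exact (IsAdicComplete.map_algebraMap_iff _ _).mpr inferInstance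
  have hgm1 : (maximalIdeal B).map g = vL := by simpa [Submodule.pow_one] using hgm 1
  haveI : IsAdicComplete ((maximalIdeal B).map g) CL := by
    rw [hgm1, show vL = maximalIdeal CL from (maximalIdeal_node L).symm]
    exact hcL
  obtain ⟨ε, hε⟩ := ConormalAlgz.exists_equiv (maximalIdeal B) g
    (fun m c => by
      obtain ⟨x, rfl⟩ := Ideal.Quotient.mk_surjective c
      obtain ⟨φ, hsurj, hcomp, -, -⟩ := key m
      obtain ⟨b, hb⟩ := Ideal.Quotient.mk_surjective (φ (MvPowerSeries.truncTotal m x))
      refine ⟨b, ?_⟩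
      rw [hgm1]
      have h1 := hcomp _ b hb
      have h2 : Ideal.Quotient.mk (nodeIdeal L) x - Ideal.Quotient.mk (nodeIdeal L)
          ((MvPowerSeries.truncTotal m x : MvPolynomial (Fin 2) L) : MvPowerSeries (Fin 2) L) ∈ vL ^ m := by
        rw [← map_sub, ← Ideal.map_pow]
        refine Ideal.mem_map_of_mem _ (PSLib.mem_pow_iff.2 fun d hd => ?_)
        rw [map_sub, sub_eq_zero]
        exact ((MvPolynomial.coeff_coe _ _).trans (MvPowerSeries.coeff_truncTotal _ hd)).symm
      simpa using sub_mem h2 h1)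
    (fun m d hd => by
      rw [hgm1] at hd
      obtain ⟨φ, hsurj, hcomp, hxy, hJ⟩ := key m
      obtain ⟨q, hq⟩ := hsurj (Ideal.Quotient.mk _ d)
      have h1 := hcomp q d hq.symm
      have h2 : Ideal.Quotient.mk (nodeIdeal L) (q : MvPowerSeries (Fin 2) L) ∈ vL ^ m := by
        simpa using sub_mem hd h1
      rw [← Ideal.map_pow, Ideal.mem_map_iff_of_surjective _ Ideal.Quotient.mk_surjective] at h2
      obtain ⟨w, hw, hwq⟩ := h2
      rw [Ideal.Quotient.eq, Ideal.mem_span_singleton] at hwq
      obtain ⟨k, hk⟩ := hwq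
      let T := MvPowerSeries.truncTotalAlgHom (Fin 2) L m
      have hTw : T w = 0 := by
        rw [MvPowerSeries.truncTotalAlgHom_apply, Ideal.Quotient.eq_zero_iff_mem, mem_pow_idealOfVars_iff']
        intro x hx
        rw [MvPowerSeries.coeff_truncTotal _ hx]
        exact PSLib.coeff_eq_zero_of_mem_pow m w hw x hx
      have hTι : ∀ y : MvPolynomial (Fin 2) L, T (y : MvPowerSeries (Fin 2) L) = Ideal.Quotient.mk _ y :=
        fun y => T.commutes y
      have e := congrArg T hk
      rw [← coe_xy, map_sub, hTw, map_mul, hTι, hTι, zero_sub] at e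
      obtain ⟨k', hk'⟩ := Ideal.Quotient.mk_surjective (T k)
      rw [← hk', ← map_mul, ← map_neg, Ideal.Quotient.eq] at e
      have h5 := hJ _ e
      rw [map_sub, map_neg, map_mul, hxy, zero_mul, sub_zero, neg_eq_zero, hq, Ideal.Quotient.eq_zero_iff_mem] at h5
      exact h5)
  refine ⟨ε.symm, fun c => ?_⟩
  rw [← hε, RingEquiv.symm_apply_apply, hgL]

end Ext

end Groth.Agent.CStk17.ODP
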