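import Groth.Agent.H23.GeomConn
import Groth.Agent.GeomConn5.Point
import Mathlib.AlgebraicGeometry.AlgClosed.Basic
import Groth.Agent.MorLib.WeightFlat
import Groth.Prelude.Def_CurvBase

/-!
# Local rings at rational points of schemes over fields
-/

set_option autoImplicit false
set_option backward.isDefEq.respectTransparency false
set_option backward.isDefEq.respectTransparency.types false

universe u

open CategoryTheory CategoryTheory.Limits AlgebraicGeometry

namespace Groth.Agent.CStk17.SchPt

variable {K : Type u} [Field K] {Y : Scheme.{u}} (q : Y ⟶ Spec (CommRingCat.of K))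

/-- The structure map on a local ring. -/
noncomputable def sMap (y : Y) : K →+* Y.presheaf.stalk y :=
  @Curv2.stalkMap K _ Y ⟨q⟩ y

/-- The local ring as an algebra over the base field. -/
@[reducible] noncomputable def sAlg (y : Y) : Algebra K (Y.presheaf.stalk y) := (sMap q y).toAlgebra

theorem fromSpecStalk_comp (y : Y) :
    Y.fromSpecStalk y ≫ q = Spec.map (CommRingCat.ofHom (sMap q y)) := by
  conv_lhs => rw [H23.GeomConn.eq_toSpecΓ_comp q]
  rw [Scheme.fromSpecStalk_toSpecΓ_assoc, ← Spec.map_comp]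
  rfl

/-- Ring maps out of a local ring are determined by the morphism of spectra. -/
theorem hom_ext {y : Y} {R : Type u} [CommRing R] {a b : Y.presheaf.stalk y →+* R}
    (h : Spec.map (CommRingCat.ofHom a) ≫ Y.fromSpecStalk y = Spec.map (CommRingCat.ofHom b) ≫ Y.fromSpecStalk y) :
    a = b :=
  congrArg CommRingCat.Hom.hom (Spec.map_injective ((cancel_mono (Y.fromSpecStalk y)).1 h))

/-- A point with values in a local ring factors through the local ring at the image of the closed point. -/
theorem exists_hom {R : Type u} [CommRing R] [IsLocalRing R] (f : Spec (CommRingCat.of R) ⟶ Y) (y : Y)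
    (hy : f (IsLocalRing.closedPoint R) = y) :
    ∃ a : Y.presheaf.stalk y →+* R, IsLocalHom a ∧ Spec.map (CommRingCat.ofHom a) ≫ Y.fromSpecStalk y = f := by
  subst hy
  exact ⟨(Scheme.stalkClosedPointTo f).hom, inferInstance, Scheme.Spec_stalkClosedPointTo_fromSpecStalk f⟩

theorem apply_closedPoint {y : Y} {R : Type u} [CommRing R] [IsLocalRing R] (a : Y.presheaf.stalk y →+* R)
    [IsLocalHom a] :
    (Spec.map (CommRingCat.ofHom a) ≫ Y.fromSpecStalk y) (IsLocalRing.closedPoint R) = y := by
  haveI : IsLocalHom (CommRingCat.ofHom a).hom := ‹IsLocalHom a›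
  rw [Scheme.Hom.comp_apply, Spec_closedPoint]
  exact Scheme.fromSpecStalk_closedPoint

theorem comp_sMap {y : Y} {R : Type u} [CommRing R] (a : Y.presheaf.stalk y →+* R) (φ : K →+* R)
    (h : Spec.map (CommRingCat.ofHom a) ≫ Y.fromSpecStalk y ≫ q = Spec.map (CommRingCat.ofHom φ)) :
    a.comp (sMap q y) = φ := by
  rw [fromSpecStalk_comp, ← Spec.map_comp, ← CommRingCat.ofHom_comp] at h
  exact congrArg CommRingCat.Hom.hom (Spec.map_injective h)

theorem sMap_comp {Z : Scheme.{u}} (g : Z ⟶ Y) (z : Z) :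
    (g.stalkMap z).hom.comp (sMap q (g z)) = sMap (g ≫ q) z := by
  apply comp_sMap
  rw [CommRingCat.ofHom_hom, ← Category.assoc, Scheme.SpecMap_stalkMap_fromSpecStalk, Category.assoc,
    fromSpecStalk_comp (g ≫ q)]

theorem sMap_base {L : Type u} [Field L] (j : K →+* L) (q' : Y ⟶ Spec (CommRingCat.of L)) (y : Y) :
    sMap (q' ≫ Spec.map (CommRingCat.ofHom j)) y = (sMap q' y).comp j := by
  have h := fromSpecStalk_comp (q' ≫ Spec.map (CommRingCat.ofHom j)) y
  rw [← Category.assoc, fromSpecStalk_comp q', ← Spec.map_comp, ← CommRingCat.ofHom_comp] at h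
  exact (congrArg CommRingCat.Hom.hom (Spec.map_injective h)).symm

theorem residue_surjective [IsAlgClosed K] [LocallyOfFiniteType q] {y : Y} (hy : IsClosed ({y} : Set Y))
    (a : Y.presheaf.stalk y) : ∃ c, a - sMap q y c ∈ IsLocalRing.maximalIdeal (Y.presheaf.stalk y) := by
  letI : Y.Over (Spec (CommRingCat.of K)) := ⟨q⟩
  haveI : LocallyOfFiniteType (Y ↘ Spec (CommRingCat.of K)) := ‹LocallyOfFiniteType q›
  have hsurj : Function.Surjective (Curv2.resMap K Y y) := by
    let e := residueFieldIsoBase (Y ↘ Spec (CommRingCat.of K)) y hy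
    have h : e.inv = CommRingCat.ofHom (Curv2.resMap K Y y) :=
      Spec.map_injective (by rw [SpecMap_residueFieldIsoBase_inv, GeomConn5.spec_resMap])
    exact fun z => ⟨e.hom z, by
      change (CommRingCat.ofHom (Curv2.resMap K Y y)) (e.hom z) = z
      rw [← h]
      exact e.hom_inv_id_apply z⟩
  obtain ⟨c, hc⟩ := hsurj ((Y.residue y).hom a)
  exact ⟨c, Ideal.Quotient.eq.1 hc.symm⟩

theorem isClosed_of_rational [IsAlgClosed K] [LocallyOfFiniteType q] (p : Spec (CommRingCat.of K) ⟶ Y) (hp : p ≫ q = 𝟙 _) :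
    IsClosed ({p (IsLocalRing.closedPoint K)} : Set Y) :=
  (pointEquivClosedPoint q ⟨p, hp⟩).2

theorem isClosed_image [IsAlgClosed K] [LocallyOfFiniteType q] {Z : Scheme.{u}} (g : Z ⟶ Y) [LocallyOfFiniteType g]
    {z : Z} (hz : IsClosed ({z} : Set Z)) : IsClosed ({g z} : Set Y) := by
  have h := isClosed_of_rational q (pointOfClosedPoint (g ≫ q) z hz ≫ g)
    (by rw [Category.assoc, pointOfClosedPoint_comp])
  rwa [Scheme.Hom.comp_apply, pointOfClosedPoint_apply] at h

/-- Local homomorphisms to a field which agree on the base field are equal. -/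
theorem hom_ext_field {A : Type u} [CommRing A] [IsLocalRing A] {R : Type u} [CommRing R] (s : K →+* A)
    (hres : ∀ a, ∃ c, a - s c ∈ IsLocalRing.maximalIdeal A) (a b : A →+* R)
    (ha : ∀ x ∈ IsLocalRing.maximalIdeal A, a x = 0) (hb : ∀ x ∈ IsLocalRing.maximalIdeal A, b x = 0)
    (h : a.comp s = b.comp s) : a = b := by
  refine RingHom.ext fun x => ?_
  obtain ⟨c, hc⟩ := hres x
  have h1 := ha _ hc
  have h2 := hb _ hc
  rw [map_sub, sub_eq_zero] at h1 h2
  rw [h1, h2]
  exact RingHom.congr_fun h c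

theorem map_maximalIdeal_eq_zero {A : Type u} [CommRing A] [IsLocalRing A] {L : Type u} [Field L] (a : A →+* L)
    [IsLocalHom a] (x : A) (hx : x ∈ IsLocalRing.maximalIdeal A) : a x = 0 := by
  by_contra h
  exact hx (isUnit_of_map_unit a x (isUnit_iff_ne_zero.2 h))

end Groth.Agent.CStk17.SchPt
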