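import Groth.Agent.CStk17.ODP
import Groth.Agent.CStk17.SchPt

/-!
# Ordinary double points on schemes over algebraically closed fields
-/

set_option autoImplicit false
set_option backward.isDefEq.respectTransparency false
set_option backward.isDefEq.respectTransparency.types false

universe u

open CategoryTheory CategoryTheory.Limits AlgebraicGeometry IsLocalRing

namespace Groth.Agent.CStk17.ODP

open SchPt

variable {K : Type u} [Field K] {Y : Scheme.{u}} (q : Y ⟶ Spec (CommRingCat.of K))

/-- The local ring at `y` is an ordinary double point over `K`. -/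
def IsODPAt (y : Y) : Prop :=
  letI := sAlg q y
  Curv2.IsOrdDoublePt K (Y.presheaf.stalk y)

theorem isODPAt_etale_iff [IsAlgClosed K] [LocallyOfFiniteType q] {Z : Scheme.{u}} (g : Z ⟶ Y) [Etale g] {z : Z}
    (hz : IsClosed ({z} : Set Z)) : IsODPAt q (g z) ↔ IsODPAt (g ≫ q) z := by
  haveI : IsLocallyNoetherian Y := LocallyOfFiniteType.isLocallyNoetherian q
  haveI : IsLocallyNoetherian Z := LocallyOfFiniteType.isLocallyNoetherian (g ≫ q)
  letI := sAlg q (g z)
  letI := sAlg (g ≫ q) z
  letI : Algebra (Y.presheaf.stalk (g z)) (Z.presheaf.stalk z) := (g.stalkMap z).hom.toAlgebra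
  haveI : IsScalarTower K (Y.presheaf.stalk (g z)) (Z.presheaf.stalk z) :=
    IsScalarTower.of_algebraMap_eq' (sMap_comp q g z).symm
  haveI : IsLocalHom (algebraMap (Y.presheaf.stalk (g z)) (Z.presheaf.stalk z)) :=
    inferInstanceAs <| IsLocalHom (g.stalkMap z).hom
  haveI : Module.Flat (Y.presheaf.stalk (g z)) (Z.presheaf.stalk z) := Flat.stalkMap g z
  exact iff_of_etaleLike (MorLib.WT.map_maximalIdeal_stalkMap g z) fun b => by
    obtain ⟨c, hc⟩ := residue_surjective (g ≫ q) hz b
    exact ⟨sMap q (g z) c, by rw [← sMap_comp q g z] at hc; exact hc⟩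

/-- Extension of the algebraically closed base field. -/
theorem isODPAt_of_isPullback [IsAlgClosed K] [LocallyOfFiniteType q] {L : Type u} [Field L] [IsAlgClosed L]
    (j : K →+* L) {Y' : Scheme.{u}} {g' : Y' ⟶ Y} {q' : Y' ⟶ Spec (CommRingCat.of L)}
    (sq : IsPullback g' q' q (Spec.map (CommRingCat.ofHom j))) {z : Y'} (hz : IsClosed ({z} : Set Y'))
    (hy : IsClosed ({g' z} : Set Y)) (h : IsODPAt q (g' z)) : IsODPAt q' z := by
  haveI : LocallyOfFiniteType q' := MorphismProperty.of_isPullback sq ‹LocallyOfFiniteType q›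
  haveI : IsLocallyNoetherian Y := LocallyOfFiniteType.isLocallyNoetherian q
  haveI : IsLocallyNoetherian Y' := LocallyOfFiniteType.isLocallyNoetherian q'
  letI := sAlg q (g' z)
  letI := sAlg q' z
  obtain ⟨e, he⟩ := h
  have hhc : (g'.stalkMap z).hom.comp (sMap q (g' z)) = (sMap q' z).comp j := by
    rw [sMap_comp, sq.w, sMap_base]
  -- the rational point `z`
  obtain ⟨β, hβloc, hβ⟩ := exists_hom (pointOfClosedPoint q' z hz) z (pointOfClosedPoint_apply q' z hz _)
  have hresA := residue_surjective q hy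
  let α : Y.presheaf.stalk (g' z) →+* L := β.comp (g'.stalkMap z).hom
  haveI : IsLocalHom (g'.stalkMap z).hom := inferInstance
  haveI : IsLocalHom α := RingHom.isLocalHom_comp _ _
  have hβs : β.comp (sMap q' z) = RingHom.id L :=
    comp_sMap q' β (RingHom.id L) (by
      rw [← Category.assoc, hβ, pointOfClosedPoint_comp, CommRingCat.ofHom_id, Spec.map_id])
  have hαs : α.comp (sMap q (g' z)) = j := by
    rw [RingHom.comp_assoc, hhc, ← RingHom.comp_assoc, hβs, RingHom.id_comp]
  have hαf : Spec.map (CommRingCat.ofHom α) ≫ Y.fromSpecStalk (g' z) = pointOfClosedPoint q' z hz ≫ g' := by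
    rw [CommRingCat.ofHom_comp, Spec.map_comp, Category.assoc, CommRingCat.ofHom_hom,
      Scheme.SpecMap_stalkMap_fromSpecStalk, ← Category.assoc, hβ]
  have hm : (maximalIdeal (Y.presheaf.stalk (g' z))).map (g'.stalkMap z).hom =
      maximalIdeal (Y'.presheaf.stalk z) := by
    refine le_antisymm (map_maximalIdeal_le _) ?_
    let J := (maximalIdeal (Y.presheaf.stalk (g' z))).map (g'.stalkMap z).hom
    let π := Ideal.Quotient.mk J
    let ιL : L →+* Y'.presheaf.stalk z ⧸ J := π.comp (sMap q' z)
    have hπh : π.comp (g'.stalkMap z).hom = ιL.comp α :=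
      hom_ext_field _ hresA _ _ (fun x hx => Ideal.Quotient.eq_zero_iff_mem.2 (Ideal.mem_map_of_mem _ hx))
        (fun x hx => by rw [RingHom.comp_apply, map_maximalIdeal_eq_zero α x hx, map_zero])
        (by rw [RingHom.comp_assoc, hhc, RingHom.comp_assoc, hαs, RingHom.comp_assoc])
    have hu : Spec.map (CommRingCat.ofHom π) ≫ Y'.fromSpecStalk z =
        Spec.map (CommRingCat.ofHom ιL) ≫ pointOfClosedPoint q' z hz := by
      apply sq.hom_ext
      · rw [Category.assoc, Category.assoc, ← hαf, ← Scheme.SpecMap_stalkMap_fromSpecStalk, ← Category.assoc,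
          ← Category.assoc (Spec.map (CommRingCat.ofHom ιL)), ← Spec.map_comp, ← Spec.map_comp,
          ← CommRingCat.ofHom_comp, ← hπh, CommRingCat.ofHom_comp, CommRingCat.ofHom_hom]
      · rw [Category.assoc, Category.assoc, fromSpecStalk_comp, pointOfClosedPoint_comp, Category.comp_id,
          ← Spec.map_comp, ← CommRingCat.ofHom_comp]
    rw [← hβ, ← Category.assoc, ← Spec.map_comp, ← CommRingCat.ofHom_comp] at hu
    have hu' : π = ιL.comp β := hom_ext hu
    intro x hx
    refine Ideal.Quotient.eq_zero_iff_mem.1 ?_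
    show π x = 0
    rw [hu', RingHom.comp_apply, map_maximalIdeal_eq_zero β x hx, map_zero]
  -- the map to the completed node
  haveI := isLocalRing_node K
  haveI := isLocalRing_node L
  let CL := MvPowerSeries (Fin 2) L ⧸ nodeIdeal L
  let γ : Y.presheaf.stalk (g' z) →+* CL := (nodeMap j).comp (e.toRingHom.comp (algebraMap _ _))
  let cL : L →+* CL := (Ideal.Quotient.mk _).comp MvPowerSeries.C
  have hγs : γ.comp (sMap q (g' z)) = cL.comp j := by
    refine RingHom.ext fun c => ?_
    show nodeMap j (e (algebraMap _ _ (algebraMap K _ c))) = _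
    rw [he]
    show Ideal.Quotient.mk _ (MvPowerSeries.map j (MvPowerSeries.C c)) = _
    rw [MvPowerSeries.map_C]
    rfl
  let G : Spec (CommRingCat.of CL) ⟶ Y' := sq.lift
    (Spec.map (CommRingCat.ofHom γ) ≫ Y.fromSpecStalk (g' z)) (Spec.map (CommRingCat.ofHom cL))
    (by rw [Category.assoc, fromSpecStalk_comp, ← Spec.map_comp, ← Spec.map_comp, ← CommRingCat.ofHom_comp, hγs,
      CommRingCat.ofHom_comp])
  let ev : CL →+* L := Ideal.Quotient.lift _ MvPowerSeries.constantCoeff fun x hx => by
    obtain ⟨w, rfl⟩ := Ideal.mem_span_singleton.1 hx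
    simp
  have hevc : ev.comp cL = RingHom.id L := RingHom.ext fun c => by
    show ev (Ideal.Quotient.mk _ (MvPowerSeries.C c)) = c
    rw [Ideal.Quotient.lift_mk, MvPowerSeries.constantCoeff_C]
  haveI hevloc : IsLocalHom ev := ⟨fun x hx => by
    obtain ⟨x, rfl⟩ := Ideal.Quotient.mk_surjective x
    exact (MvPowerSeries.isUnit_iff_constantCoeff.2 hx).map _⟩
  haveI : IsLocalHom γ := by
    refine ((local_hom_TFAE γ).out 0 2).mpr ?_
    show (maximalIdeal _).map ((nodeMap j).comp (e.toRingHom.comp (algebraMap _ _))) ≤ _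
    rw [← Ideal.map_map, ← Ideal.map_map, ← AdicCompletion.maximalIdeal_eq_map,
      IsLocalRing.map_maximalIdeal_of_surjective _ e.surjective, maximalIdeal_node,
      ← Submodule.pow_one ((PSLib.vars 2 K).map (Ideal.Quotient.mk (nodeIdeal K))), map_vars_pow,
      Submodule.pow_one, maximalIdeal_node]
  have hev : Spec.map (CommRingCat.ofHom ev) ≫ G = pointOfClosedPoint q' z hz := by
    apply sq.hom_ext
    · rw [Category.assoc, sq.lift_fst, ← hαf, ← Category.assoc, ← Spec.map_comp, ← CommRingCat.ofHom_comp]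
      congr 3
      exact hom_ext_field _ hresA _ _ (fun x hx => map_maximalIdeal_eq_zero (ev.comp γ) x hx)
        (fun x hx => map_maximalIdeal_eq_zero α x hx)
        (by rw [RingHom.comp_assoc, hγs, ← RingHom.comp_assoc, hevc, RingHom.id_comp, hαs])
    · rw [Category.assoc, sq.lift_snd, ← Spec.map_comp, ← CommRingCat.ofHom_comp, hevc, pointOfClosedPoint_comp,
        CommRingCat.ofHom_id, Spec.map_id]
  have hGz : G (IsLocalRing.closedPoint CL) = z := by
    have h1 := congrArg (fun f : Spec (CommRingCat.of L) ⟶ Y' => f (IsLocalRing.closedPoint L)) hev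
    simp only [Scheme.Hom.comp_apply, pointOfClosedPoint_apply] at h1
    haveI : IsLocalHom (CommRingCat.ofHom ev).hom := hevloc
    rw [← h1]
    exact congrArg G (Spec_closedPoint (f := CommRingCat.ofHom ev)).symm
  obtain ⟨g, -, hg⟩ := exists_hom G z hGz
  have hgh : g.comp (g'.stalkMap z).hom = γ := by
    apply hom_ext
    rw [CommRingCat.ofHom_comp, Spec.map_comp, Category.assoc, CommRingCat.ofHom_hom,
      Scheme.SpecMap_stalkMap_fromSpecStalk, ← Category.assoc, hg, sq.lift_fst]
  have hgs : g.comp (sMap q' z) = cL :=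
    comp_sMap q' g cL (by rw [← Category.assoc, hg, sq.lift_snd])
  exact of_extension j (g'.stalkMap z).hom (RingHom.congr_fun hhc) hm (residue_surjective q' hz) e g
    (RingHom.congr_fun hgh) (RingHom.congr_fun hgs)

end Groth.Agent.CStk17.ODP
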