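import Groth.Agent.CStk17.GRed
import Groth.Agent.CStk17.PtConds
import Groth.Agent.Alg6.AssDepth
import Groth.Agent.LC.ExtDim
import Groth.Agent.SchTop.Closed
import Groth.Agent.H23.RigidBase

/-!
# Geometrically reduced fibres of dimension at most one are Cohen–Macaulay
-/

set_option autoImplicit false
set_option linter.style.haveILetI false
set_option backward.isDefEq.respectTransparency false
set_option backward.isDefEq.respectTransparency.types false

universe u

open CategoryTheory CategoryTheory.Limits AlgebraicGeometry IsLocalRing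

namespace Groth.Agent.CStk17.ReducedCM

/-- A reduced Noetherian local ring of dimension at most one is Cohen–Macaulay. -/
theorem isCohenMacaulayLocalRing_of_reduced (R : Type u) [CommRing R] [IsLocalRing R] [IsNoetherianRing R]
    [_root_.IsReduced R] (hdim : ringKrullDim R ≤ 1) : LocCoh.IsCohenMacaulayLocalRing R := by
  refine { supportDim_eq_depth := le_antisymm ?_ (LC.depth_le_supportDim R) }
  rw [Module.supportDim_self_eq_ringKrullDim]
  by_cases h : maximalIdeal R ∈ associatedPrimes R R
  · obtain ⟨-, z, hz⟩ := Alg6.mem_ass_iff.1 h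
    have hz0 : z ≠ 0 := fun h0 => (maximalIdeal.isMaximal R).ne_top
      ((Ideal.eq_top_iff_one _).2 ((hz 1).2 (by rw [h0, smul_zero])))
    obtain ⟨p, hp, hzp⟩ : ∃ p : Ideal R, p ∈ minimalPrimes R ∧ z ∉ p := by
      by_contra hcon
      push Not at hcon
      refine hz0 (IsNilpotent.eq_zero (mem_nilradical.1 ?_))
      rw [nilradical, Ideal.radical_eq_sInf, Submodule.mem_sInf]
      rintro q ⟨-, hq⟩
      obtain ⟨p, hp, hle⟩ := Ideal.exists_minimalPrimes_le (bot_le : (⊥ : Ideal R) ≤ q)
      exact hle (hcon p hp)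
    have hle : maximalIdeal R ≤ p := fun a ha => by
      have ha0 := (hz a).1 ha
      exact (hp.1.1.mem_or_mem (show a * z ∈ p by rw [← smul_eq_mul, ha0]; exact p.zero_mem)).resolve_right hzp
    have h0 : ringKrullDim R ≤ 0 := by
      haveI : Ring.KrullDimLE 0 R := Ring.krullDimLE_zero_iff.2 fun q hq => by
        have h1 : p ≤ q := hp.2 ⟨hq, bot_le⟩ ((IsLocalRing.le_maximalIdeal hq.ne_top).trans hle)
        rw [le_antisymm (IsLocalRing.le_maximalIdeal hq.ne_top) (hle.trans h1)]
        exact maximalIdeal.isMaximal R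
      exact Ring.krullDimLE_iff.1 inferInstance
    exact h0.trans (WithBot.coe_le_coe.2 bot_le)
  · exact hdim.trans (WithBot.coe_le_coe.2 (Alg6.one_le_depth_iff.2 h))

/-- On a scheme locally of finite type over a field of dimension at most one at every point, reduced means CM. -/
theorem isCMAt_of_isReduced {k : Type u} [Field k] {X : Scheme.{u}} (q : X ⟶ Spec (CommRingCat.of k))
    [LocallyOfFinitePresentation q] [IsReduced X]
    (hdim : ∀ z, FlatMor.fibreDimAt q z ≤ ((1 : ℕ) : WithBot ℕ∞)) (x : X) : MoreMor.IsCMAt q x := by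
  haveI : IsLocallyNoetherian X := LocallyOfFiniteType.isLocallyNoetherian q
  have hpb : IsIso (q.fiberι (q x)) := by
    haveI : IsIso ((Spec (CommRingCat.of k)).fromSpecResidueField (q x)) := H23.RigidBase.isIso_fromSpecResidueField k _
    exact inferInstanceAs (IsIso (pullback.fst q _))
  refine ⟨Flat.stalkMap q x, ?_⟩
  haveI := hpb
  haveI : IsReduced (q.fiber (q x)) := isReduced_of_isOpenImmersion (q.fiberι (q x))
  haveI : IsLocallyNoetherian (q.fiber (q x)) := isLocallyNoetherian_of_isOpenImmersion (q.fiberι (q x))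
  refine isCohenMacaulayLocalRing_of_reduced _ ?_
  rw [ringKrullDim_eq_of_ringEquiv (asIso ((q.fiberι (q x)).stalkMap (q.asFiber x))).commRingCatIsoToRingEquiv.symm]
  refine (SchTop.ringKrullDim_stalk_le _).trans ?_
  haveI : Subsingleton ↥(Spec (CommRingCat.of k)) := inferInstanceAs (Subsingleton (PrimeSpectrum k))
  rw [AlgSpC7.FibreDimSp.topologicalKrullDim_eq_iSup_fibreDimAt q]
  exact iSup_le hdim

end Groth.Agent.CStk17.ReducedCM
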